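import Cfsg.Agent.Lib.ZB.T08_0
import Cfsg.Agent.Lib.BG.T06_1

set_option autoImplicit false
set_option linter.unusedVariables false
set_option linter.style.haveILetI false

namespace Cfsg.Lib.BG.Z

open Subgroup
open scoped Cfsg.Lib.Transfer

variable {G : Type*} [Group G] [Finite G] [Sz G]

/-- B&G Theorem 8.1(b). -/
theorem SCN_Fitting_Uniqueness {p : ℕ} [Fact p.Prime] {M P A : Subgroup G} (hM : Mx M)
    (hF : IsPGroup p 𝐅(M)) (hP : Syl p P M) (h3 : 3 ≤ rk p 𝐅(M)) (hA : IsSCN P A) (hA3 : 3 ≤ rk p A) :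
    Syl p P ⊤ ∧ A ≤ 𝐅(M) ∧ Uniq A := by
  obtain ⟨W, hW⟩ := ZJ_factorisation (G := G) p
  have normW : ∀ L S : Subgroup G, Mx L → 𝐎({p}ᶜ, L) = ⊥ → Syl p S L → S ≠ ⊥ → 𝐍(W S) = L := by
    intro L S hL h0 hS h1
    obtain ⟨w1, -, w3, w4⟩ := hW S hS.pgroup
    have := w4 L (mmax_sol hL) (mFT_odd L) hS
    rw [h0, bot_sup_eq, inf_eq_left] at this
    exact mmax_normal hL ⟨w1.trans hS.le, this⟩ (w3 h1)
  have h0 : 𝐎({p}ᶜ, M) = ⊥ := by
    by_contra e
    refine Fitting_ne_bot (sol_of_le (mmax_sol hM) (pcore_le _ _)) e ?_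
    rw [Fitting_pcore, pcore_eq_bot (by rw [compl_compl]; exact PiGrp.p_iff.2 hF)]
  have hA1 : A ≠ ⊥ := A10.ne_bot_of_rk_pos (p := p) (by omega)
  have nS : ∀ S : Subgroup G, Syl p S M → S ≠ ⊥ → 𝐍(S) ≤ M := fun S hS h1 =>
    (hW S hS.pgroup).2.1.trans (normW M S hM h0 hS h1).le
  have hPG : Syl p P ⊤ := hP.of_norm_le le_top (inf_le_right.trans (nS P hP (ne_bot_mono hA1 hA.1)))
  have hAF : A ≤ 𝐅(M) := by
    rw [Fitting_eq_pcore h0, ← O2_eq_pcore h0]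
    exact odd_p_abelian_constrained (mmax_sol hM) (mFT_odd M) hP (SCN_nml hA) (SCN_abelian hA)
  refine ⟨hPG, hAF, M, hM, hA.1.trans hP.le, ?_⟩
  have hFP : 𝐅(M) ≤ P := hP.ge_of_nml (Fitting_nml M) (PiGrp.p_iff.2 hF)
  have hCM : 𝐂(A) ≤ M := by
    have hZ : 𝐙(𝐅(M)) ≤ A := (inf_le_inf hFP (cent_anti hAF)).trans (SCN_cent hA).le
    exact (cent_anti hZ).trans (mmax_cent_le hM (Fitting_nml M).center
      (center_ne_bot_of_nil (Fitting_nil M) (mmax_Fitting_ne_bot hM)))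
  have pA := pgroup_of_le hP.pgroup hA.1
  have inv : ∀ Y : Subgroup G, PiGrp {p}ᶜ Y → A ≤ 𝐍(Y) → Y = ⊥ := fun Y hY hn =>
    (SCN_normed_constrained hPG hA hA1).inv_eq_bot hM hAF (PiGrp.p_iff.2 hF)
      (by rw [inf_eq_left.2 (abelian_cent (SCN_abelian hA))]; exact hA3.trans (rk_le_rank p A))
      (eq_bot_mono h0 ((le_of_eq (by rw [inf_eq_right.2 hCM])).trans
        (p'core_cent_pgroup (mmax_sol hM) (hA.1.trans hP.le) pA))) hY hn
  suffices key : ∀ (n : ℕ) (L R : Subgroup G), Mx L → A ≤ R → Syl p R (L ⊓ M) → Nat.card G - Nat.card R = n →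
      L = M by
    intro L hL hAL
    obtain ⟨R, hR, hAR⟩ := Syl.exists_ge pA (le_inf hAL (hA.1.trans hP.le))
    exact key _ L R hL hAR hR rfl
  intro n
  induction n using Nat.strong_induction_on with
  | _ n ih =>
  intro L R hL hAR hR hn
  have hR1 := ne_bot_mono hA1 hAR
  have nR : 𝐍(R) ≤ M := by
    obtain ⟨S, hS, hRS⟩ := Syl.exists_ge hR.pgroup (hR.le.trans inf_le_right)
    rcases hRS.eq_or_lt with e | lt
    · exact nS R (e ▸ hS) hR1
    · obtain ⟨L', hL', hle⟩ := mFT_pgroup_norm_mmax hR.pgroup hR1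
      have lt' := nil_norm_grow hS.nil lt
      obtain ⟨R', hR', hle'⟩ := Syl.exists_ge (pgroup_of_le hS.pgroup (inf_le_left : S ⊓ 𝐍(R) ≤ S))
        (le_inf (inf_le_right.trans hle) (inf_le_left.trans hS.le))
      have h1 := Core.card_lt_card_of_lt (lt'.trans_le hle')
      have h2 := card_le_card_group R'
      exact ih _ (by omega) L' R' hL' (hAR.trans (lt'.le.trans hle')) hR' rfl ▸ hle
  have hRL : Syl p R L := hR.of_norm_le inf_le_left (inf_le_inf_left _ nR)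
  have e := normW L R hL (inv _ (pcore_pi _ _) ((hAR.trans hRL.le).trans (pcore_nml _ L).norm)) hRL hR1
  have hRM : Syl p R M := hR.of_norm_le inf_le_right
    (le_inf (inf_le_right.trans ((hW R hR.pgroup).2.1.trans e.le)) inf_le_left)
  rw [← e, normW M R hM h0 hRM hR1]

end Cfsg.Lib.BG.Z
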