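import Cfsg.Agent.Lib.ZB.T07_6
import Cfsg.Agent.Lib.ZB.T08_1
import Cfsg.Agent.Lib.ZB.T08_1b
import Cfsg.Agent.Lib.BG.T04_18
import Cfsg.Agent.Lib.BG.T04_PGroup

set_option autoImplicit false
set_option linter.unusedVariables false

namespace Cfsg.Lib.BG.Z

open Subgroup
open scoped Cfsg.Lib.Transfer

variable {G : Type*} [Group G] [Finite G]

/-- A `p'`-subgroup normalized by a Sylow `p`-subgroup of a solvable group lies in `O_{p'}`. -/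
theorem A9.norm_Sylow_p'core {p : ℕ} [Fact p.Prime] (hp2 : p ≠ 2) {M P K : Subgroup G} (hs : Group.IsSolvable M)
    (hP : Syl p P M) (hKM : K ≤ M) (hK : PiGrp {p}ᶜ K) (hn : P ≤ 𝐍(K)) : K ≤ 𝐎({p}ᶜ, M) := by
  obtain ⟨E, hE⟩ := exists_elem_rk p P
  exact norm_pmaxElem_p'core hp2 hs ((hE.mono hP.le).maxElem_of_rk hP.rk_eq.ge) hKM hK (hE.le.trans hn)

/-- B&G Theorem 4.20(c) for the largest prime divisor. -/
theorem A9.exists_pcore_Sylow {M : Subgroup G} (hs : Group.IsSolvable M) (hodd : Odd (Nat.card M)) (h1 : M ≠ ⊥)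
    (h2 : rank 𝐅(M) ≤ 2) : ∃ q : ℕ, q.Prime ∧ q ∣ Nat.card M ∧ Syl q 𝐎({q}, M) M := by
  have hne : (Nat.card M).primeFactors.Nonempty := Nat.nonempty_primeFactors.mpr (M.one_lt_card_iff_ne_bot.mpr h1)
  obtain ⟨hq, hd, -⟩ := Nat.mem_primeFactors.mp ((Nat.card M).primeFactors.max'_mem hne)
  haveI := Fact.mk hq
  exact ⟨_, hq, hd, rank2_max_pcore_Sylow hs hodd h2 fun q hq hd =>
    Finset.le_max' _ q (Nat.mem_primeFactors.mpr ⟨hq, hd, Nat.card_pos.ne'⟩)⟩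

theorem A9.Fitting_le_sup {p : ℕ} [Fact p.Prime] {H R : Subgroup G} (hR : Syl p R H) : 𝐅(H) ≤ 𝐎({p}ᶜ, H) ⊔ R := by
  rw [← (nil_pcore_dprod (Fitting_nil H) {p}).sup, sup_comm]
  exact sup_le_sup ((Fitting_nml H).pcore_le _) (((Fitting_nml H).pcore_le _).trans hR.pcore_le)

/-- Frattini factorization when `H' ≤ F(H)`. -/
theorem A9.der_Fitting_frattini {p : ℕ} [Fact p.Prime] {H R : Subgroup G} (hR : Syl p R H) (h : ⁅H, H⁆ ≤ 𝐅(H)) :
    𝐎({p}ᶜ, H) ⊔ (H ⊓ 𝐍(R)) = H := by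
  have h1 : 𝐎({p}ᶜ, H) ⊔ R ≤ H := sup_le (pcore_le _ H) hR.le
  have h2 := Syl.frattini (hR.of_le le_sup_right h1) (Nml.of_der_le (h.trans (A9.Fitting_le_sup hR)) h1)
  rwa [sup_assoc, sup_eq_right.mpr (le_inf hR.le (le_norm R))] at h2

variable [Sz G]

theorem A9.norm_Sylow_le {p : ℕ} [Fact p.Prime] {M P : Subgroup G} (hM : Mx M) (hP : Syl p P M) (hP1 : P ≠ ⊥)
    (h : ∀ K : Subgroup G, PiGrp {p}ᶜ K → P ≤ 𝐍(K) → K ≤ M) : 𝐍(P) ≤ M := by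
  have hp2 := mFT_pgroup_ne_two hP.pgroup hP1
  by_cases hO : 𝐎({p}ᶜ, M) = ⊥
  · have hF : IsPGroup p 𝐅(M) := Fitting_eq_pcore hO ▸ pcore_pgroup p M
    by_cases h3 : 3 ≤ rk p 𝐅(M)
    · obtain ⟨A, hA, hA3⟩ := rank3_SCN3 hp2 hP.pgroup (h3.trans ((rk_mono (Fitting_le M) p).trans hP.rk_eq.ge))
      exact ((SCN_Fitting_Uniqueness hM hF hP h3 hA hA3).2.2.uniqMax hM ((SCN_le hA).trans hP.le)).norm_le_of_norm
        hP1 (mFT_pgroup_proper hP.pgroup) (le_norm_of_le (SCN_le hA))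
    · obtain ⟨q, hq, hd, hQ⟩ := A9.exists_pcore_Sylow (mmax_sol hM) (mFT_odd M) (mmax_ne_bot hM)
        (by rw [rank_eq_rk_of_pgroup hF]; omega)
      haveI := Fact.mk hq
      obtain rfl : q = p := by
        by_contra hne
        exact hQ.ne_bot' hd (eq_bot_mono hO (pcore_mono (Set.singleton_subset_iff.mpr hne) M))
      rw [← hQ.eq_of_le' hP hP.pcore_le] at hP1 ⊢
      exact (mmax_normal hM (pcore_nml _ M) hP1).le
  · intro g hg
    rw [← mmax_normal hM (pcore_nml _ M) hO]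
    have hn : P ≤ 𝐍(g ⋆ 𝐎({p}ᶜ, M)) := by
      rw [← Transfer.conj_normalizer, ← conj_eq_of_norm hg]
      exact Transfer.conj_mono g (hP.le.trans (pcore_nml _ M).norm)
    exact Transfer.mem_normalizer_of_conj_le (A9.norm_Sylow_p'core hp2 (mmax_sol hM) hP
      (h _ ((pcore_pi _ M).conj g) hn) ((pcore_pi _ M).conj g) hn)

/-- B&G Theorem 9.1(b). -/
theorem noncyclic_normed_sub_Uniqueness {p : ℕ} [Fact p.Prime] {M B : Subgroup G} (hM : Mx M) (hBM : B ≤ M)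
    (hB : IsElementaryAbelian p B) (hnc : ¬ IsCyclic B)
    (h : ∀ K : Subgroup G, PiGrp {p}ᶜ K → B ≤ 𝐍(K) → K ≤ M) : Uniq B := by
  by_contra hu
  have hB1 : B ≠ ⊥ := by
    rintro rfl
    exact hnc inferInstance
  obtain ⟨H₀, hH₀, hBH₀, hne₀⟩ := exists_mmax_ne_of_not_uniq hu hM hBM
  obtain ⟨R, hBR, ⟨hR, hRM, H, hH, hRH, hne⟩, hmax⟩ := Core.exists_maximal_ge
    (P := fun R => IsPGroup p R ∧ R ≤ M ∧ ∃ H, Mx H ∧ R ≤ H ∧ H ≠ M) ⟨elab_pgroup hB, hBM, H₀, hH₀, hBH₀, hne₀⟩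
  have hR1 : R ≠ ⊥ := ne_bot_mono hB1 hBR
  have hN : 𝐍(R) ≤ M := by
    obtain ⟨P, hP, hRP⟩ := Syl.exists_ge hR hRM
    rcases hRP.eq_or_lt with rfl | hlt
    · exact A9.norm_Sylow_le hM hP hR1 fun K hK hn => h K hK (hBR.trans hn)
    · obtain ⟨L, hL, hNL⟩ := mFT_pgroup_norm_mmax hR hR1
      by_contra hc
      have h1 := nil_norm_grow hP.nil hlt
      exact h1.ne' (hmax _ ⟨pgroup_of_le hP.pgroup inf_le_left, inf_le_left.trans hP.le, L, hL,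
        inf_le_right.trans hNL, fun e => hc (e ▸ hNL)⟩ h1.le)
  have hS : Syl p R H := Syl.of_norm_le (M := H ⊓ M) (Syl.of_max (le_inf hRH hRM) hR fun Q hQ h1 h2 =>
    (hmax Q ⟨hQ, h2.trans inf_le_right, H, hH, h2.trans inf_le_left, hne⟩ h1).le) inf_le_left (inf_le_inf_left H hN)
  have hO : 𝐎({p}ᶜ, H) ≤ M := h _ (pcore_pi _ H) ((hBR.trans hRH).trans (pcore_nml _ H).norm)
  have h2 : rank 𝐅(H) ≤ 2 := by
    by_contra h3
    exact hne ((Fitting_Uniqueness hH (by omega)).eq hM hH ((A9.Fitting_le_sup hS).trans (sup_le hO hRM))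
      (Fitting_le H))
  exact hne (mmax_eq_of_le hH hM ((A9.der_Fitting_frattini hS (rank2_der1_sub_Fitting (mmax_sol hH) (mFT_odd H)
    h2)).ge.trans (sup_le hO (inf_le_right.trans hN))))

/-- B&G Theorem 9.1(a). -/
theorem noncyclic_cent1_sub_Uniqueness {p : ℕ} [Fact p.Prime] {M B : Subgroup G} (hM : Mx M) (hBM : B ≤ M)
    (hB : IsElementaryAbelian p B) (hnc : ¬ IsCyclic B) (h : ∀ b ∈ B, b ≠ 1 → 𝐂[b] ≤ M) : Uniq B :=
  noncyclic_normed_sub_Uniqueness hM hBM hB hnc fun _ hK hn =>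
    coprime_abelian_gen_cent1 (elab_abelian hB) hnc hn (hK.coprime_pgroup (elab_pgroup hB)).symm
      fun b hb hb1 => inf_le_right.trans (h b hb hb1)

end Cfsg.Lib.BG.Z
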