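import Cfsg.Agent.Lib.ZB.T10_0
import Cfsg.Agent.Lib.BG.T04_18
import Cfsg.Agent.Lib.BG.T01_PLength

set_option autoImplicit false
set_option linter.unusedVariables false

namespace Cfsg.Lib.BG.Z

open Subgroup
open scoped Cfsg.Lib.Transfer

variable {G : Type*} [Group G] [Finite G] [Sz G]

namespace A10

omit [Sz G] in
theorem cj_sigma {p : ℕ} {M L : Subgroup G} (hp : p ∈ sigma M) (h : Cj M L) : p ∈ sigma L := by
  obtain ⟨g, rfl⟩ := h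
  exact sigma_conj hp g

omit [Finite G] [Sz G] in
theorem cj_coatom {M L : Subgroup G} (hM : Mx M) (h : Cj M L) : Mx L := by
  obtain ⟨g, rfl⟩ := h
  exact coatom_conj hM g

omit [Sz G] in
/-- Every `p`-subgroup lies in a conjugate of `M` when `p ∈ σ(M)`. -/
theorem exists_cj_ge {p : ℕ} [Fact p.Prime] {M X : Subgroup G} (hp : p ∈ sigma M) (hX : IsPGroup p X) :
    ∃ L, Cj M L ∧ X ≤ L := by
  obtain ⟨P, hP⟩ := exists_syl p M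
  obtain ⟨g, -, hg⟩ := syl_conj_le (sigma_Sylow_G hp hP) hX le_top
  exact ⟨g⁻¹ ⋆ M, Cj.conj M _, Transfer.conj_le_iff_le_inv_conj.mp (hg.trans hP.1)⟩

theorem sigma_trans_step {p : ℕ} [Fact p.Prime] {M X : Subgroup G} (hM : Mx M) (hp : p ∈ sigma M)
    (hX : IsPGroup p X) (hX1 : X ≠ ⊥)
    (ih : ∀ Y : Subgroup G, X < Y → IsPGroup p Y → TransOn 𝐂(Y) {L | Cj M L ∧ Y ≤ L}) :
    TransOn 𝐂(X) {L | Cj M L ∧ X ≤ L} := by
  have hNt : Loc 𝐍(X) := mFT_norm_proper hX1 (mFT_pgroup_proper hX)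
  obtain ⟨P, hP, hXP⟩ := exists_syl_ge hX (le_norm X)
  obtain ⟨M₃, hM₃, hPM₃⟩ := exists_cj_ge hp (syl_pgroup hP)
  -- every member of the set is conjugate to `M₃` under `C(X)`
  suffices h : ∀ L, Cj M L → X ≤ L → ∃ c ∈ 𝐂(X), L = c ⋆ M₃ by
    rintro L₁ ⟨h₁, h₁'⟩ L₂ ⟨h₂, h₂'⟩
    obtain ⟨c₁, hc₁, rfl⟩ := h L₁ h₁ h₁'
    obtain ⟨c₂, hc₂, rfl⟩ := h L₂ h₂ h₂'
    exact ⟨c₂ * c₁⁻¹, mul_mem hc₂ (inv_mem hc₁), by rw [Transfer.conj_conj]; simp⟩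
  intro L hL hXL
  obtain ⟨S, hS, hXS⟩ := exists_syl_ge hX hXL
  rcases hXS.eq_or_lt with rfl | hlt
  · -- `X` is a Sylow subgroup of `L`
    obtain ⟨g, rfl⟩ := hL.symm.trans hM₃
    have hg : g⁻¹ ∈ L := sigma_Sylow_trans (cj_sigma hp hL) hS
      (Transfer.le_conj_iff_inv_conj_le.mp (hXP.trans hPM₃))
    exact ⟨1, one_mem _, by rw [Transfer.conj_one, conj_eq_of_mem (inv_mem_iff.mp hg)]⟩
  have hX₁ : X < S ⊓ 𝐍(X) := Transfer.lt_inf_normalizer_of_lt (syl_pgroup hS) hlt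
  have hX₁p : IsPGroup p ↥(S ⊓ 𝐍(X)) := pgroup_of_le (syl_pgroup hS) inf_le_left
  obtain ⟨t, ht, htP⟩ := syl_conj_le hP hX₁p inf_le_right
  have hXP' : X < P := by
    refine lt_of_lt_of_le ?_ htP
    rw [← conj_eq_of_norm ht]
    rw [Transfer.conj_lt_conj_iff, conj_eq_of_norm ht]
    exact hX₁
  -- `L` is conjugate to `t⁻¹ ⋆ M₃`
  obtain ⟨c, hc, rfl⟩ := ih _ hX₁ hX₁p (t⁻¹ ⋆ M₃) ⟨(Cj.conj_right_iff _).mpr hM₃,
    Transfer.conj_le_iff_le_inv_conj.mp (htP.trans hPM₃)⟩ L ⟨hL, inf_le_left.trans hS.1⟩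
  suffices h : ∃ d ∈ 𝐂(X), t⁻¹ ⋆ M₃ = d ⋆ M₃ by
    obtain ⟨d, hd, e⟩ := h
    exact ⟨c * d, mul_mem (cent_anti hX₁.le hc) hd, by rw [e, Transfer.conj_conj]⟩
  by_cases h3 : 3 ≤ rk p P
  · have hu := uniqMax_of_uniq (rank3_Uniqueness (mFT_pgroup_proper (syl_pgroup hP)) (h3.trans (rk_le_rank P)))
      (cj_coatom hM hM₃) hPM₃
    exact ⟨1, one_mem _, by
      rw [Transfer.conj_one, conj_eq_of_mem (inv_mem ((uniqMax_ge hu hP.1 hNt).le ht))]⟩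
  · have hpl : PLengthLE p 1 𝐍(X) :=
      rank2_plength1 (mFT_sol hNt) (mFT_odd _) (by rw [← rk_syl hP]; omega)
    have hfr := plength1_Frattini hpl hP
    have ht' : t⁻¹ ∈ 𝐎({p}ᶜ, 𝐍(X)) ⊔ (𝐍(X) ⊓ 𝐍(P)) := by rw [hfr]; exact inv_mem ht
    obtain ⟨o, ho, n, hn, e⟩ := (mem_sup_left_norm (inf_le_left.trans (pcore_nml _ _).norm)).mp ht'
    have hoc : 𝐎({p}ᶜ, 𝐍(X)) ≤ 𝐂(X) :=
      cent_symm ((PiGrp.p_iff.mpr hX).cent (pcore_pi {p}ᶜ _) ((le_norm X).trans (pcore_nml _ _).norm)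
        (pcore_le _ _))
    obtain ⟨d, hd, e'⟩ := ih P hXP' (syl_pgroup hP) M₃ ⟨hM₃, hPM₃⟩ (n ⋆ M₃)
      ⟨(Cj.conj_right_iff _).mpr hM₃, (conj_eq_of_norm hn.2).ge.trans (Transfer.conj_mono n hPM₃)⟩
    exact ⟨o * d, mul_mem (hoc ho) (cent_anti hXP'.le hd), by
      rw [← e, ← Transfer.conj_conj, e', Transfer.conj_conj]⟩

end A10

/-- B&G Theorem 10.1(b). -/
theorem sigma_group_trans_b {p : ℕ} {M X : Subgroup G} (hM : Mx M) (hp : p ∈ sigma M) (hX : IsPGroup p X) :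
    TransOn 𝐂(X) {L | Cj M L ∧ X ≤ L} := by
  haveI := Fact.mk hp.1
  induction X using WellFoundedGT.induction with
  | ind X ih =>
    by_cases hX1 : X = ⊥
    · subst hX1
      rintro L₁ ⟨h₁, -⟩ L₂ ⟨h₂, -⟩
      obtain ⟨g, hg⟩ := h₁.symm.trans h₂
      exact ⟨g, by rw [cent_bot]; trivial, hg⟩
    · exact A10.sigma_trans_step hM hp hX hX1 ih

/-- B&G Theorem 10.1(a): `g = m c` (and also `g = c' m'` up to the order of the factors, see (b)). -/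
theorem sigma_group_trans_a {p : ℕ} {M X : Subgroup G} (hM : Mx M) (hp : p ∈ sigma M) (hX : IsPGroup p X)
    (hXM : X ≤ M) {g : G} (hg : g ⋆ X ≤ M) : ∃ m ∈ M, ∃ c ∈ 𝐂(X), g = m * c := by
  obtain ⟨c, hc, e⟩ := sigma_group_trans_b hM hp hX M ⟨Cj.refl M, hXM⟩ (g⁻¹ ⋆ M)
    ⟨Cj.conj M _, Transfer.conj_le_iff_le_inv_conj.mp hg⟩
  have h : g * c ∈ 𝐍(M) := norm_of_conj_eq (by rw [← Transfer.conj_conj, ← e, Transfer.conj_inv_conj])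
  rw [A10.norm_mmax hM] at h
  exact ⟨g * c, h, c⁻¹, inv_mem hc, by group⟩

/-- B&G Theorem 10.1(c). -/
theorem sigma_group_trans_c {p : ℕ} {M X : Subgroup G} (hM : Mx M) (hp : p ∈ sigma M) (hX : IsPGroup p X)
    (hXM : X ≤ M) : (M ⊓ 𝐍(X)) ⊔ 𝐂(X) = 𝐍(X) := by
  refine le_antisymm (sup_le inf_le_right (cent_le_norm X)) fun g hg => ?_
  obtain ⟨m, hm, c, hc, rfl⟩ := sigma_group_trans_a hM hp hX hXM ((conj_eq_of_norm hg).le.trans hXM)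
  refine mul_mem (mem_sup_left ⟨hm, ?_⟩) (mem_sup_right hc)
  simpa using mul_mem hg (inv_mem (cent_le_norm X hc))

/-- B&G Theorem 10.1(e). -/
theorem sigma_group_trans_e {p : ℕ} {M X : Subgroup G} (hM : Mx M) (hp : p ∈ sigma M) (hX : IsPGroup p X)
    (hXM : X ≤ M) (hC : 𝐂(X) ≤ M) {g : G} (hg : X ≤ g ⋆ M) : g ∈ M := by
  obtain ⟨m, hm, c, hc, e⟩ := sigma_group_trans_a hM hp hX hXM (Transfer.le_conj_iff_inv_conj_le.mp hg)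
  rw [← inv_mem_iff, e]
  exact mul_mem hm (hC hc)

end Cfsg.Lib.BG.Z
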