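import Cfsg.Agent.Lib.ZB.T10_2
import Cfsg.Agent.Lib.ZB.Max

set_option autoImplicit false
set_option linter.unusedVariables false

namespace Cfsg.Lib.BG.Z

open Subgroup
open scoped Cfsg.Lib.Transfer

variable {G : Type*} [Group G] [Finite G] [Sz G]

/-- B&G Lemma 10.12. -/
theorem sigma_disjoint {M H : Subgroup G} (hM : Mx M) (hH : Mx H) (hnc : ¬ Cj M H) :
    alphaCore M ⊓ sigmaCore H = ⊥ ∧ (∀ p ∈ alpha M, p ∉ sigma H) ∧
    (Group.IsNilpotent (sigmaCore M) → sigmaCore M ⊓ sigmaCore H = ⊥ ∧ ∀ p ∈ sigma M, p ∉ sigma H) := by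
  have key : ∀ p ∈ sigma M, p ∈ sigma H → p ∉ alpha M ∧ ¬ Group.IsNilpotent (sigmaCore M) := fun p hpM hpH => by
    haveI := Fact.mk hpM.1
    obtain ⟨S, hS⟩ := Syl.exists p M
    obtain ⟨g, hg⟩ := sigma_pgroup_conj_le hpH hS.pgroup
    have hg' : S ≤ g⁻¹ ⋆ H := Transfer.conj_le_iff_le_inv_conj.mp hg
    have hne : g⁻¹ ⋆ H ≠ M := fun e => hnc ⟨g, by rw [← e, Transfer.conj_inv_conj]⟩
    refine ⟨fun hα => hne ((alpha_Sylow_uniq hM hα hS).eq (mmax_conj hH _) hg'), fun hn => hne ?_⟩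
    have hS' : Syl p S (sigmaCore M) :=
      hS.of_le ((Msigma_Hall hM).ge_of_normal (Msigma_nml M).norm hS.le (PiGrp.of_pgroup hS.pgroup hpM)) (Msigma_le M)
    have hN : M ≤ 𝐍(S) := by
      rw [hS'.eq_of_nil hn]
      exact ((Msigma_nml M).pcore _).norm
    exact (mmax_eq_of_le hM (mmax_conj hH _) (hN.trans (norm_sigma_Sylow (by rw [sigma_conj]; exact hpH)
      ((sigma_Sylow_G hpM hS).of_le hg' le_top)))).symm
  have h1 : ∀ p ∈ alpha M, p ∉ sigma H := fun p hp h => (key p (alpha_sub_sigma hM hp) h).1 hp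
  refine ⟨(Malpha_pi M).inf_eq_bot' (Msigma_pi H) h1, h1, fun hn => ?_⟩
  have h2 : ∀ p ∈ sigma M, p ∉ sigma H := fun p hp h => (key p hp h).2 hn
  exact ⟨(Msigma_pi M).inf_eq_bot' (Msigma_pi H) h2, h2⟩

end Cfsg.Lib.BG.Z
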