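import Cfsg.Agent.Lib.ZB.T10_7
import Cfsg.Agent.Lib.BG.T05_3
import Cfsg.Agent.Lib.ZB.Max

set_option autoImplicit false
set_option linter.unusedVariables false

namespace Cfsg.Lib.BG.Z

open Subgroup
open scoped Cfsg.Lib.Transfer

variable {G : Type*} [Group G] [Finite G]

/-- A `p`-group normalizing a subgroup of order `p` centralizes it. -/
theorem A10.pgroup_cent_of_norm_elem1 {p : ℕ} [Fact p.Prime] {X P H : Subgroup G} (hX : Elem p 1 X H)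
    (hP : IsPGroup p P) (hn : P ≤ 𝐍(X)) : P ≤ 𝐂(X) :=
  cent_symm ((hX.le_of_inf_ne_bot (PGroup.inf_centralizer_ne_bot hX.pgroup hP hn (hX.ne_bot one_ne_zero))))

/-- Two distinct subgroups of order `p` generate an `E_{p^2}`. -/
theorem A10.elem2_eq_sup {p : ℕ} [Fact p.Prime] {A X Y H : Subgroup G} (hA : Elem p 2 A H) (hX : Elem p 1 X A)
    (hY : Elem p 1 Y A) (hne : X ≠ Y) : X ⊔ Y = A :=
  (hX.sup_one hY (abelian_cent' hA.abelian hX.le hY.le) fun h => hne (hY.eq_of_le hX h).symm).eq_of_le hA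
    (sup_le hX.le hY.le)

/-- The transitivity part of B&G Lemma 10.13. -/
theorem A10.elem2_trans {p : ℕ} [hp : Fact p.Prime] {A Z N : Subgroup G} (hA : Elem p 2 A ⊤) (hZ : Elem p 1 Z A)
    (hN : IsPGroup p N) (hNA : N ≤ 𝐍(A)) (hNZ : N ≤ 𝐂(Z)) (hc : ¬ N ≤ 𝐂(A)) :
    TransOn N {A₀ | Elem p 1 A₀ A ∧ A₀ ≠ Z} := by
  have hD : ⁅A, N⁆ = Z := by
    by_contra hne
    have hD1 := hA.one_of_lt (fun e => hc (comm_eq_bot_iff'.mp e))
      (PGroup.commutator_lt hA.pgroup hN hNA (hA.ne_bot two_ne_zero))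
    refine hc ?_
    rw [← A10.elem2_eq_sup hA hD1 hZ hne]
    exact le_cent_sup (A10.pgroup_cent_of_norm_elem1 hD1 hN (right_norm_comm A N)) hNZ
  obtain ⟨x, hx, hxc⟩ := SetLike.not_le_iff_exists.mp hc
  rintro A₁ ⟨h₁, h₁'⟩ A₂ ⟨h₂, h₂'⟩
  obtain ⟨a, ha, ha1⟩ := exists_ne_one (h₁.ne_bot one_ne_zero)
  have hA₁ : zpowers a = A₁ := zpowers_eq_of_prime h₁.prime ha ha1
  have hz : x * a * x⁻¹ * a⁻¹ ∈ Z := by
    rw [← hD, commutator_comm]
    exact comm_mem_comm hx (h₁.le ha)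
  have hz1 : x * a * x⁻¹ * a⁻¹ ≠ 1 := fun e => hxc <| by
    rw [← A10.elem2_eq_sup hA h₁ hZ h₁', cent_sup, ← hA₁, cent_zpowers]
    exact ⟨mem_cent1.mpr (by rw [mul_inv_eq_one, mul_inv_eq_iff_eq_mul] at e; exact e), hNZ hx⟩
  set z := x * a * x⁻¹ * a⁻¹ with hzdef
  have hpow : ∀ k : ℕ, x ^ k * a * (x ^ k)⁻¹ = z ^ k * a := fun k => by
    induction k with
    | zero => simp
    | succ k ih =>
      have e1 : x * z ^ k = z ^ k * x := (mem_cent.mp (hNZ hx) _ (pow_mem hz k)).symm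
      calc x ^ (k + 1) * a * (x ^ (k + 1))⁻¹ = x * (x ^ k * a * (x ^ k)⁻¹) * x⁻¹ := by rw [pow_succ']; group
        _ = z ^ k * (x * a * x⁻¹ * a⁻¹) * a := by rw [ih, ← mul_assoc, e1]; group
        _ = z ^ (k + 1) * a := by rw [pow_succ]
  have ha' : a ∈ Z ⊔ A₂ := by
    rw [A10.elem2_eq_sup hA hZ h₂ h₂'.symm]
    exact h₁.le ha
  obtain ⟨w, hw, b, hb, e⟩ := (mem_sup_left_norm (h₂.le.trans (abelian_norm hA.abelian hZ.le))).mp ha'
  have hw' : w⁻¹ ∈ zpowers z := by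
    rw [zpowers_eq_of_prime hZ.prime hz hz1]
    exact inv_mem hw
  obtain ⟨k, hk⟩ := mem_powers_iff_mem_zpowers.mpr hw'
  refine ⟨x ^ k, pow_mem hx k, ?_⟩
  refine ((h₁.conj (x ^ k)).eq_of_le h₂ ?_).symm
  rw [← hA₁, Transfer.conj_zpowers, hpow, zpowers_le, show z ^ k = w⁻¹ from hk, ← e, inv_mul_cancel_left]
  exact hb

variable [Sz G]

/-- The centralizer of `A` in a non-abelian Sylow subgroup. -/
theorem A10.cent_p2maxElem_Sylow {p : ℕ} [hp : Fact p.Prime] {A S : Subgroup G} (hA : Elem p 2 A ⊤)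
    (hAm : MaxElem p A ⊤) (hS : Syl p S ⊤) (hAS : A ≤ S) (hab : ¬ IsMulCommutative S)
    (hD : p ∈ DD G := by dd) :
    ∃ Y : Subgroup G, IsCyclic Y ∧ omegaOne p 𝐙(S) ≤ Y ∧ A ⊔ Y = S ⊓ 𝐂(A) := by
  by_cases h3 : 3 ≤ rk p S
  · have hr : rk p (S ⊓ 𝐂(A)) ≤ 2 := by
      rw [← rk_Ohm1, (hAm.of_le hAS le_top).Ohm1_cent, hA.rk_eq]
    have hZA : omegaOne p 𝐙(S) ≤ A := (hAm.of_le hAS le_top).Ohm1_center_le
    have hS1 : S ≠ ⊥ := ne_bot_mono (hA.ne_bot two_ne_zero) hAS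
    have hZ : Elem p 1 (omegaOne p 𝐙(S)) A := hA.one_of_lt (Ohm1_center_ne_bot hS.pgroup hS1)
      (lt_of_le_of_ne hZA fun e => by
        rw [inf_eq_left.mpr (cent_symm (e.ge.trans ((Ohm1_le p _).trans inf_le_right)))] at hr
        omega)
    obtain ⟨A₁, hA₁, hdp⟩ := hA.exists_compl hZ
    have e : S ⊓ 𝐂(A₁) = S ⊓ 𝐂(A) := by
      rw [← hdp.sup, cent_sup, ← inf_assoc,
        inf_eq_left.mpr (cent_symm ((Ohm1_le p _).trans inf_le_right) : S ≤ 𝐂(omegaOne p 𝐙(S)))]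
    obtain ⟨T, hTS, hTn, hTi, -, hcyc, -, -, hdp'⟩ := narrow_cent_dprod (hA.ne_twoZ two_ne_zero) hS.pgroup h3
      (hA₁.mono hAS) (by rw [e]; exact hr)
    have hZT : omegaOne p 𝐙(S) ≤ T := by
      have hT1 : T ≠ ⊥ := by
        rintro rfl
        rw [relIndex_bot_left] at hTi
        exact hab (abelian_of_cyclic (cyclic_of_prime (hTi ▸ hp.out)))
      have h1 := Ohm1_ne_bot (pgroup_of_le hS.pgroup (inf_le_left.trans hTS))
        (nil_meet_center hS.nil hTS ((le_norm S).trans hTn) hT1)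
      rw [← hZ.eq_of_ne_bot (Ohm1_mono (inf_le_inf_right _ hTS) p) h1]
      exact (Ohm1_le p _).trans inf_le_left
    refine ⟨T ⊓ 𝐂(A₁), hcyc, le_inf hZT hdp.cent, le_antisymm (sup_le (le_inf hAS hA.cent)
      ((inf_le_inf_right _ hTS).trans e.le)) ?_⟩
    rw [← e, ← hdp'.sup]
    exact sup_le_sup_right hA₁.le _
  obtain ⟨R, C, hR, hRc, hRe, hC, hRC, hsup, hΩ⟩ := mFT_rank2_Sylow_cprod hS (by omega) hab
  have hRS : R ≤ S := hsup ▸ le_sup_left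
  have hSC : S ≤ 𝐂(C) := hsup ▸ sup_le hRC (abelian_cent (abelian_of_cyclic hC))
  have hZC : 𝐙(S) ≤ C := fun a ha => by
    obtain ⟨r, hr, c, hc, rfl⟩ := (mem_sup_right_norm (norm_of_cent hRC)).mp (hsup.ge ha.1)
    refine mul_mem (Ohm1_le p C (hΩ.ge ⟨hr, ?_⟩)) hc
    simpa using mul_mem (cent_anti hRS ha.2) (inv_mem (cent_symm hRC hc))
  have hAC : ¬ A ≤ C := fun h => hA.not_cyclic le_rfl (cyclic_of_le hC h)
  have hle : A ⊔ C ≤ S ⊓ 𝐂(A) :=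
    sup_le (le_inf hAS hA.cent) (le_inf (hsup ▸ le_sup_right) (cent_symm (hAS.trans hSC)))
  refine ⟨C, hC, (Ohm1_le p _).trans hZC, le_antisymm hle ?_⟩
  have hi : C.relIndex S = p ^ 2 := by
    have e : C ⊓ R = 𝐙(R) := le_antisymm
      (fun x hx => hΩ.le (PGroup.mem_omegaOne hx.1 (hRe x hx.2))) (le_inf (hΩ.ge.trans (Ohm1_le p C)) inf_le_left)
    have h1 := Core.card_inf_mul_relIndex C R
    rw [e, A10.card_center_p3group hR hRc, hRc, pow_succ' p 2] at h1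
    rw [← hsup, Core.relIndex_sup_of_le_normalizer (norm_of_cent hRC)]
    exact Nat.eq_of_mul_eq_mul_left hp.out.pos h1
  rw [← relIndex_mul_relIndex C (A ⊔ C) S le_sup_right (hle.trans inf_le_left),
    ← relIndex_mul_relIndex (A ⊔ C) (S ⊓ 𝐂(A)) S hle inf_le_left] at hi
  have hdvd : ∀ n : ℕ, n ∣ p ^ 2 → n ≠ 1 → p ≤ n := fun n h1 h2 => by
    obtain ⟨k, -, rfl⟩ := (Nat.dvd_prime_pow hp.out).mp h1
    exact Nat.le_self_pow (by rintro rfl; exact h2 rfl) p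
  have h1 := hdvd _ (Dvd.intro _ hi) fun e => hAC (le_sup_left.trans (relIndex_eq_one.mp e))
  have h2 := hdvd _ ((Dvd.intro_left _ rfl).trans (Dvd.intro_left _ hi)) fun e =>
    hAC ((le_inf hAS (cent_symm ((relIndex_eq_one.mp e).trans inf_le_right))).trans hZC)
  refine relIndex_eq_one.mp ?_
  by_contra hne
  have h3 := hdvd _ ((Dvd.intro _ rfl).trans (Dvd.intro_left _ hi)) hne
  have h4 := Nat.mul_le_mul h1 (Nat.mul_le_mul h3 h2)
  rw [hi] at h4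
  have := hp.out.one_lt
  nlinarith

/-- B&G Lemma 10.13. -/
theorem basic_p2maxElem_structure {p : ℕ} [Fact p.Prime] {A P : Subgroup G} (hA : Elem p 2 A ⊤)
    (hAm : MaxElem p A ⊤) (hP : IsPGroup p P) (hAP : A ≤ P) (hab : ¬ IsMulCommutative P)
    (hD : p ∈ DD G := by dd) :
    Elem p 1 (omegaOne p 𝐙(P)) A ∧
    (∃ Y : Subgroup G, IsCyclic Y ∧ omegaOne p 𝐙(P) ≤ Y ∧
      ∀ A₀ : Subgroup G, Elem p 1 A₀ A → A₀ ≠ omegaOne p 𝐙(P) → DP A₀ Y (P ⊓ 𝐂(A))) ∧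
    TransOn (P ⊓ 𝐍(A)) {A₀ | Elem p 1 A₀ A ∧ A₀ ≠ omegaOne p 𝐙(P)} := by
  obtain ⟨S, hS, hPS⟩ := Syl.exists_ge hP le_top
  obtain ⟨Y, hY, hZY, hsup⟩ := A10.cent_p2maxElem_Sylow hA hAm hS (hAP.trans hPS) fun h => hab (abelian_of_le h hPS)
  have hYc : Y ≤ 𝐂(A) := le_sup_right.trans (hsup.le.trans inf_le_right)
  have hPA : ¬ P ≤ 𝐂(A) := fun h => hab (abelian_of_le
    (abelian_sup hA.abelian (abelian_of_cyclic hY) (cent_symm hYc)) ((le_inf hPS h).trans hsup.ge))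
  have hA1 : A ≠ ⊥ := hA.ne_bot two_ne_zero
  have hZc : P ≤ 𝐂(omegaOne p 𝐙(P)) := cent_symm ((Ohm1_le p _).trans inf_le_right)
  have hZ : Elem p 1 (omegaOne p 𝐙(P)) A := hA.one_of_lt (Ohm1_center_ne_bot hP (ne_bot_mono hA1 hAP))
    (lt_of_le_of_ne (hAm.of_le hAP le_top).Ohm1_center_le fun e => hPA (e ▸ hZc))
  have hZY' : omegaOne p 𝐙(P) ≤ Y := by
    rw [← hZ.eq_of_ne_bot (B := omegaOne p 𝐙(S)) (elab_le_Ohm1 (elab_Ohm1_center p S) (le_inf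
      ((hAm.of_le (hAP.trans hPS) le_top).Ohm1_center_le.trans hAP)
      ((Ohm1_le p _).trans (inf_le_right.trans (cent_anti hPS)))))
      (Ohm1_center_ne_bot hS.pgroup (ne_bot_mono hA1 (hAP.trans hPS)))]
    exact hZY
  have hZP : omegaOne p 𝐙(P) ≤ P := hZ.le.trans hAP
  refine ⟨hZ, ⟨Y ⊓ P, cyclic_of_le hY inf_le_left, le_inf hZY' hZP, fun A₀ h₀ hne => ⟨h₀.le.trans
    (cent_symm (inf_le_left.trans hYc)), h₀.inf_eq_bot fun h => hne ?_, ?_⟩⟩, A10.elem2_trans hA hZ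
    (pgroup_of_le hP inf_le_left) inf_le_right (inf_le_left.trans hZc) fun h => ?_⟩
  · exact cyclic_eq_of_card hY (h.trans inf_le_left) hZY' (h₀.card.trans hZ.card.symm)
  · have e : A₀ ⊔ Y = S ⊓ 𝐂(A) := by
      rw [← hsup, ← A10.elem2_eq_sup hA h₀ hZ hne, sup_assoc, sup_eq_right.mpr hZY']
    rw [← modular_left (h₀.le.trans hAP) (norm_of_cent (hYc.trans (cent_anti h₀.le))), e, inf_right_comm,
      inf_eq_right.mpr hPS]
  · have hlt : P ⊓ 𝐂(A) < P := lt_of_le_of_ne inf_le_left fun e => hPA (e.ge.trans inf_le_right)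
    refine (nil_norm_grow (pgroup_nil hP) hlt).not_ge (le_inf inf_le_left (le_trans (inf_le_inf_left P ?_) h))
    conv_rhs => rw [← (hAm.of_le hAP le_top).Ohm1_cent]
    exact norm_Ohm1 le_rfl p

end Cfsg.Lib.BG.Z
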