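import Cfsg.Agent.Lib.ZB.T10_1
import Cfsg.Agent.Lib.BG.Hall
import Cfsg.Agent.Lib.BG.T01_Cyclic

set_option autoImplicit false
set_option linter.unusedVariables false

namespace Cfsg.Lib.BG.Z

open Subgroup
open scoped Cfsg.Lib.Transfer

variable {G : Type*} [Group G] [Finite G]

namespace A10

omit [Finite G] in
theorem nil_of_map {G' : Type*} [Group G'] (f : G →* G') {H : Subgroup G} (hk : H ⊓ f.ker = ⊥)
    (h : Group.IsNilpotent (H.map f)) : Group.IsNilpotent H := by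
  refine Core.isNilpotent_of_injective (f.subgroupMap H) ((injective_iff_map_eq_one _).mpr fun a ha => ?_)
  have : (a : G) ∈ H ⊓ f.ker := ⟨a.2, congrArg Subtype.val ha⟩
  rw [hk] at this
  exact Subtype.ext this

/-- A `p'`-group extended by a nilpotent group has a normal `p`-complement. -/
theorem p_complement_of_nil {p : ℕ} {N W L : Subgroup G} (hn : W ≤ 𝐍(N)) (hs : N ⊔ W = L) (hN : PiGrp {p}ᶜ N)
    (hW : Group.IsNilpotent W) : Hall {p}ᶜ 𝐎({p}ᶜ, L) L := by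
  have h1 : W ≤ 𝐍(N ⊔ 𝐎({p}ᶜ, W)) := norm_sup hn (pcore_nml _ W).norm
  have e : L = W ⊔ (N ⊔ 𝐎({p}ᶜ, W)) := by
    rw [← hs, sup_comm N W, ← sup_assoc, sup_assoc W, sup_comm N, ← sup_assoc, sup_eq_left.mpr (pcore_le _ W)]
  refine hall_pcore_of_nml (H := N ⊔ 𝐎({p}ᶜ, W)) (Hall.mk' (e ▸ le_sup_right)
    (hN.sup (pcore_pi _ W) ((pcore_le _ W).trans hn)) ?_) (e ▸ sup_le_norm_right h1)
  rw [e, Core.relIndex_sup_of_le_normalizer h1]
  exact (nil_pcore_Hall hW _).idx.of_dvd (relIndex_dvd_left le_sup_right W)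

/-- The core of B&G 10.2(d): if `r_p(M) ≤ 2` for all `p ∉ π`, then `M' O_π(M) / O_π(M)` is a nilpotent `π'`-group. -/
theorem der1_quo_pcore {π : Set ℕ} {M : Subgroup G} (hs : Group.IsSolvable M) (hodd : Odd (Nat.card M))
    (h2 : ∀ p : ℕ, p.Prime → p ∉ π → rk p M ≤ 2) :
    PiNat πᶜ (𝐎(π, M).relIndex ⁅M, M⁆) ∧
      ∀ H : Subgroup G, PiGrp πᶜ H → H ≤ ⁅M, M⁆ → Group.IsNilpotent H := by
  let f := QuotientGroup.mk' (piCore π M)
  have hF : PiGrp πᶜ 𝐅((⊤ : Subgroup (M ⧸ piCore π M))) := by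
    have h1 : 𝐎(π, 𝐅((⊤ : Subgroup (M ⧸ piCore π M)))) = ⊥ := eq_bot_iff.mpr <|
      ((Fitting_nml _).pcore_le π).trans (Core.piCoreOf_top.trans (Core.piCore_quotient_piCore π M)).le
    have h3 := (nil_pcore_dprod (Fitting_nil (⊤ : Subgroup (M ⧸ piCore π M))) π).sup
    rw [h1, bot_sup_eq] at h3
    rw [← h3]
    exact pcore_pi _ _
  have hker : PiGrp π f.ker := by
    rw [QuotientGroup.ker_mk']
    exact Core.piCore_isPiSubgroup π M
  have htop : (⊤ : Subgroup M).map f = ⊤ := map_top_of_surjective _ (QuotientGroup.mk'_surjective _)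
  have hr : rank 𝐅((⊤ : Subgroup (M ⧸ piCore π M))) ≤ 2 := rank_le_iff.mpr fun p hp => by
    haveI := Fact.mk hp
    by_cases hπ : p ∈ π
    · by_contra h
      exact hF.not_dvd hp hπ (dvd_card_of_rk_pos (by omega))
    · refine (rk_mono (le_top.trans htop.ge)).trans ((rk_map_le f
        ((hker.p'_of_not_mem hπ).of_le inf_le_right)).trans ?_)
      exact rk_le_iff.mpr (PGroup.pRankLE_top_iff.mpr (rk_le_iff.mp (h2 p hp hπ)))
  have hd : ⁅(⊤ : Subgroup (M ⧸ piCore π M)), (⊤ : Subgroup (M ⧸ piCore π M))⁆ ≤ 𝐅(⊤) := by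
    refine rank2_der1_sub_Fitting inferInstance ?_ hr
    rw [card_top]
    exact hodd.of_dvd_nat (card_quotient_dvd_card _)
  have hd' : (⁅M, M⁆.subgroupOf M).map f ≤ 𝐅(⊤) := by
    rw [← Core.commutator_subgroupOf le_rfl le_rfl, map_commutator]
    exact (der_mono le_top).trans hd
  refine ⟨?_, fun H hH hHM => ?_⟩
  · have h := hF.of_le hd'
    unfold PiGrp at h
    rwa [Core.card_map_mk'_eq_relIndex, ← Core.piCoreOf_subgroupOf_self, relIndex_subgroupOf (der_le M)] at h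
  · refine (Core.isNilpotent_subgroupOf_iff (hHM.trans (der_le M))).mp (nil_of_map f ?_
      (nil_of_le (Fitting_nil _) ((map_mono (subgroupOf_mono M hHM)).trans hd')))
    rw [inf_comm]
    exact hker.inf_eq_bot (Core.isPiSubgroup_subgroupOf M hH)

variable [Sz G]

theorem sigma_Sylow_le_der {p : ℕ} [Fact p.Prime] {M P : Subgroup G} (hM : Mx M) (hp : p ∈ sigma M)
    (hP : Syl p P M) : P ≤ ⁅M, M⁆ := by
  have h := focal_subgroup_le (T := ⁅M, M⁆) (sigma_Sylow_G hp hP) fun x hx g _ hg => by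
    obtain ⟨m, hm, c, hc, rfl⟩ := sigma_group_trans_a hM hp
      (pgroup_of_le hP.pgroup (zpowers_le.mpr hx)) ((zpowers_le.mpr hx).trans hP.le) (g := g)
      (by rw [Transfer.conj_zpowers]; exact (zpowers_le.mpr hg).trans hP.le)
    have e : m * c * x * (m * c)⁻¹ * x⁻¹ = m * x * m⁻¹ * x⁻¹ := by
      rw [mul_assoc m c x, ← mem_cent.mp hc x (mem_zpowers x)]
      group
    rw [e]
    exact comm_mem_comm hm (hP.le hx)
  rwa [mFT_der_top, inf_top_eq] at h

theorem der1_idx_sigma' {M : Subgroup G} (hM : Mx M) : PiNat (sigma M)ᶜ (⁅M, M⁆.relIndex M) :=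
  PiNat.compl_iff.mpr fun p hp hσ hd => by
    haveI := Fact.mk hp
    obtain ⟨P, hP⟩ := exists_syl p M
    exact hP.not_dvd' (hd.trans (relIndex_dvd_left (sigma_Sylow_le_der hM hσ hP) M))

theorem sigma_le_der {M X : Subgroup G} (hM : Mx M) (hX : PiGrp (sigma M) X) (hXM : X ≤ M) : X ≤ ⁅M, M⁆ :=
  hX.le_of_relIndex hXM (Nml.der_self M).norm (der1_idx_sigma' hM)

theorem alpha_der1_quo {M : Subgroup G} (hM : Mx M) :
    PiNat (alpha M)ᶜ ((alphaCore M).relIndex ⁅M, M⁆) ∧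
      ∀ H : Subgroup G, PiGrp (alpha M)ᶜ H → H ≤ ⁅M, M⁆ → Group.IsNilpotent H :=
  der1_quo_pcore (mFT_sol hM.1) (mFT_odd M) fun p hp h => by
    haveI := Fact.mk hp
    rw [mem_alpha_iff] at h
    omega

end A10

variable [Sz G]

/-- B&G Theorem 10.2(c). -/
theorem Msigma_der1 {M : Subgroup G} (hM : Mx M) : sigmaCore M ≤ ⁅M, M⁆ :=
  A10.sigma_le_der hM (pcore_pi _ M) (pcore_le _ M)

/-- B&G Theorem 10.2(a). -/
theorem Malpha_Hall {M : Subgroup G} (hM : Mx M) : Hall (alpha M) (alphaCore M) M := by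
  refine Hall.trans_idx (Hall.mk' ((Malpha_sub_Msigma hM).trans (Msigma_der1 hM)) (pcore_pi _ M)
    (A10.alpha_der1_quo hM).1) (der_le M) ?_
  exact (A10.der1_idx_sigma' hM).mono (Set.compl_subset_compl.mpr (alpha_sub_sigma hM))

/-- B&G Theorem 10.2(d): `M' / M_α` is nilpotent. -/
theorem alpha'_der1_nil {M H : Subgroup G} (hM : Mx M) (hH : PiGrp (alpha M)ᶜ H) (hHM : H ≤ ⁅M, M⁆) :
    Group.IsNilpotent H :=
  (A10.alpha_der1_quo hM).2 H hH hHM

/-- `M'` has a normal `p`-complement for `p ∉ α(M)`. -/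
theorem A10.alpha'_der1_complement {p : ℕ} {M : Subgroup G} (hM : Mx M) (hp : p ∉ alpha M) :
    Hall {p}ᶜ 𝐎({p}ᶜ, ⁅M, M⁆) ⁅M, M⁆ := by
  obtain ⟨W, hW, hW'⟩ := ((Malpha_Hall hM).of_le ((Malpha_sub_Msigma hM).trans (Msigma_der1 hM))
    (der_le M)).exists_compl ((der_le M).trans (pcore_nml _ M).norm)
  exact A10.p_complement_of_nil hW.norm hW.sup ((Malpha_Hall hM).pi.p'_of_not_mem hp)
    (alpha'_der1_nil hM hW'.pi hW'.le)

/-- B&G Theorem 10.2(b). -/
theorem Msigma_Hall {M : Subgroup G} (hM : Mx M) : Hall (sigma M) (sigmaCore M) M := by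
  have h := A10.hall_pcore_of_forall (π := sigma M) (sol_of_le (A10.mFT_sol hM.1) (der_le M))
    fun p _ hp => A10.alpha'_der1_complement hM fun h => hp (alpha_sub_sigma hM h)
  exact A10.hall_pcore_of_nml (h.trans_idx (der_le M) (A10.der1_idx_sigma' hM)) ((Nml.der_self M).pcore _).norm

theorem Msigma_Hall_G {M : Subgroup G} (hM : Mx M) : Hall (sigma M) (sigmaCore M) ⊤ :=
  (Msigma_Hall hM).trans_idx le_top <| PiNat.compl_iff.mpr fun p hp hσ hd => by
    haveI := Fact.mk hp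
    obtain ⟨P, hP⟩ := A10.exists_syl p M
    exact (A10.sigma_Sylow_G hσ hP).not_dvd' (hd.trans (relIndex_dvd_left hP.le ⊤))

theorem Malpha_Hall_G {M : Subgroup G} (hM : Mx M) : Hall (alpha M) (alphaCore M) ⊤ :=
  ((Malpha_Hall hM).of_le (Malpha_sub_Msigma hM) (pcore_le _ M)).trans (Msigma_Hall_G hM) (alpha_sub_sigma hM)

/-- B&G Theorem 10.2(e). -/
theorem Msigma_ne_bot {M : Subgroup G} (hM : Mx M) : sigmaCore M ≠ ⊥ := by
  intro h
  have hσ : PiGrp (sigma M)ᶜ M := (Msigma_Hall hM).eq_bot_iff.mp h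
  have hr : rank 𝐅(M) ≤ 2 := (A10.rank_mono (Fitting_le M)).trans <| A10.rank_le_iff.mpr fun p hp => by
    haveI := Fact.mk hp
    by_contra h3
    have hα : p ∈ alpha M := A10.mem_alpha_iff.mpr (by omega)
    exact hσ.not_dvd hp (alpha_sub_sigma hM hα) (alpha_sub_sigma hM hα).2.1
  have hne : (Nat.card M).primeFactors.Nonempty :=
    Nat.nonempty_primeFactors.mpr (M.one_lt_card_iff_ne_bot.mpr (A10.mmax_ne_bot hM))
  obtain ⟨hq, hd, -⟩ := Nat.mem_primeFactors.mp ((Nat.card M).primeFactors.max'_mem hne)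
  haveI := Fact.mk hq
  have hS := rank2_max_pcore_Sylow (A10.mFT_sol hM.1) (A10.mFT_odd M) hr
    (p := (Nat.card M).primeFactors.max' hne) fun q hq hd =>
      Finset.le_max' _ q (Nat.mem_primeFactors.mpr ⟨hq, hd, Nat.card_pos.ne'⟩)
  exact hσ.not_dvd hq (A10.mem_sigma_iff.mpr ⟨hd, _, hS,
    (A10.mmax_norm_eq hM (hS.ne_bot' hd) hS.le (pcore_nml _ M).norm).le,
    hM.D_of_nml (pcore_nml _ M) hS.pgroup (hS.ne_bot' hd)⟩) hd

end Cfsg.Lib.BG.Z
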