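import Cfsg.Agent.Lib.ZB.T10_4
import Cfsg.Agent.Lib.BG.T03_6
import Cfsg.Agent.Lib.BG.T06_3

set_option autoImplicit false
set_option linter.unusedVariables false

namespace Cfsg.Lib.BG.Z

open Subgroup
open scoped Cfsg.Lib.Transfer

variable {G : Type*} [Group G] [Finite G] [Sz G]

omit [Sz G] in
theorem A10.exists_prime_dvd_der1_idx {M : Subgroup G} (hs : Group.IsSolvable M) (h1 : M ≠ ⊥) :
    ∃ q : ℕ, q.Prime ∧ q ∣ ⁅M, M⁆.relIndex M := by
  refine Nat.exists_prime_and_dvd fun h => ?_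
  haveI := (nontrivial_iff_ne_bot M).mpr h1
  have h2 := map_lt_map_iff_of_injective M.subtype_injective |>.mpr (Group.IsSolvable.commutator_lt_top_of_nontrivial M)
  rw [map_subtype_commutator, Core.map_subtype_top] at h2
  exact h2.not_ge (relIndex_eq_one.mp h)

/-- B&G Theorem 10.6. -/
theorem mFT_proper_plength1 (p : ℕ) [Fact p.Prime] {H : Subgroup G} (hH : Loc H) : PLengthLE p 1 H := by
  obtain ⟨M, hM, hHM⟩ := exists_Mx hH
  refine plength1S ?_ hHM
  have hs := A10.mFT_sol hM.1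
  by_cases h2 : rk p M ≤ 2
  · exact rank2_plength1 hs (A10.mFT_odd M) h2
  have hα : p ∈ alpha M := A10.mem_alpha_iff.mpr (by omega)
  have hMa := Malpha_Hall hM
  refine plength1_of_p'_index (pcore_nml (alpha M) M) (hMa.not_dvd Fact.out hα) ?_
  obtain ⟨K, hK, hK'⟩ := hMa.exists_compl (pcore_nml _ M).norm
  have hcop := hMa.pi.coprime hK'.pi
  have e := (coprime_der1_sdprod hK hcop (sol_of_le hs hMa.le)
    ((Malpha_sub_Msigma hM).trans (Msigma_der1 hM))).1
  obtain ⟨q, hq, hd⟩ := A10.exists_prime_dvd_der1_idx hs (A10.mmax_ne_bot hM)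
  haveI := Fact.mk hq
  have hσ := der1_quo_sigma' hM hd
  obtain ⟨Q, hQ⟩ := Syl.exists q K
  have hQM := hQ.of_Hall hK' fun h => hσ (alpha_sub_sigma hM h)
  obtain ⟨x, hx, ho, -, hZ⟩ := cent1_sigma'_Zgroup hM hσ hQM (hQM.ne_bot' (hd.trans (relIndex_dvd_card _ _)))
  have h := odd_sdprod_Zgroup_cent_prime_plength1 p (R₀ := zpowers x) hK.norm (by rw [hK.sup]; exact hs)
    (A10.mFT_odd _) hcop (zpowers_le.mpr (hQ.le hx.1)) (by rw [Nat.card_zpowers, ho]; exact hq)
    (by rw [cent_zpowers]; exact hZ)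
  rw [e] at h
  exact h

end Cfsg.Lib.BG.Z
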