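import Cfsg.Agent.Lib.ZB.T10_6
import Cfsg.Agent.Lib.BG.T04_PGroup
import Cfsg.Agent.Lib.PGroup.MaxClass

set_option autoImplicit false
set_option linter.unusedVariables false

namespace Cfsg.Lib.BG.Z

open Subgroup
open scoped Cfsg.Lib.Transfer

variable {G : Type*} [Group G] [Finite G]

namespace A10

/-- A non-abelian group of order `p ^ 3` has centre of order `p`. -/
theorem card_center_p3group {p : ℕ} [Fact p.Prime] {S : Subgroup G} (hab : ¬ IsMulCommutative S)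
    (hc : Nat.card S = p ^ 3) : Nat.card ↥𝐙(S) = p := by
  rw [← Core.map_subtype_center, Core.card_map_subtype]
  refine PGroup.maxClass_card_center (n := 0) hc fun h => hab (abelian_iff_der.mpr ?_)
  rw [← map_subtype_commutator]
  exact (congrArg (map S.subtype) h).trans (map_bot _)

/-- A non-abelian group of order `p ^ 3` is extraspecial. -/
theorem der_eq_center_p3group {p : ℕ} [hp : Fact p.Prime] {S : Subgroup G} (hab : ¬ IsMulCommutative S)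
    (hc : Nat.card S = p ^ 3) : ⁅S, S⁆ = 𝐙(S) :=
  (eq_bot_or_eq_of_prime (by rw [card_center_p3group hab hc]; exact hp.out) (le_inf (der_le S)
    (comm_eq_bot_iff.mp (PGroup.class_two_of_card_le (IsPGroup.of_card hc) hc.le)))).resolve_left
    fun h => hab (abelian_iff_der.mpr h)

/-- A maximal subgroup containing the normalizer of a Sylow subgroup. -/
theorem exists_mmax_norm_Sylow [Sz G] {p : ℕ} [Fact p.Prime] {P : Subgroup G} (hP : Syl p P ⊤) (h1 : P ≠ ⊥)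
    (hD : p ∈ DD G := by dd) :
    ∃ M : Subgroup G, Mx M ∧ 𝐍(P) ≤ M ∧ Syl p P M ∧ p ∈ sigma M := by
  obtain ⟨M, hM, hN⟩ := exists_Mx (mFT_norm_proper h1 (mFT_pgroup_proper hP.pgroup))
  have hPM : Syl p P M := hP.of_le ((le_norm P).trans hN) le_top
  exact ⟨M, hM, hN, hPM, mem_sigma_iff.mpr ⟨hPM.dvd_card' h1, P, hPM, hN, hD⟩⟩

end A10

variable [Sz G]

/-- B&G Corollary 10.7(a), second part. -/
theorem mFT_Sylow_der1 {p : ℕ} [Fact p.Prime] {P : Subgroup G} (hP : Syl p P ⊤)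
    (hD : p ∈ DD G := by dd) : P ≤ ⁅𝐍(P), 𝐍(P)⁆ := by
  by_cases h1 : P = ⊥
  · exact h1.le.trans bot_le
  obtain ⟨M, hM, -, hPM, hσ⟩ := A10.exists_mmax_norm_Sylow hP h1
  exact (plength1_Sylow_sub_der1 (mFT_proper_plength1 p hM.1) hPM (A10.sigma_Sylow_le_der hM hσ hPM)).trans
    (der_mono inf_le_right)

/-- B&G Corollary 10.7(a), first part. -/
theorem mFT_Sylow_sdprod_commg {p : ℕ} [Fact p.Prime] {P V : Subgroup G} (hP : Syl p P ⊤) (hV : SD P V 𝐍(P))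
    (hD : p ∈ DD G := by dd) :
    ⁅P, V⁆ = P := by
  refine (coprime_der1_sdprod hV ?_ (pgroup_sol hP.pgroup) (mFT_Sylow_der1 hP)).1
  rw [← hV.relIndex_left]
  exact (hP.of_le (le_norm P) le_top).coprime

/-- B&G Corollary 10.7(b). -/
theorem mFT_rank2_Sylow_cprod {p : ℕ} [Fact p.Prime] {P : Subgroup G} (hP : Syl p P ⊤) (h2 : rk p P ≤ 2)
    (hab : ¬ IsMulCommutative P)
    (hD : p ∈ DD G := by dd) :
    ∃ S C : Subgroup G, ¬ IsMulCommutative S ∧ Nat.card S = p ^ 3 ∧ (∀ x ∈ S, x ^ p = 1) ∧ IsCyclic C ∧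
      S ≤ 𝐂(C) ∧ S ⊔ C = P ∧ omegaOne p C = 𝐙(S) := by
  have h1 : P ≠ ⊥ := by
    rintro rfl
    exact hab abelian_bot
  obtain ⟨V, hV, hV'⟩ := (hP.of_le (le_norm P) le_top).exists_compl le_rfl
  obtain ⟨S, C, h₁, h₂, h₃, h₄, h₅, h₆, h₇⟩ := (rank2_coprime_comm_cprod
    (A10.mFT_ne_two (pgroup_dvd_card hP.pgroup h1)) hP.pgroup h1 h2 hV.norm hV'.pi.coprime_p (A10.mFT_odd V)
    (mFT_Sylow_sdprod_commg hP hV)).2.resolve_left hab
  exact ⟨S, C, h₁, h₂, h₃, h₄, h₅, h₆, h₇.trans (A10.der_eq_center_p3group h₁ h₂)⟩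

/-- B&G Corollary 10.7(c). -/
theorem mFT_sub_Sylow_trans {p : ℕ} [Fact p.Prime] {P Q : Subgroup G} (hP : Syl p P ⊤) (hQ : Q ≤ P) {x : G}
    (hx : x ⋆ Q ≤ P)
    (hD : p ∈ DD G := by dd) : ∃ y ∈ 𝐍(P), ∃ c ∈ 𝐂(Q), x = y * c := by
  by_cases h1 : P = ⊥
  · exact ⟨x, by rw [h1, norm_bot]; trivial, 1, one_mem _, (mul_one x).symm⟩
  obtain ⟨M, hM, -, hPM, hσ⟩ := A10.exists_mmax_norm_Sylow hP h1
  obtain ⟨m, hm, c, hc, rfl⟩ := sigma_group_trans_a hM hσ (pgroup_of_le hP.pgroup hQ) (hQ.trans hPM.le)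
    (hx.trans hPM.le)
  rw [← Transfer.conj_conj, conj_eq_of_cent hc] at hx
  obtain ⟨u, hu, d, hd, rfl⟩ := plength1_Sylow_trans (mFT_proper_plength1 p hM.1) hPM hQ hm hx
  exact ⟨u, hu.2, d * c, mul_mem hd.2 hc, mul_assoc _ _ _⟩

/-- B&G Corollary 10.7(d). -/
theorem mFT_subnorm_Sylow {p : ℕ} [Fact p.Prime] {P Q : Subgroup G} (hP : Syl p P ⊤) (hQ : Q ≤ P)
    (hD : p ∈ DD G := by dd) :
    Syl p (P ⊓ 𝐍(Q)) 𝐍(Q) := by
  obtain ⟨S, hS, hQS⟩ := Syl.exists_ge (pgroup_of_le hP.pgroup hQ) (le_norm Q)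
  obtain ⟨x, -, hx⟩ := hP.exists_conj_le hS.pgroup le_top
  obtain ⟨y, hy, c, hc, rfl⟩ := mFT_sub_Sylow_trans hP hQ ((Transfer.conj_mono x hQS).trans hx)
  have hS' : Syl p (c ⋆ S) 𝐍(Q) := hS.conj_of_mem (cent_le_norm Q hc)
  refine hS'.of_ge (le_inf ?_ hS'.le) inf_le_right (hP.pi.of_le inf_le_left)
  rw [← Transfer.conj_conj, Transfer.conj_le_iff_le_inv_conj, conj_eq_of_norm (inv_mem hy)] at hx
  exact hx

/-- B&G Corollary 10.7(e). -/
theorem mFT_Sylow_normalS {p : ℕ} [Fact p.Prime] {P Q R : Subgroup G} (hP : Syl p P ⊤) (hR : IsPGroup p R)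
    (hQP : Q ≤ P) (hQR : Q ≤ R) (hN : 𝐍(P) ≤ 𝐍(Q))
    (hD : p ∈ DD G := by dd) : 𝐍(R) ≤ 𝐍(Q) := by
  obtain ⟨x, -, hx⟩ := hP.exists_conj_le hR le_top
  have key : ∀ y ∈ 𝐍(R), x * y ∈ 𝐍(Q) := fun y hy => by
    obtain ⟨u, hu, c, hc, e⟩ := mFT_sub_Sylow_trans hP hQP (x := x * y) (by
      rw [← Transfer.conj_conj]
      exact (Transfer.conj_mono x (conj_le_of_norm hQR hy)).trans hx)
    rw [e]
    exact mul_mem (hN hu) (cent_le_norm Q hc)
  intro y hy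
  simpa using mul_mem (inv_mem (key 1 (one_mem _))) (key y hy)

end Cfsg.Lib.BG.Z
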