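import Cfsg.Agent.Lib.ZB.T10_8

set_option autoImplicit false
set_option linter.unusedVariables false

namespace Cfsg.Lib.BG.Z

open Subgroup
open scoped Cfsg.Lib.Transfer

variable {G : Type*} [Group G] [Finite G] [Sz G]

/-- The common core of B&G Corollary 10.9(a): `X` centralizes a Sylow `p`-subgroup of `M'`. -/
theorem A10.beta'_cent_Sylow_der1 {p q : ℕ} [Fact p.Prime] [Fact q.Prime] {M X : Subgroup G} (hM : Mx M)
    (hp : p ∉ beta M) (hq : q ∉ beta M) (hX : IsPGroup q X) (h : (p ≠ q ∧ X ≤ ⁅M, M⁆) ∨ (p < q ∧ X ≤ M)) :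
    ∃ P : Subgroup G, Syl p P ⁅M, M⁆ ∧ X ≤ 𝐂(P) := by
  have hXM : X ≤ M := h.elim (fun h => h.2.trans (der_le M)) fun h => h.2
  obtain ⟨W, hW, hXW⟩ := Hall.exists_ge (π := {p, q}) (A10.mFT_sol hM.1) hXM (PiGrp.of_pgroup hX (by simp))
  have hW' := hW.inf_nml (Nml.der_self M)
  have hnil : Group.IsNilpotent ↥(W ⊓ ⁅M, M⁆) := beta'_der1_nil hM (hW'.pi.mono (by
    rintro r (rfl | rfl)
    · exact hp
    · exact hq)) inf_le_right
  have hP : Syl p 𝐎({p}, W ⊓ ⁅M, M⁆) ⁅M, M⁆ := Syl.of_Hall (nil_pcore_Hall hnil {p}) hW' (by simp)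
  refine ⟨_, hP, h.elim (fun h => nil_cent_of_coprime hnil (le_inf hXW h.2) (pcore_le _ _)
    (coprime_pgroups hX hP.pgroup h.1.symm)) fun h => ?_⟩
  have h1 : X ≤ 𝐎({p}ᶜ, M) := (PiGrp.p_iff.mpr hX).le_of_relIndex hXM (pcore_nml _ M).norm
    (PiNat.p'_iff.mpr fun hd => h.1.not_ge ((beta_max_pdiv hM hp).2.2 q Fact.out hd))
  refine comm_eq_bot_iff'.mp (eq_bot_iff.mpr ((le_inf (comm_le_left ?_) ((commutator_mono le_rfl h1).trans
    (comm_le_right ((hP.le.trans (der_le M)).trans (pcore_nml _ M).norm)))).trans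
    (hP.pi.inf_eq_bot (pcore_pi _ M)).le))
  exact norm_pcore (norm_inf (le_norm_of_le hXW) (hXM.trans (Nml.der_self M).norm)) _

/-- B&G Corollary 10.9(a). -/
theorem beta'_cent_Sylow {p q : ℕ} [Fact p.Prime] [Fact q.Prime] {M X : Subgroup G} (hM : Mx M)
    (hp : p ∉ beta M) (hq : q ∉ beta M) (hX : IsPGroup q X) (h : (p ≠ q ∧ X ≤ ⁅M, M⁆) ∨ (p < q ∧ X ≤ M)) :
    (∃ P : Subgroup G, Syl p P (sigmaCore M) ∧ X ≤ 𝐂(P)) ∧
    (p ∈ alpha M → Uniq (M ⊓ 𝐂(X))) ∧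
    (Syl q X ⁅M, M⁆ → ∃ P : Subgroup G, Syl p P ⁅M, M⁆ ∧ P ≤ ⁅M ⊓ 𝐍(X), M ⊓ 𝐍(X)⁆) := by
  obtain ⟨P, hP, hc⟩ := A10.beta'_cent_Sylow_der1 hM hp hq hX h
  have hPM : P ≤ M := hP.le.trans (der_le M)
  refine ⟨⟨P ⊓ sigmaCore M, hP.inf_nml ((pcore_nml _ M).of_le (Msigma_der1 hM) (der_le M)),
    hc.trans (cent_anti inf_le_left)⟩, fun hα => ?_, fun hS => ⟨P, hP, ?_⟩⟩
  · have hP' : Syl p P M := hP.trans_idx (der_le M) ((A10.der1_idx_sigma' hM).mono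
      (Set.compl_subset_compl.mpr (Set.singleton_subset_iff.mpr (alpha_sub_sigma hM hα))))
    exact rank3_Uniqueness (A10.ne_top_of_le hM.1 inf_le_left) ((A10.mem_alpha_iff.mp hα).trans
      ((A10.rk_syl hP').ge.trans ((A10.rk_mono (le_inf hPM (cent_symm hc))).trans (A10.rk_le_rank _))))
  · have e := pprod_focal_coprime (pcore_nml (beta M) M) (A10.Mbeta_sup_norm hM hS)
      (le_inf hPM (norm_of_cent (cent_symm hc))) (((pcore_pi _ M).p'_of_not_mem hp).coprime_pgroup hP.pgroup)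
    rw [inf_eq_left.mpr hP.le] at e
    exact e.le.trans inf_le_right

/-- B&G Corollary 10.9(b). -/
theorem nonuniq_norm_Sylow_pprod {p : ℕ} [Fact p.Prime] {M H S : Subgroup G} (hM : Mx M) (hH : Mx H)
    (hne : H ≠ M) (hS : Syl p S ⊤) (hN : 𝐍(S) ≤ H ⊓ M)
    (hD : p ∈ DD G := by dd) : betaCore M ⊔ (H ⊓ M) = M ∧ alpha M = beta M := by
  have hSM : Syl p S M := hS.of_le ((le_norm S).trans (hN.trans inf_le_right)) le_top
  have hS1 : S ≠ ⊥ := by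
    rintro rfl
    exact hM.1.ne_top (eq_top_iff.mpr (norm_bot.ge.trans (hN.trans inf_le_right)))
  have hσ : p ∈ sigma M := A10.mem_sigma_iff.mpr ⟨hSM.dvd_card' hS1, S, hSM, hN.trans inf_le_right, hD⟩
  have hα : p ∉ alpha M := fun h =>
    hne ((alpha_Sylow_uniq hM h hSM).uniq H hH ((le_norm S).trans (hN.trans inf_le_left)))
  have hS' := A10.sigma_Sylow_le_der hM hσ hSM
  refine ⟨le_antisymm (sup_le (pcore_le _ M) inf_le_right) ((A10.Mbeta_sup_norm hM (hSM.of_le hS' (der_le M))).ge.trans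
    (sup_le_sup_left (inf_le_right.trans hN) _)), Set.Subset.antisymm (fun q hq => ?_) fun _ h => h.1⟩
  by_contra hβ
  haveI := Fact.mk hq.1
  have hu := (beta'_cent_Sylow hM hβ (fun h => hα h.1) hS.pgroup
    (Or.inl ⟨fun e => hα (e ▸ hq), hS'⟩)).2.1 hq
  exact hne ((A10.uniqMax_of_uniq hu hM inf_le_left).uniq H hH
    (inf_le_right.trans ((cent_le_norm S).trans (hN.trans inf_le_left))))

end Cfsg.Lib.BG.Z
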