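import Cfsg.Agent.Lib.ZB.T11_1
import Cfsg.Agent.Lib.ZB.T10_12
import Cfsg.Agent.Lib.BG.T03_7

set_option autoImplicit false
set_option linter.unusedVariables false

namespace Cfsg.Lib.BG.Z

open Subgroup
open scoped Cfsg.Lib.Transfer

variable {G : Type*} [Group G] [Finite G] [Sz G]

omit [Sz G] in
theorem Exceptional.exists_norm_not_mem {p : ℕ} [Fact p.Prime] {M A₀ A P : Subgroup G} (h : Exceptional p M A₀ A)
    (hP : Syl p P M) : ∃ g ∈ 𝐍(P), g ∉ M :=
  SetLike.not_le_iff_exists.mp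
    (not_norm_le_of_sigma' h.not_sigma hP (hP.ne_bot' (h.elemA.dvd_card two_ne_zero)))

/-- B&G Theorem 11.3. -/
theorem exceptional_sigma_nil {p : ℕ} [Fact p.Prime] {M A₀ A : Subgroup G} (h : Exceptional p M A₀ A) :
    Group.IsNilpotent (sigmaCore M) := by
  obtain ⟨P, hP, hAP⟩ := Syl.exists_ge h.elemA.pgroup h.elemA.le
  obtain ⟨g, hg, hgM⟩ := h.exists_norm_not_mem hP
  exact prime_Frobenius_sol_kernel_nil (norm_Msigma ((conj_le_of_norm (h.elemA₀.le.trans hAP) hg).trans hP.le))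
    (h.elemA₀.conj g).prime (exceptional_TI_MsigmaJ h hgM
      (hAP.trans ((conj_eq_of_norm hg).ge.trans (Transfer.conj_mono g hP.le)))).2

/-- B&G Corollary 11.4. -/
theorem exceptional_sigma_uniq {p : ℕ} [Fact p.Prime] {M A₀ A H : Subgroup G} (h : Exceptional p M A₀ A)
    (hH : Mx H) (hAH : A ≤ H) (hne : sigmaCore H ⊓ sigmaCore M ≠ ⊥) : H = M := by
  by_cases hc : Cj M H
  · obtain ⟨g, rfl⟩ := hc
    by_contra hg
    exact hne (eq_bot_mono (exceptional_TI_MsigmaJ h (fun hm => hg (conj_eq_of_mem hm)) hAH).1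
      (le_inf inf_le_right (inf_le_left.trans (Msigma_le _))))
  · exact absurd ((inf_comm _ _).trans ((sigma_disjoint h.max hH hc).2.2 (exceptional_sigma_nil h)).1) hne

end Cfsg.Lib.BG.Z
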