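import Cfsg.Agent.Lib.ZB.T11_3
import Cfsg.Agent.Lib.ZB.T10_13

set_option autoImplicit false
set_option linter.unusedVariables false

namespace Cfsg.Lib.BG.Z

open Subgroup
open scoped Cfsg.Lib.Transfer

variable {G : Type*} [Group G] [Finite G]

/-- B&G Proposition 1.16 for `A` elementary abelian of rank at least two. -/
theorem A10.exists_elem1_cent_ne_bot {p n : ℕ} [Fact p.Prime] {A H K : Subgroup G} (hA : Elem p n A H) (hn : 2 ≤ n)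
    (hAK : A ≤ 𝐍(K)) (hc : (Nat.card A).Coprime (Nat.card K)) (hK : K ≠ ⊥) :
    ∃ X : Subgroup G, Elem p 1 X A ∧ K ⊓ 𝐂(X) ≠ ⊥ := by
  obtain ⟨a, ha, ha1, h⟩ := coprime_abelian_exists_cent1 hA.abelian (hA.not_cyclic hn) hAK hc hK
  exact ⟨zpowers a, hA.zpowers_of_mem ha ha1, by rwa [cent_zpowers]⟩

variable [Sz G]

theorem A10.exceptional_Sylow_abelian_ge {p : ℕ} [Fact p.Prime] {M A₀ A P : Subgroup G} (h : Exceptional p M A₀ A)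
    (hP : Syl p P M) (hAP : A ≤ P) : IsMulCommutative P := by
  by_contra hab
  obtain ⟨g, hg, hgM⟩ := h.exists_norm_not_mem hP
  obtain ⟨hZ, -, htr⟩ := basic_p2maxElem_structure h.elemA.top h.maxElem hP.pgroup hAP hab
  obtain ⟨q, hq, hd⟩ := Nat.exists_prime_and_dvd (card_ne_one (Msigma_ne_bot h.max))
  haveI := Fact.mk hq
  have hQ₁ : Syl q 𝐎({q}, sigmaCore M) (sigmaCore M) := nil_pcore_Hall (exceptional_sigma_nil h) _
  set Q := 𝐎({q}, sigmaCore M)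
  have hPQ : P ≤ 𝐍(Q) := norm_pcore (norm_Msigma hP.le) _
  have hPQ' : P ≤ 𝐍(g ⋆ Q) := by
    rw [← Transfer.conj_normalizer, ← conj_eq_of_norm hg]
    exact Transfer.conj_mono g hPQ
  have key := (exceptional_TIsigmaJ h hgM (hAP.trans ((conj_eq_of_norm hg).ge.trans (Transfer.conj_mono g hP.le)))
    hQ₁ (hAP.trans hPQ) (hQ₁.conj g) (hAP.trans hPQ')).2
  have hZ0 : g ⋆ (Q ⊓ 𝐂(omegaOne p 𝐙(P))) = g ⋆ Q ⊓ 𝐂(omegaOne p 𝐙(P)) := by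
    rw [Transfer.conj_inf, Transfer.conj_centralizer, conj_eq_of_norm (norm_Ohm1 (norm_center le_rfl) p hg)]
  have hcop : (Nat.card A).Coprime (Nat.card Q) := coprime_mono h.coprime le_rfl hQ₁.le
  obtain ⟨X₁, hX₁, h₁⟩ := A10.exists_elem1_cent_ne_bot h.elemA le_rfl (hAP.trans hPQ) hcop (hQ₁.ne_bot' hd)
  obtain ⟨X₂, hX₂, h₂⟩ := A10.exists_elem1_cent_ne_bot h.elemA le_rfl (hAP.trans hPQ')
    (by rwa [Transfer.card_conj]) (fun e => hQ₁.ne_bot' hd (Transfer.conj_eq_bot_iff.mp e))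
  have hne₁ : X₁ ≠ omegaOne p 𝐙(P) := by
    rintro rfl
    exact (key _ hZ).elim h₁ fun e => h₁ (Transfer.conj_eq_bot_iff.mp (hZ0.trans e))
  have hne₂ : X₂ ≠ omegaOne p 𝐙(P) := by
    rintro rfl
    exact (key _ hZ).elim (fun e => h₂ (hZ0.symm.trans (Transfer.conj_eq_bot_iff.mpr e))) h₂
  obtain ⟨k, hk, rfl⟩ := htr X₁ ⟨hX₁, hne₁⟩ X₂ ⟨hX₂, hne₂⟩
  refine (key _ hX₂).elim (fun e => h₁ ?_) h₂
  rwa [← conj_eq_of_norm (hPQ hk.1), ← Transfer.conj_centralizer, ← Transfer.conj_inf,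
    Transfer.conj_eq_bot_iff] at e

/-- B&G Theorem 11.5. -/
theorem exceptional_Sylow_abelian {p : ℕ} [Fact p.Prime] {M A₀ A P : Subgroup G} (h : Exceptional p M A₀ A)
    (hP : Syl p P M) : IsMulCommutative P := by
  obtain ⟨g, hg, hA⟩ := hP.exists_le_conj h.elemA.pgroup h.elemA.le
  exact (abelian_conj g).mp (A10.exceptional_Sylow_abelian_ge h (hP.conj_of_mem hg) hA)

/-- B&G Corollary 11.6. -/
theorem exceptional_structure {p : ℕ} [Fact p.Prime] {M A₀ A P : Subgroup G} (h : Exceptional p M A₀ A)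
    (hP : Syl p P M) (hAP : A ≤ P) :
    omegaOne p P = A ∧ sigmaCore M ⊓ 𝐂(A) = ⊥ ∧
    ∃ A₁ A₂ : Subgroup G, Elem p 1 A₁ A ∧ Elem p 1 A₂ A ∧ A₁ ≠ A₂ ∧ sigmaCore M ⊓ 𝐂(A₁) = ⊥ ∧
      sigmaCore M ⊓ 𝐂(A₂) = ⊥ := by
  have hΩ : omegaOne p P = A :=
    abelian_Ohm1_eq (exceptional_Sylow_abelian h hP) (h.elemA.of_le hAP) (hP.rk_eq.trans h.rk_eq).le
  have key : ∀ g ∈ 𝐍(P), g ∉ M → Elem p 1 (g ⋆ A₀) A ∧ sigmaCore M ⊓ 𝐂(g ⋆ A₀) = ⊥ := fun g hg hgM =>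
    ⟨h.elemA₀.conj_of_norm (hΩ ▸ norm_Ohm1 le_rfl p hg), (exceptional_TI_MsigmaJ h hgM
      (hAP.trans ((conj_eq_of_norm hg).ge.trans (Transfer.conj_mono g hP.le)))).2⟩
  obtain ⟨g, hg, hgM⟩ := h.exists_norm_not_mem hP
  obtain ⟨h₁, h₁'⟩ := key g hg hgM
  obtain ⟨h₂, h₂'⟩ := key g⁻¹ (inv_mem hg) fun h => hgM (inv_mem_iff.mp h)
  refine ⟨hΩ, eq_bot_mono h₁' (inf_le_inf_left _ (cent_anti h₁.le)), _, _, h₁, h₂, fun e => hgM ?_, h₁', h₂'⟩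
  have h2 : g ^ 2 ∈ M := h.norm (norm_of_conj_eq (by rw [sq, ← Transfer.conj_conj, e, Transfer.conj_inv_conj]))
  obtain ⟨k, hk⟩ := (mFT_pgroup_norm_proper hP.pgroup (ne_bot_mono (h.elemA.ne_bot two_ne_zero) hAP)).odd.of_dvd_nat
    (Subgroup.orderOf_dvd_natCard _ hg)
  have e2 : g = ((g ^ 2) ^ k)⁻¹ := by
    rw [eq_inv_iff_mul_eq_one, ← pow_mul, ← pow_succ', ← hk, pow_orderOf_eq_one]
  rw [e2]
  exact inv_mem (pow_mem h2 k)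

end Cfsg.Lib.BG.Z
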