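import Cfsg.Agent.Lib.ZB.T12_11
import Cfsg.Agent.Lib.BG.T01_Coprime
import Cfsg.Agent.Lib.BG.T02_6

/-! # The cyclic subgroups `Z_p` in the proof of B&G Theorem 12.12 -/

set_option autoImplicit false
set_option linter.unusedVariables false

namespace Cfsg.Lib.BG.Z.A12

open Subgroup
open scoped Cfsg.Lib.Transfer

variable {G : Type*} [Group G] [Finite G]

theorem exponent_eq_of_prime {E₀ U : Subgroup G} (h : E₀ ≤ U)
    (hr : ∀ r : ℕ, r.Prime → r ∣ Nat.card U → ∀ g ∈ U, IsPGroup r (zpowers g) →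
      ∃ y ∈ E₀, orderOf g ∣ orderOf y) : Monoid.exponent E₀ = Monoid.exponent U := by
  refine Nat.dvd_antisymm (Monoid.exponent_dvd_of_monoidHom (inclusion h) (inclusion_injective h)) ?_
  refine Monoid.exponent_dvd.mpr fun g => (Nat.dvd_iff_prime_pow_dvd_dvd _ _).mpr fun r k hr' hk => ?_
  rcases k with _ | k
  · exact one_dvd _
  have := Fact.mk hr'
  rw [← orderOf_coe] at hk
  have h1 := orderOf_pow_orderOf_div (orderOf_pos (g : G)).ne' hk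
  obtain ⟨y, hy, h2⟩ := hr r hr' ((dvd_pow_self r k.succ_ne_zero).trans (hk.trans (orderOf_dvd_natCard U g.2)))
    _ (pow_mem g.2 _) (IsPGroup.of_card ((Nat.card_zpowers _).trans h1))
  rw [h1] at h2
  exact h2.trans (orderOf_coe (⟨y, hy⟩ : E₀) ▸ Monoid.order_dvd_exponent _)

variable {p : ℕ} [hp : Fact p.Prime]

theorem exists_orderOf_pow {S : Subgroup G} (hS : IsPGroup p S) {g : G} (hg : g ∈ S) :
    ∃ k, orderOf g = p ^ k :=
  Nat.card_zpowers g ▸ (pgroup_of_le hS (zpowers_le.mpr hg)).exists_card_eq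

theorem orderOf_dvd_total {S : Subgroup G} (hS : IsPGroup p S) {g y : G} (hg : g ∈ S) (hy : y ∈ S) :
    orderOf g ∣ orderOf y ∨ orderOf y ∣ orderOf g := by
  obtain ⟨i, hi⟩ := exists_orderOf_pow hS hg
  obtain ⟨j, hj⟩ := exists_orderOf_pow hS hy
  rw [hi, hj]
  exact (le_total i j).imp (pow_dvd_pow p) (pow_dvd_pow p)

theorem exists_max_order {S : Subgroup G} (hS : IsPGroup p S) : ∃ y ∈ S, ∀ g ∈ S, orderOf g ∣ orderOf y := by
  obtain ⟨y, hy, h⟩ := Set.exists_max_image (S : Set G) orderOf (Set.toFinite _) ⟨1, S.one_mem⟩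
  refine ⟨y, hy, fun g hg => (orderOf_dvd_total hS hg hy).elim id fun h1 => ?_⟩
  rw [le_antisymm (h g hg) (Nat.le_of_dvd (orderOf_pos g) h1)]

/-- In a product of two commuting cyclic `p`-groups one of the factors has the exponent of the product. -/
theorem DP.exists_max_order {H K S : Subgroup G} (h : DP H K S) (hS : IsPGroup p S) (hH : IsCyclic H)
    (hK : IsCyclic K) : (∀ g ∈ S, ∃ y ∈ H, orderOf g ∣ orderOf y) ∨ ∀ g ∈ S, ∃ y ∈ K, orderOf g ∣ orderOf y := by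
  obtain ⟨a, ha, rfl⟩ := cyclic_iff.mp hH
  obtain ⟨b, hb, rfl⟩ := cyclic_iff.mp hK
  have key : ∀ n, orderOf a ∣ n → orderOf b ∣ n → ∀ g ∈ S, orderOf g ∣ n := fun n h1 h2 g hg => by
    obtain ⟨x, hx, y, hy, rfl⟩ := h.mem hg
    exact (Commute.orderOf_mul_dvd_lcm (le_cent_iff.mp h.cent x hx y hy)).trans (Nat.lcm_dvd
      ((orderOf_dvd_of_mem_zpowers hx).trans h1) ((orderOf_dvd_of_mem_zpowers hy).trans h2))
  rcases orderOf_dvd_total hS (h.left_le ha) (h.right_le hb) with h1 | h1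
  · exact Or.inr fun g hg => ⟨b, hb, key _ h1 dvd_rfl g hg⟩
  · exact Or.inl fun g hg => ⟨a, ha, key _ dvd_rfl h1 g hg⟩

/-- A noncyclic `q`-group `Q` acting on `S` with `Q' ≤ C(S)`, and `C_Q(S)` properly contained in a cyclic subgroup,
does not act regularly modulo `C_Q(S)`. -/
theorem exists_nonreg {q : ℕ} [Fact q.Prime] {A S Q Q₁ : Subgroup G} (hA : IsElementaryAbelian p A)
    (hA1 : A ≠ ⊥) (hAS : A ≤ S) (hQ : IsPGroup q Q) (hnc : ¬ IsCyclic Q) (hQA : Q ≤ 𝐍(A))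
    (hd : ⁅Q, Q⁆ ≤ 𝐂(S)) (h₁ : Q₁ ≤ Q) (hc : IsCyclic Q₁) (h₀ : Q ⊓ 𝐂(S) ≤ Q₁) (hn : ¬ Q₁ ≤ 𝐂(S)) :
    ∃ x ∈ Q, S ⊓ 𝐂[x] ≠ ⊥ ∧ x ∉ 𝐂(S) := by
  by_contra! hreg
  obtain ⟨V, hVA, hV⟩ := exists_minimal_le_of_wellFoundedLT (fun V : Subgroup G => V ≠ ⊥ ∧ Q ≤ 𝐍(V)) A ⟨hA1, hQA⟩
  obtain ⟨⟨a, ha, h1⟩, -⟩ := abelian_irr_cyclic (elab_of_le hA hVA) hV.1.1 hV.1.2
    (hd.trans (cent_anti (hVA.trans hAS))) fun W hW hQW =>
      or_iff_not_imp_left.mpr fun h => le_antisymm hW (hV.2 ⟨h, hQW⟩ hW)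
  have h2 : Q ⊓ 𝐂(V) ≤ 𝐂(S) := fun x hx =>
    hreg x hx.1 (ne_bot_mono hV.1.1 (le_inf (hVA.trans hAS) (le_cent1_iff.mpr hx.2)))
  have h3 : Q ⊓ 𝐂(V) ≤ Q₁ := (le_inf inf_le_left h2).trans h₀
  have h4 := modular_left h3 ((zpowers_le.mpr ha).trans (Nml.cent hV.1.2).norm)
  rw [← h1, inf_eq_right.mpr h₁] at h4
  rcases cyclic_le_total hc (pgroup_of_le hQ h₁) h3 (inf_le_right (a := zpowers a)) with h | h
  · rw [sup_eq_right.mpr (h.trans inf_le_left)] at h1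
    exact hnc (h1 ▸ inferInstance)
  · exact hn (h4.le.trans (sup_le h2 (h.trans h2)))

variable [Sz G]

/-- The cyclic subgroup `Z_p` of B&G 12.12. -/
theorem exists_Zp {M E U A S : Subgroup G} (hM : Mx M) (hE : Hall (sigma M)ᶜ E M) (hU : Nml U E)
    (hHall : (Nat.card U).Coprime (U.relIndex E))
    (hreg : ∀ e ∈ U, e ≠ 1 → PiElt (tau1 M ∪ tau3 M) e → sigmaCore M ⊓ 𝐂[e] = ⊥)
    (hp2 : p ∈ tau2 M) (hA : Elem p 2 A E) (hS : Syl p S ⊤) (hAS : A ≤ S) (hab : IsMulCommutative S) :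
    ∃ Z : Subgroup G, Z ≤ S ∧ U ≤ 𝐍(Z) ∧ (∀ g ∈ S, ∃ y ∈ Z, orderOf g ∣ orderOf y) ∧
      ∀ X : Subgroup G, Elem p 1 X Z → sigmaCore M ⊓ 𝐂(X) = ⊥ := by
  obtain ⟨⟨hAE, -⟩, -, huniq, -⟩ := tau2_compl_context hM hE hp2 hA
  obtain ⟨hSE, hΩ⟩ := abelian_tau2_Ohm1 hM hE hp2 hA hAS hab
  obtain ⟨-, hNF, hFS, hCS⟩ := abelian_tau2_sub_Fitting hM hE hp2 hA hS hAS hab
  obtain ⟨h5, -, -, -, A₁, hA₁, hCA₁⟩ := tau2_context hM hp2 (hA.mono hE.le)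
  have hNS := (h5 S (hS.of_le (hSE.trans hE.le) le_top) hAS).2
  have hSA : 𝐍(S) ≤ 𝐍(A) := hΩ ▸ norm_Ohm1 le_rfl p
  have hreg' : ∀ X : Subgroup G, Elem p 1 X S → 𝐍(S) ≤ 𝐍(X) → sigmaCore M ⊓ 𝐂(X) = ⊥ := fun X hX h =>
    by_contra fun h1 => hNS (h.trans (norm_le_of_uniq_cent (huniq X (hX.mono hSE) h1)
      (hX.ne_bot one_ne_zero) (A10.mFT_pgroup_proper hX.pgroup)))
  by_cases hUS : U ≤ 𝐂(S)
  · obtain ⟨y, hy, hmax⟩ := exists_max_order hS.pgroup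
    obtain ⟨k, hk⟩ := exists_orderOf_pow hS.pgroup hy
    obtain ⟨a, ha, ha1⟩ := exists_ne_one (hA.ne_bot two_ne_zero)
    obtain ⟨k, rfl⟩ := Nat.exists_eq_succ_of_ne_zero (n := k) (by
      rintro rfl
      exact ha1 (orderOf_eq_one_iff.mp (Nat.dvd_one.mp (by simpa [hk] using hmax a (hAS ha)))))
    have hW : powerClosure p k S ≤ A := PGroup.powerClosure_le_iff.mpr fun x hx => hΩ ▸
      PGroup.mem_omegaOne (pow_mem hx _) (by
        rw [← pow_mul, ← pow_succ, ← orderOf_dvd_iff_pow_eq_one, ← hk]; exact hmax x hx)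
    have hlt : ∀ x : G, x ^ p ^ k = 1 → ¬ orderOf y ∣ orderOf x := fun x hx h => by
      have h1 := h.trans (orderOf_dvd_of_pow_eq_one hx)
      rw [hk, Nat.pow_dvd_pow_iff_le_right hp.out.one_lt] at h1
      omega
    have hW1 : powerClosure p k S ≠ ⊥ :=
      ne_bot_of_mem (PGroup.pow_mem_powerClosure hy) fun h => hlt y h dvd_rfl
    obtain ⟨X₀, hX₀, hC⟩ : ∃ X₀, Elem p 1 X₀ (powerClosure p k S) ∧ sigmaCore M ⊓ 𝐂(X₀) = ⊥ := by
      rcases hW.eq_or_lt with h | h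
      · exact ⟨A₁, h ▸ hA₁, hCA₁⟩
      · have h1 := hA.one_of_lt hW1 h
        exact ⟨_, h1.self, hreg' _ (h1.mono hAS) (PGroup.normalizer_le_normalizer_powerClosure k S)⟩
    obtain ⟨b, hb, hb1⟩ := exists_ne_one (hX₀.ne_bot one_ne_zero)
    obtain ⟨z, hz, rfl⟩ := (PGroup.mem_powerClosure_iff_of_isMulCommutative hab).mp (hX₀.le hb)
    have hzS := zpowers_le.mpr hz
    refine ⟨zpowers z, hzS, norm_of_cent (hUS.trans (cent_anti hzS)), fun g hg => ⟨z, mem_zpowers z,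
      (hmax g hg).trans ?_⟩, fun X hX => ?_⟩
    · obtain ⟨j, hj⟩ := exists_orderOf_pow hS.pgroup hz
      rw [hk, hj]
      refine pow_dvd_pow p (not_lt.mp fun h => hb1 (orderOf_dvd_iff_pow_eq_one.mp ?_))
      rw [hj]; exact pow_dvd_pow p (by omega)
    · rwa [cyclic_eq_of_card (inferInstance : IsCyclic (zpowers z)) hX.le
        ((zpowers_eq_of_prime hX₀.prime hb hb1).ge.trans (zpowers_le.mpr (pow_mem (mem_zpowers z) _)))
        (hX.card_one.trans hX₀.card_one.symm)]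
  obtain ⟨q, hq, hd⟩ := Nat.exists_prime_and_dvd (mt relIndex_eq_one.mp hUS)
  have := Fact.mk hq
  obtain ⟨E₂, h₂⟩ := Hall.exists (tau2 M) (mmax_sol hM hE.le)
  obtain ⟨E₁, E₃, hs⟩ := ex_tau2_compl hM hE h₂
  have hAS' := (abelian_tau2 hM hs hp2 hA hS hAS hab).2.2.1.1
  have hES : E ≤ 𝐍(S) := hAS' ▸ hAE.norm
  obtain ⟨Q₁, hQ₁⟩ := Syl.exists q U
  have hQ₁S := syl_not_cent hQ₁ hd
  have hdU := hd.trans (relIndex_dvd_card _ _)
  have hQ₁E : Syl q Q₁ E := hQ₁.of_Hall (Hall.of_coprime hU.le hHall) hdU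
  have hqp : q ≠ p := by
    rintro rfl
    exact hQ₁S (abelian_cent' hab ((hS.of_le hSE le_top).ge_of_normal hES hQ₁E.le hQ₁E.pi) le_rfl)
  have hdA : q ∣ 𝐂(A).relIndex E := by_contra fun h => hQ₁S
    (coprime_abelian_cent_Ohm1 (hQ₁E.le.trans hES) (p'_of_pgroup hQ₁.pgroup hqp).coprime_p hS.pgroup hab
      (hΩ ▸ hQ₁E.pi.le_of_relIndex hQ₁E.le (norm_cent hAE.norm) (PiNat.p'_iff.mpr h)))
  have hq1 := tau1_cent_tau2Elem_factor hM hE hp2 hA q hq hdA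
  obtain ⟨X₀, hX₀⟩ := Elem.exists_one hdU
  have hX₀E : X₀ ≤ 𝐂(E) := by
    obtain ⟨F₁, F₂, F₃, hs', h1⟩ := ex_tau1_compl hM hE (hX₀.le.trans hU.le) (hX₀.pi hq1)
    obtain ⟨e, he, he1⟩ := exists_ne_one (hX₀.ne_bot one_ne_zero)
    exact (abelian_tau2 hM hs' hp2 hA hS hAS hab).2.2.2.1 X₀ h1 hX₀.prime
      (cent1_eq_of_prime hX₀.prime he he1 ▸ hreg e (hX₀.le he) he1 ((hX₀.pi (Or.inl hq1)).elt he))
  obtain ⟨L, hL, hNL⟩ := exists_mmax (A10.mFT_norm_proper (hA.ne_bot two_ne_zero)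
    (A10.mFT_pgroup_proper hA.pgroup))
  obtain ⟨hqL, ⟨P, hP, hPL⟩, -⟩ := (primes_norm_tau2Elem hM hE hp2 hA hL hNL).2.2 q hq hdA
    ((hX₀.of_le (le_inf (hX₀.le.trans hU.le) (hX₀E.trans (cent_anti hA.le)))).dvd_card one_ne_zero)
  have hSP : S = P := hS.eq_of_le' hP ((hP.of_le hPL.le le_top).ge_of_normal hPL.norm
    (hSE.trans (hAE.norm.trans hNL)) hS.pi)
  obtain ⟨Q, hQ, hQ₁Q⟩ := Syl.exists_ge hQ₁.pgroup (hQ₁E.le.trans hES)
  have hQc : ¬ IsCyclic Q := fun h => by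
    have h1 := rk_le_one_of_cyclic (p := q) h
    have h2 := rk_mono (hSP ▸ hPL.norm) q
    rw [hQ.rk_eq] at h1
    rw [t2_rk hqL] at h2
    omega
  obtain ⟨x, hx, hx1, hx2⟩ := exists_nonreg hA.elem (hA.ne_bot two_ne_zero) hAS hQ.pgroup hQc
    (hQ.le.trans hSA) ((der_mono hQ.le).trans (hNF.trans hFS)) hQ₁Q
    (pgroup_cyclic hQ₁.pgroup ((rk_mono (hQ₁E.le.trans hE.le) q).trans (t1_rk hq1)))
    ((inf_le_inf_left Q hCS).trans (hQ₁E.eq_of_le_pgroup (le_inf hQ₁Q hQ₁E.le) inf_le_right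
      (pgroup_of_le hQ.pgroup inf_le_left)).ge) hQ₁S
  have hxS : zpowers x ≤ 𝐍(S) := (zpowers_le.mpr hx).trans hQ.le
  have hdp := coprime_abelian_cent_dprod hxS
    (coprime_pgroups (pgroup_of_le hQ.pgroup (zpowers_le.mpr hx)) hS.pgroup hqp) hab
  obtain ⟨n1, n2⟩ := abelian_tau2_norm_Sylow hM hE hp2 hA hS hAS hab hxS
  have hrk : rk p S ≤ 2 := (rk_mono (hSE.trans hE.le) p).trans (t2_rk hp2).le
  have c1 := DP.cyclic_left hdp hS.pgroup hab hrk (by rwa [cent_zpowers])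
  have c2 := DP.cyclic_left hdp.symm hS.pgroup hab hrk
    fun h => hx2 (comm_eq_bot_iff'.mp h (mem_zpowers x))
  rcases DP.exists_max_order hdp hS.pgroup c1 c2 with h | h
  · exact ⟨_, hdp.left_le, hU.le.trans (hES.trans n2.norm), h, fun X hX =>
      hreg' X (hX.mono hdp.left_le) (n2.norm.trans (norm_le_of_le_cyclic c1 hX.le))⟩
  · exact ⟨_, hdp.right_le, hU.le.trans (hES.trans n1.norm), h, fun X hX =>
      hreg' X (hX.mono hdp.right_le) (n1.norm.trans (norm_le_of_le_cyclic c2 hX.le))⟩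

end Cfsg.Lib.BG.Z.A12
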