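import Cfsg.Agent.Lib.ZB.T12_10
import Cfsg.Agent.Lib.BG.Quo
import Cfsg.Agent.Lib.BG.T05_3
import Cfsg.Agent.Lib.BG.T06_3
import Cfsg.Agent.Lib.ZB.T10_8
import Cfsg.Agent.Lib.ZB.T10_9

set_option autoImplicit false
set_option linter.unusedVariables false

namespace Cfsg.Lib.BG.Z

open Subgroup
open scoped Cfsg.Lib.Transfer

variable {G : Type*} [Group G] [Finite G]

namespace A12

omit [Finite G] in
theorem quo_zpowers {Z : Subgroup G} {x : G} (hx : x ∈ 𝐍(Z)) : quo (zpowers x) Z = zpowers (qhom Z ⟨x, hx⟩) := by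
  rw [quo_def, ← MonoidHom.map_zpowers]
  congr 1
  refine map_injective 𝐍(Z).subtype_injective ?_
  rw [subOf_map (zpowers_le.mpr hx), MonoidHom.map_zpowers]
  rfl

/-- B&G 1.16 for the action of `Q / Z`, where `Q` is nonabelian with `Q' ≤ Z ≤ Z(Q)`. -/
theorem gen_cent1_mod {Z Q K H : Subgroup G} (hZQ : Z ≤ Q) (hc : Q ≤ 𝐂(Z)) (hd : ⁅Q, Q⁆ ≤ Z)
    (hab : ¬ IsMulCommutative Q) (hK : K ≤ 𝐂(Z)) (hQK : Q ≤ 𝐍(K))
    (hcop : (Nat.card Q).Coprime (Nat.card K)) (hZH : Z ≤ H) (h : ∀ x ∈ Q, x ∉ Z → K ⊓ 𝐂[x] ≤ H) : K ≤ H := by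
  have hQ := norm_of_cent hc
  have hK' := norm_of_cent hK
  have hZ : IsMulCommutative Z := abelian_iff.mpr (hZQ.trans hc)
  have hnc : ¬ IsCyclic (quo Q Z) := fun h1 => by
    obtain ⟨_, ⟨⟨x, hx⟩, hxQ, rfl⟩, h2⟩ := cyclic_iff.mp h1
    have h3 : zpowers x ≤ Q := zpowers_le.mpr hxQ
    refine hab (abelian_of_le (abelian_sup hZ inferInstance (cent_symm (h3.trans hc)))
      ((quo_le_quo_iff hQ (h3.trans hQ)).mp ?_))
    rw [quo_zpowers hx]; exact h2.ge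
  have h1 : quo K Z ≤ quo (H ⊓ 𝐍(Z)) Z := by
    refine coprime_abelian_gen_cent1 ((quo_abelian_iff hQ).mpr hd) hnc (quo_norm hQK Z) (coprime_quo hcop Z) ?_
    rintro _ ⟨⟨x, hx⟩, hxQ, rfl⟩ h1
    have h3 : zpowers x ≤ Q := zpowers_le.mpr hxQ
    rw [← cent_zpowers, ← quo_zpowers hx, coprime_quo_cent (h3.trans hQK) (h3.trans hQ) hK'
      (coprime_mono hcop h3 le_rfl) (Or.inl (abelian_sol inferInstance)), cent_zpowers]
    exact quo_mono (le_inf (h x hxQ fun h2 => h1 ((QuotientGroup.eq_one_iff _).mpr h2))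
      (inf_le_left.trans hK')) Z
  exact ((quo_le_quo_iff hK' inf_le_right).mp h1).trans (sup_le hZH inf_le_left)

theorem der_le_Ohm1_center {p : ℕ} [hp : Fact p.Prime] {S : Subgroup G} (h : Nat.card S = p ^ 3) :
    ⁅S, S⁆ ≤ omegaOne p 𝐙(S) := by
  have hS : IsPGroup p S := IsPGroup.of_card h
  have h1 : S ≠ ⊥ := ne_bot_of_dvd hp.out (h ▸ dvd_pow_self p three_ne_zero)
  obtain ⟨Z, hZ⟩ := Elem.exists_one_of_pgroup (pgroup_of_le hS (inf_le_left (b := 𝐂(S))))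
    (center_ne_bot_of_nil (pgroup_nil hS) h1)
  have h2 := Nml.of_cent (cent_symm (hZ.le.trans inf_le_right)) (hZ.le.trans inf_le_left)
  have h3 := card_quo_mul h2
  rw [hZ.card_one, h, pow_succ'] at h3
  exact ((quo_abelian_iff h2.norm).mp (IsPGroup.isMulCommutative_of_card_eq_prime_sq
    (Nat.eq_of_mul_eq_mul_left hp.out.pos h3))).trans hZ.le_Ohm1

variable [Sz G]

theorem nonabelian_uniq_step {p : ℕ} [Fact p.Prime] {M H P S A : Subgroup G} (hM : Mx M)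
    (hH : Mx H) (hne : H ≠ M) (hP : Syl p P ⊤) (hN : 𝐍(P) ≤ H ⊓ M) (h2 : rk p P ≤ 2) (hSP : S ≤ P)
    (hab : ¬ IsMulCommutative S) (hc : Nat.card S = p ^ 3) (he : ∀ x ∈ S, x ^ p = 1) (hA : Elem p 2 A S)
    (hZ : Elem p 1 (omegaOne p 𝐙(S)) A)
    (hD : p ∈ DD G := by dd) :
    ∃ A₀ : Subgroup G, Elem p 1 A₀ A ∧ A₀ ≠ omegaOne p 𝐙(S) ∧ UniqMax 𝐍(A₀) M := by
  obtain ⟨h1, -⟩ := nonuniq_norm_Sylow_pprod hM hH hne hP hN
  have hS : S ≤ H ⊓ M := hSP.trans ((le_norm P).trans hN)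
  have hd := der_le_Ohm1_center hc
  have hSZ : S ≤ 𝐂(omegaOne p 𝐙(S)) := cent_symm ((Ohm1_le p _).trans inf_le_right)
  generalize omegaOne p 𝐙(S) = Z at hZ hd hSZ
  have hZS := hZ.le.trans hA.le
  have hb : p ∉ beta M := fun h => by
    have h3 := mem_alpha_iff.mp h.1
    have h4 := rk_mono (le_top (a := M)) p
    rw [← hP.rk_eq] at h4
    omega
  have hcop := ((Mbeta_pi M).p'_of_not_mem hb).coprime_pgroup (pgroup_of_le hP.pgroup hSP)
  by_contra! h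
  have h3 := (p2Elem_mmax_b hM (hA.mono (hS.trans inf_le_right)) fun A₀ hA₀ hu => ?_).2.1
  · rw [eq_bot_mono h3 (Mbeta_sub_Malpha M), bot_sup_eq, inf_eq_right] at h1
    exact hne (mmax_eq_of_le hM hH h1).symm
  obtain rfl : A₀ = Z := by_contra fun h' => h A₀ hA₀ h' hu
  refine hne (hu.uniq H hH ((le_inf hu.le le_rfl).trans ?_))
  rw [← pprod_norm_coprime_cent (Mbeta_nml M) h1 (hZS.trans hS) (coprime_mono hcop le_rfl hZS)
    (sub_mmax_sol hM le_rfl)]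
  refine sup_le (gen_cent1_mod hZS hSZ hd hab inf_le_right
    (norm_inf (norm_Mbeta (hS.trans inf_le_right)) (norm_cent (norm_of_cent hSZ)))
    (coprime_mono hcop inf_le_left le_rfl).symm (hZS.trans (hS.trans inf_le_left)) fun x hx hxZ => ?_)
    (inf_le_left.trans inf_le_left)
  refine le_trans ?_ (p2Elem_mmax hH (((hZ.mono hA.le).sup_zpowers hx (hSZ hx) (he x hx) hxZ).mono
    (hS.trans inf_le_left)))
  rw [cent_sup, cent_zpowers]
  exact inf_le_inf_right _ inf_le_right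

end A12

variable [Sz G]

/-- B&G Theorem 12.13. -/
theorem nonabelian_Uniqueness {p : ℕ} [Fact p.Prime] {P : Subgroup G} (hP : IsPGroup p P)
    (hab : ¬ IsMulCommutative P)
    (hD : p ∈ DD G := by dd) : Uniq P := by
  obtain ⟨M, hM, hPM⟩ := mmax_exists (mFT_pgroup_proper hP)
  refine ⟨M, hM, hPM, fun H hH hPH => by_contra fun hne => ?_⟩
  obtain ⟨T, hT, hPT⟩ := Syl.exists_ge hP (le_inf hPH hPM)
  have hTab : ¬ IsMulCommutative T := fun h => hab (abelian_of_le h hPT)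
  have hn : ∀ L : Subgroup G, Mx L → T ≤ L → 𝐍(T) ≤ L := fun L hL h =>
    norm_noncyclic_sigma hL (by_contra fun hs => hTab
      (sigma'_nil_abelian hL h (PiGrp.of_pgroup hT.pgroup hs) hT.nil)) hT.pgroup h
      fun h' => hTab (abelian_of_cyclic h')
  have hTH := hT.le.trans inf_le_left
  have hTM := hT.le.trans inf_le_right
  have hN : 𝐍(T) ≤ H ⊓ M := le_inf (hn H hH hTH) (hn M hM hTM)
  have hTG : Syl p T ⊤ := hT.of_norm_le le_top (inf_le_right.trans hN)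
  have h2 : rk p T ≤ 2 := not_lt.mp fun h => hne
    ((rank3_Uniqueness (mFT_pgroup_proper hT.pgroup) (le_trans h (rk_le_rank p T))).eq hM hH hTM hTH)
  obtain ⟨S, C, hSab, hc, he, -, -, hSC, -⟩ := mFT_rank2_Sylow_cprod hTG h2 hTab
  have hST : S ≤ T := le_sup_left.trans hSC.le
  have hS := pgroup_of_le hT.pgroup hST
  obtain ⟨A, hA⟩ := mFT_exists_elem_two hS fun h => hSab (abelian_of_cyclic h)
  obtain ⟨hZ, -, htr⟩ := basic_p2maxElem_structure hA.top (hA.top.maxElem_of_rk (hTG.rk_eq ▸ h2)) hS hA.le hSab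
  obtain ⟨A₀, h₀, h₀Z, hu₀⟩ := A12.nonabelian_uniq_step hM hH hne hTG hN h2 hST hSab hc he hA hZ
  obtain ⟨A₁, h₁, h₁Z, hu₁⟩ := A12.nonabelian_uniq_step hH hM (Ne.symm hne) hTG (inf_comm H M ▸ hN) h2 hST
    hSab hc he hA hZ
  obtain ⟨g, hg, rfl⟩ := htr A₀ ⟨h₀, h₀Z⟩ A₁ ⟨h₁, h₁Z⟩
  have h3 := hu₀.conj g
  rw [Transfer.conj_normalizer, conj_eq_of_mem (hTM (hST hg.1))] at h3
  exact hne (h3.eq_of_uniqMax hu₁)

/-- B&G Corollary 12.14. -/
theorem cent_der_sigma_uniq {p : ℕ} [Fact p.Prime] {M X : Subgroup G} (hM : Mx M) (hX : Elem p 1 X M)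
    (h : p ∈ beta M ∨ X ≤ ⁅sigmaCore M, sigmaCore M⁆) :
    UniqMax 𝐂(X) M ∧ ∀ P : Subgroup G, Syl p P (sigmaCore M) → UniqMax P M := by
  have hX1 := hX.ne_bot one_ne_zero
  have hs : p ∈ sigma M := h.elim (fun h => beta_sub_sigma hM h) fun h =>
    (hX.of_le (h.trans (der_le _))).mem_pi one_ne_zero (Msigma_pi M)
  obtain ⟨P, hP, hXP⟩ := Syl.exists_ge hX.pgroup hX.le
  have hPs : Syl p P (sigmaCore M) :=
    hP.of_le (A12.le_Ms hM hP.le (PiGrp.of_pgroup hP.pgroup hs)) (Msigma_le M)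
  have hPG := sigma_Sylow_G hs hP
  have hp2 := hX.ne_twoZ one_ne_zero
  suffices hu : Uniq (P ⊓ 𝐂(X)) by
    have h1 := hu.uniqMax hM (inf_le_left.trans hP.le)
    refine ⟨h1.mono' inf_le_right (mFT_cent_proper hX1), fun Q hQ => ?_⟩
    obtain ⟨g, hg, rfl⟩ := hPs.exists_conj_eq hQ
    exact conj_eq_of_mem (Msigma_le M hg) ▸ (h1.mono inf_le_left hP.le).conj g
  by_cases h3 : 3 ≤ rk p (P ⊓ 𝐂(X))
  · exact rank3_Uniqueness (sub_mmax_proper hM (inf_le_left.trans hP.le)) (h3.trans (rk_le_rank p _))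
  have h2 : rk p (P ⊓ 𝐂(X)) ≤ 2 := by omega
  have hb : p ∉ beta M := fun hb => (ideal_iff_not_narrow hPG).mp hb.2
    ((narrow_centP hp2 hP.pgroup (hP.rk_eq ▸ mem_alpha_iff.mp hb.1)).mpr ⟨X, hX.of_le hXP, h2⟩)
  have hc := (beta_max_pdiv hM hb).2.1
  have hXd : X ≤ ⁅P, P⁆ := by
    have h4 := pprod_focal_coprime (pcore_nml {p}ᶜ (sigmaCore M))
      (hPs.sup_eq hc.le (hc.idx.mono (compl_compl _).le)) le_rfl (hc.pi.coprime_pgroup hP.pgroup)
    exact (le_inf hXP (h.resolve_left hb)).trans (h4.le.trans inf_le_right)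
  have hr : rk p P ≤ 2 := not_lt.mp fun h4 => by
    obtain ⟨T, -, -, -, -, -, h5, -⟩ := narrow_cent_dprod hp2 hP.pgroup h4 (hX.of_le hXP) h2
    exact hX1 (inf_eq_left.mpr hXd ▸ h5)
  have hab : ¬ IsMulCommutative P := fun h4 => hX1 (eq_bot_mono (abelian_iff_der.mp h4) hXd)
  obtain ⟨S, C, -, hcard, -, hC, hSC, hsup, -⟩ := mFT_rank2_Sylow_cprod hPG hr hab
  have h4 : C ≤ 𝐂(P) := hsup ▸ le_cent_sup (cent_symm hSC) (abelian_cent (abelian_of_cyclic hC))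
  have h5 : S ≤ P := le_sup_left.trans hsup.le
  have h6 : ⁅P, P⁆ = ⁅S, S⁆ := by
    have h7 := A12.comm_sup_of_cent (norm_of_cent hSC) h4
    have h8 := A12.comm_sup_of_cent (norm_of_cent hSC) (cent_symm hSC)
    rw [sup_comm, hsup] at h7 h8
    rw [h7, commutator_comm, h8]
  have h7 : P ≤ 𝐂(X) := by
    refine cent_symm (hXd.trans (h6.le.trans ?_))
    rw [← hsup]
    exact le_cent_sup ((A12.der_le_Ohm1_center hcard).trans ((Ohm1_le p _).trans inf_le_right))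
      ((der_le S).trans hSC)
  rw [inf_eq_left.mpr h7]
  exact nonabelian_Uniqueness hP.pgroup hab

end Cfsg.Lib.BG.Z
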