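import Cfsg.Agent.Lib.ZB.T12_13

set_option autoImplicit false
set_option linter.unusedVariables false

namespace Cfsg.Lib.BG.Z

open Subgroup
open scoped Cfsg.Lib.Transfer

variable {G : Type*} [Group G] [Finite G] [Sz G]

omit [Sz G] in
/-- A Hall `π`-subgroup of a supplement `U` to a normal `π'`-subgroup is a Hall subgroup. -/
theorem A12.hall_of_sup {π : Set ℕ} {K U M R : Subgroup G} (hK : Nml K M) (h : K ⊔ U = M)
    (hKp : PiGrp πᶜ K) (hR : Hall π R U) : Hall π R M := by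
  have hU : U ≤ M := le_sup_right.trans h.le
  refine hR.trans_idx hU (PiNat.of_dvd hKp ?_)
  have h1 := PGroup.card_sup_mul_card_inf (hU.trans hK.norm)
  rw [h, ← card_mul_relIndex hU, mul_assoc, mul_comm (Nat.card K)] at h1
  exact Dvd.intro _ (Nat.eq_of_mul_eq_mul_left Nat.card_pos h1)

/-- B&G Proposition 12.15. -/
theorem sigma_subgroup_embedding {q : ℕ} [Fact q.Prime] {M X Ms : Subgroup G} (hM : Mx M)
    (hq : q ∈ sigma M) (hXM : X ≤ M) (hX : IsPGroup q X) (hMs : Mx Ms) (hN : 𝐍(X) ≤ Ms) (hne : Ms ≠ M) :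
    ¬ Cj M Ms ∧
    (∀ S : Subgroup G, Syl q S (M ⊓ Ms) → X ≤ S → 𝐍(S) ≤ M ∧ Syl q S Ms) ∧
    (q ∈ sigma Ms → betaCore Ms ⊔ (M ⊓ Ms) = Ms ∧ tau1 Ms ⊆ tau1 M ∪ alpha M ∧
      betaCore M = alphaCore M ∧ alphaCore M ≠ ⊥) ∧
    (q ∉ sigma Ms → q ∈ tau2 Ms ∧ (∀ r ∈ sigma Ms, r ∣ Nat.card M → r ∈ beta Ms) ∧
      Hall (sigma Ms)ᶜ (M ⊓ Ms) Ms) := by
  have hnc := mmax_norm_notJ hM hMs hX hXM hN (Or.inl ⟨hq, hne.symm⟩)
  have hb : ∀ S : Subgroup G, Syl q S (M ⊓ Ms) → X ≤ S → 𝐍(S) ≤ M ∧ Syl q S Ms := fun S hS hXS => by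
    have h1 : 𝐍(S) ≤ M := by
      by_cases hc : IsCyclic S
      · exact norm_sigma_Sylow hq (hS.of_norm_le inf_le_left
          (inf_le_inf_left M ((norm_le_of_le_cyclic hc hXS).trans hN)))
      · exact norm_noncyclic_sigma hM hq hS.pgroup (hS.le.trans inf_le_left) hc
    exact ⟨h1, hS.of_norm_le inf_le_right (le_inf (inf_le_right.trans h1) inf_le_left)⟩
  obtain ⟨S, hS, hXS⟩ := Syl.exists_ge hX (le_inf hXM ((le_norm X).trans hN))
  obtain ⟨hSM, hSMs⟩ := hb S hS hXS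
  refine ⟨hnc, hb, fun hs => ?_, fun hs => ?_⟩
  · have hSN := norm_sigma_Sylow hs hSMs
    have hSG := sigma_Sylow_G hs hSMs
    obtain ⟨h1, h2⟩ := nonuniq_norm_Sylow_pprod hM hMs hne hSG (le_inf hSN hSM)
    obtain ⟨h3, -⟩ := nonuniq_norm_Sylow_pprod hMs hM hne.symm hSG (le_inf hSM hSN)
    have h4 : betaCore M = alphaCore M := by rw [betaCore_eq, alphaCore_eq, h2]
    rw [inf_comm] at h1
    refine ⟨h3, fun r hr => ?_, h4, fun h => ?_⟩
    · have := Fact.mk hr.1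
      refine or_iff_not_imp_right.mpr fun ha => ?_
      obtain ⟨R, hR⟩ := Syl.exists r (M ⊓ Ms)
      have hb₁ := (Mbeta_pi M).p'_of_not_mem (h2 ▸ ha)
      have hb₂ := (Mbeta_pi Ms).p'_of_not_mem fun h => tau1_sigma' hr (beta_sub_sigma hMs h)
      have hR₁ : Syl r R M := A12.hall_of_sup (Mbeta_nml M) h1 hb₁ hR
      have hR₂ : Syl r R Ms := A12.hall_of_sup (Mbeta_nml Ms) h3 hb₂ hR
      have h5 : R ⊓ ⁅M, M⁆ = ⊥ := by
        rw [pprod_focal_coprime (Mbeta_nml M) h1 hR.le (hb₁.coprime_pgroup hR.pgroup),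
          ← pprod_focal_coprime (Mbeta_nml Ms) h3 hR.le (hb₂.coprime_pgroup hR.pgroup)]
        exact (Syl.eq_bot_iff' (hR₂.inf_nml (Nml.der_self Ms))).mpr (tau1_not_dvd_der hr)
      have hR1 := hR₂.ne_bot' (tau1_dvd hr)
      refine mem_tau1_iff.mpr ⟨fun h => hR1 ?_, by rw [← hR₁.rk_eq, hR₂.rk_eq, tau1_rk hr],
        (Syl.eq_bot_iff' (hR₁.inf_nml (Nml.der_self M))).mp h5⟩
      rw [← h5, left_eq_inf]
      exact A10.sigma_Sylow_le_der hM h hR₁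
    · rw [h4, h, bot_sup_eq, inf_eq_left] at h1
      exact hne (mmax_eq_of_le hM hMs h1).symm
  have hq2 := (prime_class_mmax_norm hMs hX hN).resolve_left hs
  obtain ⟨A, hA⟩ := exists_elem_of_le_rk (hSMs.rk_eq.trans (tau2_rk hq2)).ge
  have hAM := hA.mono (hS.le.trans inf_le_left)
  obtain ⟨-, -, hCA, h1, -⟩ := tau2_context hMs hq2 (hA.mono hSMs.le)
  obtain ⟨E, hE, hE'⟩ := ex_sigma_compl hMs inf_le_right (A12.sigma'_pi_of_inf_eq_bot hMs inf_le_right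
    (eq_bot_mono (h1 M hM hAM.le hne.symm) (inf_le_inf_left _ inf_le_left)))
  obtain ⟨⟨hAE, -⟩, ⟨hCE, -⟩, -⟩ := tau2_compl_context hMs hE hq2 (hA.mono (hS.le.trans hE'))
  have h2 : E = M ⊓ Ms := le_antisymm (le_inf (hAE.norm.trans
    (norm_noncyclic_sigma hM hq hA.pgroup hAM.le (hA.not_cyclic le_rfl))) hE.le) hE'
  refine ⟨hq2, fun r hr hd => by_contra fun hrb => ?_, h2 ▸ hE⟩
  have := Fact.mk hr.1
  have hri : ¬ IsIdealPrime r G := fun h => hrb (A12.beta_of_ideal hr h)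
  have hqi := (tau2_not_beta hMs hq2).1
  rcases lt_trichotomy r q with h | rfl | h
  · obtain ⟨P, hP, hAP⟩ := (beta'_cent_Sylow hMs hrb (fun h => hqi h.2) hA.pgroup
      (Or.inr ⟨h, hA.le.trans hSMs.le⟩)).1
    exact hP.ne_bot' ((Msigma_Hall hMs).dvd_card hr.1 (sigma_dvd hr) hr)
      (eq_bot_mono hCA (le_inf hP.le (cent_symm hAP)))
  · exact hs hr
  · obtain ⟨Y, hY⟩ := Elem.exists_one hd
    obtain ⟨Q, hQ, hYQ⟩ := (beta'_cent_Sylow hM (fun h => hqi h.2) (fun h => hri h.2) hY.pgroup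
      (Or.inr ⟨h, hY.le⟩)).1
    obtain ⟨m, -, hm⟩ := (hQ.of_Hall (Msigma_Hall hM) hq).exists_le_conj hA.pgroup hAM.le
    have h3 : m ⋆ Y ≤ E := (Transfer.conj_mono m hYQ).trans
      ((Transfer.conj_centralizer m Q).le.trans ((cent_anti hm).trans hCE))
    exact ((hY.conj m).of_le h3).mem_pi one_ne_zero hE.pi hr

end Cfsg.Lib.BG.Z
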