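import Cfsg.Agent.Lib.ZB.T12_15
import Cfsg.Agent.Lib.ZB.T10_12

set_option autoImplicit false
set_option linter.unusedVariables false

namespace Cfsg.Lib.BG.Z

open Subgroup
open scoped Cfsg.Lib.Transfer

variable {G : Type*} [Group G] [Finite G] [Sz G]

namespace A12

theorem sigma_Jsub_char {M Y : Subgroup G} (hM : Mx M) (hY : PiGrp (sigma M) Y) (hY1 : Y ≠ ⊥) :
    ∃ q ∈ sigma M, ∃ (g : G) (X : Subgroup G), X ≤ g ⋆ Y ∧ X ≠ ⊥ ∧ IsPGroup q X ∧ 𝐍(g ⋆ Y) ≤ 𝐍(X) ∧ X ≤ M := by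
  have hYt : Loc Y := loc_self hY1 (sigma_piD hY)
  obtain ⟨q, hq, hd⟩ := Nat.exists_prime_and_dvd (card_ne_one (Fitting_ne_bot (mFT_sol hYt) hY1))
  have := Fact.mk hq
  have hqs := hY q hq (hd.trans (card_dvd (Fitting_le Y)))
  have h1 : 𝐎({q}, Y) ≠ ⊥ := pcore_Fitting q Y ▸ (nil_pcore_Hall (Fitting_nil Y) {q}).ne_bot hq hd rfl
  obtain ⟨g, hg⟩ := sigma_pgroup_conj_le hqs (pcore_pgroup q Y)
  exact ⟨q, hqs, g, g ⋆ 𝐎({q}, Y), Transfer.conj_mono g (pcore_le _ _), mt Transfer.conj_eq_bot_iff.mp h1,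
    (pgroup_conj g).mpr (pcore_pgroup q Y), conj_pcore g _ Y ▸ norm_pcore le_rfl _, hg⟩

theorem sigma_Jsub_factor {q : ℕ} [Fact q.Prime] {M X : Subgroup G} (hM : Mx M) (hq : q ∈ sigma M)
    (hXM : X ≤ M) (hX : IsPGroup q X) (hX1 : X ≠ ⊥) (hN : ¬ 𝐍(X) ≤ M) :
    ∃ L K : Subgroup G, Mx L ∧ 𝐍(X) ≤ L ∧ L ≠ M ∧ Nml K L ∧ K ⊔ (M ⊓ L) = L ∧ PiGrp (sigma M)ᶜ K ∧
      ∀ p : ℕ, p ∣ Nat.card M → ¬ IsIdealPrime p G → PiGrp {p}ᶜ K := by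
  obtain ⟨L, hL, hXL⟩ := mFT_pgroup_norm_mmax hX hX1
  have hne : L ≠ M := fun h => hN (h ▸ hXL)
  obtain ⟨hnc, -, h1, h2⟩ := sigma_subgroup_embedding hM hq hXM hX hL hXL hne
  have hnc' : ¬ Cj L M := fun h => hnc h.symm
  by_cases hs : q ∈ sigma L
  · exact ⟨L, betaCore L, hL, hXL, hne, Mbeta_nml L, (h1 hs).1,
      (Mbeta_pi L).mono fun r hr => (sigma_disjoint hL hM hnc').2.1 r hr.1,
      fun p _ hp => (Mbeta_pi L).p'_of_not_mem fun h => hp h.2⟩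
  · obtain ⟨h3, h4, h5⟩ := h2 hs
    obtain ⟨A, hA⟩ := ex_tau2Elem hL h5 h3
    refine ⟨L, sigmaCore L, hL, hXL, hne, Msigma_nml L, (sdprod_sigma hL h5).sup, fun r hr hd h => ?_,
      fun p hd hp => (Msigma_pi L).p'_of_not_mem fun h => hp (h4 p h hd).2⟩
    exact Nat.not_coprime_of_dvd_of_dvd hr.one_lt hd ((Msigma_Hall hM).dvd_card hr h.2.1 h)
      ((tau2_compl_context hL h5 h3 hA).2.2.2 M hM hnc')

end A12

/-- B&G Corollary 12.16, first assertion. -/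
theorem sigma_Jsub {M Y : Subgroup G} (hM : Mx M) (hY : PiGrp (sigma M) Y) :
    ∃ g : G, g ⋆ Y ≤ sigmaCore M := by
  by_cases hY1 : Y = ⊥
  · exact ⟨1, by rw [Transfer.conj_one, hY1]; exact bot_le⟩
  obtain ⟨q, hq, g, X, -, hX1, hX, hYX, hXM⟩ := A12.sigma_Jsub_char hM hY hY1
  have := Fact.mk hq.1
  by_cases hN : 𝐍(X) ≤ M
  · exact ⟨g, A12.le_Ms hM ((le_norm _).trans (hYX.trans hN)) (hY.conj g)⟩
  obtain ⟨L, K, hL, hXL, -, hK, hsup, hKs, -⟩ := A12.sigma_Jsub_factor hM hq hXM hX hX1 hN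
  obtain ⟨m, -, hm⟩ := (A12.hall_of_sup hK hsup hKs ((Msigma_Hall hM).inf_of_normal (Msigma_nml M).norm
    inf_le_left)).exists_conj_le (sub_mmax_sol hL le_rfl) ((le_norm _).trans (hYX.trans hXL)) (hY.conj g)
  exact ⟨m * g, Transfer.conj_conj m g Y ▸ hm.trans inf_le_left⟩

/-- B&G Corollary 12.16(a), (b). -/
theorem sigma_Jsub_rank {p : ℕ} [Fact p.Prime] {M Y E H : Subgroup G} (hM : Mx M) (hY : PiGrp (sigma M) Y)
    (hY1 : Y ≠ ⊥) (hE : Hall (sigma M)ᶜ E M) (hp : p ∣ Nat.card E) (hb : ¬ IsIdealPrime p G) (hH : Mx H)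
    (hYH : Y ≤ H) (hnc : ¬ Cj M H) :
    rk p (H ⊓ 𝐍(Y)) ≤ 1 ∧ (p ∈ tau1 M → ¬ p ∣ Nat.card ↥⁅H ⊓ 𝐍(Y), H ⊓ 𝐍(Y)⁆) := by
  obtain ⟨q, hq, g, X, hXY, hX1, hX, hYX, hXM⟩ := A12.sigma_Jsub_char hM hY hY1
  have := Fact.mk hq.1
  have hps : p ∉ sigma M := hE.pi p Fact.out hp
  have hXs : X ≤ sigmaCore M := A12.le_Ms hM hXM (PiGrp.of_pgroup hX hq)
  have key : ∀ L A : Subgroup G, Mx L → L ≠ M → X ≤ L → ¬ Elem p 2 A (M ⊓ L) := fun L A hL hne hXL hA =>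
    hX1 (eq_bot_mono ((tau2_context hM (A12.mk_t2 hM hps (hA.mono inf_le_left)) (hA.mono inf_le_left)).2.2.2.1
      L hL (hA.le.trans inf_le_right) hne) (le_inf hXs hXL))
  rw [← rk_conj p g, ← Transfer.card_conj g, Transfer.conj_commutator]
  have hD : g ⋆ (H ⊓ 𝐍(Y)) ≤ 𝐍(X) :=
    (Transfer.conj_mono g inf_le_right).trans ((Transfer.conj_normalizer g Y).le.trans hYX)
  have hDH : g ⋆ (H ⊓ 𝐍(Y)) ≤ g ⋆ H := Transfer.conj_mono g inf_le_left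
  generalize g ⋆ (H ⊓ 𝐍(Y)) = D at hD hDH
  by_cases hN : 𝐍(X) ≤ M
  · refine ⟨not_lt.mp fun h => ?_, fun h hd => tau1_not_dvd_der h (hd.trans (card_dvd (der_mono (hD.trans hN))))⟩
    obtain ⟨A, hA⟩ := exists_elem_of_le_rk h
    exact key (g ⋆ H) A (mmax_conj hH g) (Cj.ne_of_not (mt (Cj.conj_right_iff g).mp hnc))
      (hXY.trans (Transfer.conj_mono g hYH)) (hA.mono (le_inf (hD.trans hN) hDH))
  obtain ⟨L, K, hL, hXL, hne, hK, hsup, -, hKp⟩ := A12.sigma_Jsub_factor hM hq hXM hX hX1 hN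
  have hKp' := hKp p (hp.trans (card_dvd hE.le)) hb
  obtain ⟨R, hR⟩ := Syl.exists p (M ⊓ L)
  have hRL : Syl p R L := A12.hall_of_sup hK hsup hKp' hR
  refine ⟨not_lt.mp fun h => ?_, fun h hd => ?_⟩
  · obtain ⟨A, hA⟩ := exists_elem_of_le_rk ((le_trans h (rk_mono (hD.trans hXL) p)).trans hRL.rk_eq.ge)
    exact key L A hL hne ((le_norm X).trans hXL) (hA.mono hR.le)
  · refine (Syl.eq_bot_iff' (hRL.inf_nml (Nml.der_self L))).mp ?_ (hd.trans (card_dvd (der_mono (hD.trans hXL))))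
    rw [pprod_focal_coprime hK hsup hR.le (hKp'.coprime_pgroup hR.pgroup)]
    exact hR.pi.inf_eq_bot ((PiGrp.p'_iff.mpr (tau1_not_dvd_der h)).of_le (der_mono inf_le_left))

end Cfsg.Lib.BG.Z
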