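import Cfsg.Agent.Lib.ZB.T12_13

set_option autoImplicit false
set_option linter.unusedVariables false

namespace Cfsg.Lib.BG.Z

open Subgroup
open scoped Cfsg.Lib.Transfer

variable {G : Type*} [Group G] [Finite G] [Sz G]

/-- B&G Lemma 12.17. -/
theorem sigma_compl_embedding {M E : Subgroup G} (hM : Mx M) (hE : Hall (sigma M)ᶜ E M) :
    sigmaCore M ⊓ 𝐂(E) ≤ ⁅sigmaCore M, sigmaCore M⁆ ∧ ⁅sigmaCore M, E⁆ = sigmaCore M ∧
    ∀ g : G, g ∉ M → IsCyclic ↥(sigmaCore M ⊓ g ⋆ M) ∧ PiGrp (beta M)ᶜ (sigmaCore M ⊓ g ⋆ M) ∧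
      sigmaCore M ⊓ g ⋆ M ⊓ ⁅sigmaCore M, sigmaCore M⁆ = ⊥ := by
  obtain ⟨h1, h2⟩ := coprime_der1_sdprod (sdprod_sigma hM hE) ((Msigma_pi M).coprime hE.pi)
    (sub_mmax_sol hM (Msigma_le M)) (Msigma_der1 hM)
  refine ⟨h2, h1, fun g hg => ?_⟩
  have key : ∀ (p n : ℕ) [Fact p.Prime] (X : Subgroup G), n ≠ 0 → Elem p n X (sigmaCore M ⊓ g ⋆ M) →
      ¬ 𝐂(X) ≤ M := fun p n _ X hn hX h =>
    hg (sigma_group_trans_e hM ((hX.mono inf_le_left).mem_pi hn (Msigma_pi M)) hX.pgroup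
      (hX.le.trans (inf_le_left.trans (Msigma_le M))) h (hX.le.trans inf_le_right))
  have hD : sigmaCore M ⊓ g ⋆ M ≤ M := inf_le_left.trans (Msigma_le M)
  have h3 : sigmaCore M ⊓ g ⋆ M ⊓ ⁅sigmaCore M, sigmaCore M⁆ = ⊥ := by
    by_contra h
    obtain ⟨p, hp, hd⟩ := Nat.exists_prime_and_dvd (card_ne_one h)
    have := Fact.mk hp
    obtain ⟨X, hX⟩ := Elem.exists_one hd
    exact key p 1 X one_ne_zero (hX.mono inf_le_left)
      (cent_der_sigma_uniq hM (hX.mono (inf_le_left.trans hD)) (Or.inr (hX.le.trans inf_le_right))).1.le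
  refine ⟨abelian_cyclic_of_rank_le_one (abelian_iff_der.mpr (eq_bot_mono h3
    (le_inf (der_le _) (der_mono inf_le_left)))) (rank_le_iff_forall.mpr fun p hp => not_lt.mp fun h => ?_),
    fun p hp hd hb => ?_, h3⟩
  · have := Fact.mk hp
    obtain ⟨A, hA⟩ := exists_elem_of_le_rk h
    exact key p 2 A two_ne_zero hA (p2Elem_mmax hM (hA.mono hD))
  · have := Fact.mk hp
    obtain ⟨X, hX⟩ := Elem.exists_one hd
    exact key p 1 X one_ne_zero hX (cent_der_sigma_uniq hM (hX.mono hD) (Or.inl hb)).1.le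

end Cfsg.Lib.BG.Z
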