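import Cfsg.Agent.Lib.ZB.T12_1
import Cfsg.Agent.Lib.ZB.T10_12
import Cfsg.Agent.Lib.ZB.T11_3
import Cfsg.Agent.Lib.ZB.T11_7

set_option autoImplicit false
set_option linter.unusedVariables false

namespace Cfsg.Lib.BG.Z

open Subgroup
open scoped Cfsg.Lib.Transfer

variable {G : Type*} [Group G] [Finite G] [Sz G]

/-- B&G Lemma 12.2(a). -/
theorem prime_class_mmax_norm {p : ℕ} [Fact p.Prime] {M X : Subgroup G} (hM : Mx M) (hX : IsPGroup p X)
    (hN : 𝐍(X) ≤ M)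
    (hD : p ∈ DD G := by dd) : p ∈ sigma M ∨ p ∈ tau2 M := by
  by_cases hs : p ∈ sigma M
  · exact .inl hs
  · exact .inr (mem_tau2_iff.2 ⟨hs, sigma'_norm_mmax_rank2 hM hs hX hN⟩)

/-- B&G Lemma 12.2(b). -/
theorem mmax_norm_notJ {p : ℕ} [Fact p.Prime] {M Ms X : Subgroup G} (hM : Mx M) (hMs : Mx Ms)
    (hX : IsPGroup p X) (hXM : X ≤ M) (hN : 𝐍(X) ≤ Ms)
    (h : (p ∈ sigma M ∧ M ≠ Ms) ∨ p ∈ tau1 M ∨ p ∈ tau3 M)
    (hD : p ∈ DD G := by dd) : ¬ Cj M Ms := by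
  intro hc
  rcases h with ⟨hs, hne⟩ | h
  · obtain ⟨c, hcX, e⟩ := sigma_group_trans_b hM hs hX Ms ⟨hc, (le_norm X).trans hN⟩ M ⟨Cj.refl M, hXM⟩
    exact hne (e.trans (conj_eq_of_mem (hN (cent_le_norm X hcX))))
  · obtain ⟨g, rfl⟩ := hc
    rcases prime_class_mmax_norm hMs hX hN with h' | h'
    · rw [sigma_conj] at h'
      exact S14.tau13_sigma' h h'
    · rw [tau2_conj] at h'
      exact S14.tau13_tau2' h h'

/-- `M' / M_α` is nilpotent (B&G Theorem 10.2(d)). -/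
theorem Malpha_quo_der1_nil {M : Subgroup G} (hM : Mx M) :
    Group.IsNilpotent (quo ⁅M, M⁆ (alphaCore M)) := by
  have hle : alphaCore M ≤ ⁅M, M⁆ := (Malpha_sub_Msigma hM).trans (Msigma_der1 hM)
  have hH : Hall (alpha M) (alphaCore M) ⁅M, M⁆ := (Malpha_Hall hM).of_le hle (der_le M)
  obtain ⟨W, hW, hW'⟩ := hH.exists_compl (norm_Malpha (der_le M))
  rw [← hW.sup, quo_sup_self hW.norm]
  exact nil_quo (alpha'_der1_nil hM hW'.pi hW'.le) _

/-- Subgroups of `M'` of coprime orders commute modulo `M_α`. -/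
theorem der1_comm_le_Malpha {M K A : Subgroup G} (hM : Mx M) (hK : K ≤ ⁅M, M⁆) (hA : A ≤ ⁅M, M⁆)
    (hc : (Nat.card K).Coprime (Nat.card A)) : ⁅K, A⁆ ≤ alphaCore M :=
  (quo_le_cent_iff (norm_Malpha (hK.trans (der_le M))) (norm_Malpha (hA.trans (der_le M)))).1
    (nil_cent_of_coprime (Malpha_quo_der1_nil hM) (quo_mono hK _) (quo_mono hA _) (coprime_quo hc _))

omit [Finite G] [Sz G] in
/-- If `N A` is normal in `H` and `A` normalizes `K ≤ H` of coprime order, then `[K, A] ≤ N`. -/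
theorem comm_le_of_sup_nml {H N K A : Subgroup G} (hN : Nml N H) (hNA : Nml (N ⊔ A) H) (hK : K ≤ H)
    (hAK : A ≤ 𝐍(K)) (hc : (Nat.card K).Coprime (Nat.card A)) : ⁅K, A⁆ ≤ N := by
  have hA : A ≤ H := le_sup_right.trans hNA.le
  refine (quo_le_cent_iff (hK.trans hN.norm) (hA.trans hN.norm)).1 ?_
  refine cent_of_norm_of_disjoint ?_ (quo_norm hAK N) (disjoint_of_coprime (coprime_quo hc N))
  rw [← quo_sup_self (hA.trans hN.norm)]
  exact quo_norm (hK.trans hNA.norm) N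

/-- B&G Lemma 12.3. -/
theorem nonuniq_p2Elem_cent_sigma {p : ℕ} [Fact p.Prime] {M Ms A A₀ : Subgroup G} (hM : Mx M)
    (hMs : Mx Ms) (hne : Ms ≠ M) (hA : Elem p 2 A M) (hA₀ : Elem p 1 A₀ A) (hN : 𝐍(A₀) ≤ Ms) :
    (p ∉ sigma M → A ≤ 𝐂(sigmaCore M ⊓ Ms)) ∧ (p ∉ alpha M → A ≤ 𝐂(alphaCore M ⊓ Ms)) := by
  have hAH : A ≤ Ms := (abelian_norm hA.abelian hA₀.le).trans hN
  have hnA : Nml (sigmaCore Ms ⊔ A) Ms := by
    by_cases hs : p ∈ sigma Ms
    · rw [sup_eq_left.2 ((Msigma_Hall hMs).ge_of_normal (Msigma_nml Ms).norm hAH (hA.pi hs))]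
      exact Msigma_nml Ms
    · exact exceptional_mul_sigma_normal ⟨hMs, hs, hA.of_le hAH, hA₀, hN⟩
  have key : ∀ K : Subgroup G, PiGrp {p}ᶜ K → M ≤ 𝐍(K) → ⁅K ⊓ Ms, A⁆ ≤ K ⊓ sigmaCore Ms := by
    intro K hK hn
    have hAK : A ≤ 𝐍(K ⊓ Ms) := norm_inf (hA.le.trans hn) (le_norm_of_le hAH)
    exact le_inf ((comm_le_left hAK).trans inf_le_left) (comm_le_of_sup_nml (Msigma_nml Ms) hnA inf_le_right hAK
      ((hK.of_le inf_le_left).coprime_pgroup hA.pgroup))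
  have ha : p ∉ sigma M → A ≤ 𝐂(sigmaCore M ⊓ Ms) := by
    intro hs
    have hK : PiGrp {p}ᶜ (sigmaCore M) := (Msigma_pi M).p'_of_not_mem hs
    have h1 := key _ hK (Msigma_nml M).norm
    by_cases hs' : p ∈ sigma Ms
    · have hnc : ¬ Cj Ms M := not_Cj_of_sigma hs' hs
      have hAK : A ≤ 𝐍(sigmaCore M ⊓ Ms) := norm_inf (norm_Msigma hA.le) (le_norm_of_le hAH)
      have hcop : (Nat.card ↥(sigmaCore M ⊓ Ms)).Coprime (Nat.card A) :=
        (hK.of_le inf_le_left).coprime_pgroup hA.pgroup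
      rw [← comm_eq_bot_iff', ← coprime_commGid hAK hcop.symm, eq_bot_iff,
        ← (sigma_disjoint hMs hM hnc).1]
      refine le_inf (der1_comm_le_Malpha hMs ((h1.trans inf_le_right).trans (Msigma_der1 hMs))
        (A10.sigma_le_der hMs (hA.pi hs') hAH) (coprime_mono hcop (comm_le_left hAK) le_rfl)) ?_
      exact (comm_le_left (right_norm_comm _ _)).trans (h1.trans inf_le_left)
    · rw [← comm_eq_bot_iff']
      by_contra h
      exact hne (exceptional_sigma_uniq ⟨hMs, hs', hA.of_le hAH, hA₀, hN⟩ hM hA.le (ne_bot_mono h h1)).symm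
  refine ⟨ha, fun hα => ?_⟩
  by_cases hs : p ∈ sigma M
  · have hnc : ¬ Cj M Ms := mmax_norm_notJ hM hMs hA₀.pgroup (hA₀.le.trans hA.le) hN (.inl ⟨hs, hne.symm⟩)
    rw [← comm_eq_bot_iff', eq_bot_iff, ← (sigma_disjoint hM hMs hnc).1]
    exact key _ ((Malpha_pi M).p'_of_not_mem hα) (Malpha_nml M).norm
  · exact (ha hs).trans (cent_anti (inf_le_inf_right _ (Malpha_sub_Msigma hM)))

end Cfsg.Lib.BG.Z
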