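import Cfsg.Agent.Lib.ZB.Max
import Cfsg.Agent.Lib.BG.T01_Coprime
import Cfsg.Agent.Lib.BG.T03_1
import Cfsg.Agent.Lib.BG.T03_3
import Cfsg.Agent.Lib.ZB.T10_2
import Cfsg.Agent.Lib.ZB.T10_3
import Cfsg.Agent.Lib.ZB.T10_9
import Cfsg.Agent.Lib.ZB.T12_2

set_option autoImplicit false
set_option linter.unusedVariables false

namespace Cfsg.Lib.BG.Z

open Subgroup
open scoped Cfsg.Lib.Transfer

variable {G : Type*} [Group G] [Finite G] [Sz G]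

theorem A12.cent_Malpha_rank_le {M X : Subgroup G} (hM : Mx M) (hXM : X ≤ M) (hX : PiGrp (alpha M)ᶜ X)
    (hX1 : X ≠ ⊥) (hN : PiGrp (DD G) X → ¬ UniqMax 𝐍(X) M) : rank (alphaCore M ⊓ 𝐂(X)) ≤ 1 := by
  refine not_lt.mp fun h => ?_
  have hD : PiGrp (DD G) X := D_of_inf_cent (hM.loc.Malpha_D) (rank_pos_iff.1 (by omega))
  exact hN hD (((cent_alpha'_uniq hM hXM hX h).uniqMax hM inf_le_left).mono'
    (inf_le_right.trans (cent_le_norm X)) (mFT_norm_proper hX1 (sub_mmax_proper hM hXM)))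

/-- B&G Lemma 12.18(a). -/
theorem cent_Malpha_reg_tau1_a {p q : ℕ} [Fact p.Prime] [Fact q.Prime] {M P Q : Subgroup G} (hM : Mx M)
    (hp : p ∈ tau1 M) (hqp : q ≠ p) (hP : Elem p 1 P M) (hQ1 : Q ≠ ⊥) (hPQ : P ≤ 𝐍(Q)) (hC : Q ⊓ 𝐂(P) = ⊥)
    (hN : ¬ UniqMax 𝐍(Q) M) (ha : alphaCore M ≠ ⊥) (hq : q ∉ alpha M) (hQM : Q ≤ M) (hQ : IsPGroup q Q)
    (hD : q ∈ DD G := by dd) :
    alphaCore M ⊓ 𝐂(P) ≠ ⊥ ∧ alphaCore M ⊓ 𝐂(Q ⊔ P) = ⊥ := by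
  have hP1 := hP.ne_bot one_ne_zero
  have hPa : PiGrp (alpha M)ᶜ P := hP.pi fun h => tau1_sigma' hp (alpha_sub_sigma hM h)
  have hQa : PiGrp (alpha M)ᶜ Q := PiGrp.of_pgroup hQ hq
  have hr₁ := A12.cent_Malpha_rank_le hM hQM hQa hQ1 fun _ => hN
  have hr₂ := A12.cent_Malpha_rank_le hM hP.le hPa hP1 fun hPD h =>
    (prime_class_mmax_norm hM hP.pgroup h.le).elim (tau1_sigma' hp) (tau1_tau2' hp)
  have hF : Frob Q P (Q ⊔ P) := ⟨SD.of_coprime hPQ (coprime_pgroups hQ hP.pgroup hqp), hQ1, hP1,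
    semiReg_prime hP.prime hC⟩
  have hn : Q ⊔ P ≤ 𝐍(alphaCore M) := norm_Malpha (sup_le hQM hP.le)
  have hcop : (Nat.card (alphaCore M)).Coprime (Nat.card ↥(Q ⊔ P)) := (Malpha_pi M).coprime (hQa.sup hPa hPQ)
  have hs := sub_mmax_sol hM (Malpha_le M)
  have key : ∀ (r : ℕ) [Fact r.Prime] (R : Subgroup G), Syl r R (alphaCore M) → r ∈ alpha M → ¬ Q ≤ 𝐂(R) :=
    fun r _ R hR hr h => by
      have h1 := (rk_mono (le_inf hR.le (cent_symm h)) r).trans ((rk_le_rank r _).trans hr₁)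
      have h2 := mem_alpha_iff.mp hr
      rw [hR.rk_eq, (Malpha_Hall hM).rk_eq hr] at h1
      omega
  constructor
  · refine Frobenius_cent_compl hF hn (coprime_mono hcop le_rfl le_sup_left) hs
      (coprime_mono hcop le_rfl le_sup_right) fun h => ?_
    obtain ⟨r, hr, hd⟩ := Nat.exists_prime_and_dvd (card_ne_one ha)
    have := Fact.mk hr
    obtain ⟨R, hR⟩ := Syl.exists r (alphaCore M)
    exact key r R hR (Malpha_pi M r hr hd) (h.trans (cent_anti hR.le))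
  by_contra h
  obtain ⟨r, hr, hd⟩ := Nat.exists_prime_and_dvd (card_ne_one h)
  have := Fact.mk hr
  obtain ⟨Y, hY⟩ := Elem.exists_one hd
  have hYC : Y ≤ 𝐂(Q ⊔ P) := hY.le.trans inf_le_right
  have hra := (hY.mono inf_le_left).mem_pi one_ne_zero (Malpha_pi M)
  obtain ⟨R, hR, hYR, hnR⟩ := Syl.exists_inv_ge hn hcop.symm (Or.inr hs) hY.pgroup (hY.le.trans inf_le_left)
    (norm_of_cent (cent_symm hYC))
  have hr2 := hY.ne_twoZ one_ne_zero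
  obtain ⟨R₁, h₁, hn₁, -, -, he, hcr⟩ := critical_odd hr2 hR.pgroup (ne_bot_mono (hY.ne_bot one_ne_zero) hYR)
  have hcyc : IsCyclic ↥(R ⊓ 𝐂(P)) := cyclic_of_rk_le_one hr2 (pgroup_of_le hR.pgroup inf_le_left)
    ((rk_mono (inf_le_inf_right _ hR.le) r).trans ((rk_le_rank r _).trans hr₂))
  have h2 : R₁ ⊓ 𝐂(Q ⊔ P) = R₁ ⊓ 𝐂(P) := by
    refine le_antisymm (inf_le_inf_left _ (cent_anti le_sup_right)) fun x hx => ⟨hx.1, hYC ?_⟩
    rw [← cyclic_Ohm1_eq hcyc (hY.of_le (le_inf hYR (hYC.trans (cent_anti le_sup_right))))]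
    exact PGroup.mem_omegaOne ⟨h₁ hx.1, hx.2⟩ (he x hx.1)
  have h3 := Frobenius_Wielandt_fixpoint hF (hnR.trans hn₁) (coprime_mono hcop (h₁.trans hR.le) le_rfl)
    (sol_of_le hs (h₁.trans hR.le))
  rw [h2] at h3
  have h4 := eq_of_le_of_card_le (inf_le_left : R₁ ⊓ 𝐂(Q) ≤ R₁)
    (Nat.eq_of_mul_eq_mul_left (pow_pos Nat.card_pos _) h3).le
  exact key r R hR hra (hcr Q (le_sup_left.trans hnR) (hQa.p'_of_compl hra).coprime_p
    (cent_symm (h4.ge.trans inf_le_right)))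

/-- B&G Lemma 12.18(b). -/
theorem cent_Malpha_reg_tau1_b {p q : ℕ} [Fact p.Prime] [Fact q.Prime] {M P Q : Subgroup G} (hM : Mx M)
    (hp : p ∈ tau1 M) (hqp : q ≠ p) (hP : Elem p 1 P M) (hQ1 : Q ≠ ⊥) (hPQ : P ≤ 𝐍(Q)) (hC : Q ⊓ 𝐂(P) = ⊥)
    (hN : ¬ UniqMax 𝐍(Q) M) (hQ : Syl q Q M)
    (hD : q ∈ DD G := by dd) :
    alpha M = beta M ∧ alphaCore M ≠ ⊥ ∧ q ∉ alpha M ∧ alphaCore M ⊓ 𝐂(P) ≠ ⊥ ∧ alphaCore M ⊓ 𝐂(Q ⊔ P) = ⊥ := by
  have hNt := mFT_pgroup_norm_proper hQ.pgroup hQ1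
  have hq : q ∉ alpha M := fun h => hN ((alpha_Sylow_uniq hM h hQ).mono' (le_norm Q) hNt)
  have hQd : Q ≤ ⁅M, M⁆ := (coprime_comm_eq_of_cent_bot hPQ (coprime_pgroups hP.pgroup hQ.pgroup hqp.symm)
    (Or.inr (pgroup_sol hQ.pgroup)) hC).ge.trans (comm_le_der hQ.le hP.le)
  have ha : alphaCore M ≠ ⊥ := fun h => by
    have h1 := alpha'_der1_nil hM (((Malpha_Hall hM).eq_bot_iff.mp h).of_le (der_le M)) le_rfl
    have h2 : Nml Q M := (hQ.of_le hQd (der_le M)).eq_of_nil h1 ▸ (Nml.der_self M).pcore _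
    exact hN ((mmax_normal hM h2 hQ1).symm ▸ UniqMax.self hM)
  refine ⟨Set.Subset.antisymm (fun r hr => by_contra fun hb => ?_) (beta_sub_alpha M), ha, hq,
    cent_Malpha_reg_tau1_a hM hp hqp hP hQ1 hPQ hC hN ha hq hQ.le hQ.pgroup⟩
  have := Fact.mk hr.1
  exact hN ((((beta'_cent_Sylow hM hb (fun h => hq h.1) hQ.pgroup
    (Or.inl ⟨fun h => hq (h ▸ hr), hQd⟩)).2.1 hr).uniqMax hM inf_le_left).mono'
    (inf_le_right.trans (cent_le_norm Q)) hNt)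

end Cfsg.Lib.BG.Z
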