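import Cfsg.Agent.Lib.ZB.T12_2
import Cfsg.Agent.Lib.ZB.T10_11

set_option autoImplicit false
set_option linter.unusedVariables false

namespace Cfsg.Lib.BG.Z

open Subgroup
open scoped Cfsg.Lib.Transfer

variable {G : Type*} [Group G] [Finite G] [Sz G]

/-- The local information obtained from Lemma 12.3 under the hypothesis of Proposition 12.4(b). -/
theorem p2Elem_mmax_cent1 {p : ℕ} [Fact p.Prime] {M A : Subgroup G} (hM : Mx M) (hA : Elem p 2 A M)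
    (h : ∀ A₀ : Subgroup G, Elem p 1 A₀ A → ¬ UniqMax 𝐍(A₀) M) {y : G} (hy : y ∈ A) (h1 : y ≠ 1) :
    rank (M ⊓ 𝐂[y]) ≤ 2 ∧ (p ∉ sigma M → sigmaCore M ⊓ 𝐂[y] ≤ 𝐂(A)) ∧
      (p ∉ alpha M → alphaCore M ⊓ 𝐂[y] ≤ 𝐂(A)) := by
  have hY := hA.zpowers_of_mem hy h1
  obtain ⟨H, hH, hNH, hne⟩ : ∃ H : Subgroup G, Mx H ∧ 𝐍(zpowers y) ≤ H ∧ H ≠ M := by
    obtain ⟨H, hH, hNH⟩ := mFT_pgroup_norm_mmax hY.pgroup (hY.ne_bot one_ne_zero)
    by_cases e : H = M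
    · exact exists_mmax_ne_of_not_uniqMax (h _ hY) hM (e ▸ hNH)
    · exact ⟨H, hH, hNH, e⟩
  have hCH : 𝐂[y] ≤ H := by rw [← cent_zpowers]; exact (cent_le_norm _).trans hNH
  obtain ⟨ha, hb⟩ := nonuniq_p2Elem_cent_sigma hM hH hne hA hY hNH
  refine ⟨?_, fun hs => ?_, fun hs => ?_⟩
  · by_contra h3
    exact hne ((rank3_Uniqueness (sub_mmax_proper hM inf_le_left) (by omega)).eq hM hH inf_le_left
      (inf_le_right.trans hCH))
  · exact (inf_le_inf_left _ hCH).trans (cent_symm (ha hs))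
  · exact (inf_le_inf_left _ hCH).trans (cent_symm (hb hs))

/-- Proposition 12.4 under the hypothesis of (b), with the normality of `Ω₁(Z(P))`. -/
theorem p2Elem_mmax_aux {p : ℕ} [Fact p.Prime] {M A : Subgroup G} (hM : Mx M) (hA : Elem p 2 A M)
    (h : ∀ A₀ : Subgroup G, Elem p 1 A₀ A → ¬ UniqMax 𝐍(A₀) M) :
    p ∈ sigma M ∧ alphaCore M = ⊥ ∧ Group.IsNilpotent (sigmaCore M) ∧ 𝐂(A) ≤ M := by
  have key := fun y hy h1 => p2Elem_mmax_cent1 hM hA h (y := y) hy h1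
  have hnc := hA.not_cyclic le_rfl
  have hA1 := hA.ne_bot two_ne_zero
  have hr : rank (M ⊓ 𝐂(A)) ≤ 2 := by
    obtain ⟨y, hy, h1⟩ := exists_ne_one hA1
    exact (rank_mono (inf_le_inf_left _ (cent_le_cent1 hy))).trans (key y hy h1).1
  have hs : p ∈ sigma M := by
    by_contra hs
    have hc : sigmaCore M ≤ 𝐂(A) := coprime_abelian_gen_cent1 hA.abelian hnc (norm_Msigma hA.le)
      (((Msigma_pi M).p'_of_not_mem hs).coprime_pgroup hA.pgroup).symm fun y hy h1 => (key y hy h1).2.1 hs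
    have h1 := sub'cent_sigma_rank1 hM hA.le (hA.pi hs)
    rw [inf_eq_left.2 (cent_symm hc), hA.rank_eq'] at h1
    omega
  obtain ⟨P, hP, hAP⟩ := Syl.exists_ge hA.pgroup hA.le
  have hP1 : P ≠ ⊥ := ne_bot_mono hA1 hAP
  have hZA : omegaOne p 𝐙(P) ≤ A := by
    have hmax : MaxElem p A (M ⊓ 𝐂(A)) :=
      (hA.of_le (le_inf hA.le hA.cent)).maxElem_of_rk ((rk_le_rank p _).trans hr)
    have hle : omegaOne p 𝐙(P) ≤ 𝐂(A) := (Ohm1_le _ _).trans (inf_le_right.trans (cent_anti hAP))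
    exact hmax.ge (elab_Ohm1_center p P) (le_inf ((Ohm1_le _ _).trans (inf_le_left.trans hP.le)) hle) hle
  have hZ1 := Ohm1_center_ne_bot hP.pgroup hP1
  have hα : p ∉ alpha M := by
    obtain ⟨z, hz, h1⟩ := exists_ne_one hZ1
    rw [not_mem_alpha_iff, ← hP.rk_eq]
    exact (rk_le_rank p P).trans ((rank_mono (le_inf hP.le (le_cent1_iff.2 (Ohm1_le _ _ hz).2))).trans
      (key z (hZA hz) h1).1)
  have hMa : alphaCore M = ⊥ := by
    have hc : alphaCore M ≤ 𝐂(A) := coprime_abelian_gen_cent1 hA.abelian hnc (norm_Malpha hA.le)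
      (((Malpha_pi M).p'_of_not_mem hα).coprime_pgroup hA.pgroup).symm fun y hy h1 => (key y hy h1).2.2 hα
    by_contra h1
    obtain ⟨X, hX, hq⟩ := exists_prime_le h1
    haveI := Fact.mk hq
    have hqa : Nat.card X ∈ alpha M := (Malpha_pi M).mem hq (card_dvd hX)
    have h3 := mem_alpha_iff.1 hqa
    rw [← (Malpha_Hall hM).rk_eq hqa] at h3
    have := (rk_le_rank (Nat.card X) _).trans ((rank_mono (le_inf (Malpha_le M) hc)).trans hr)
    omega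
  have hnil : Group.IsNilpotent (sigmaCore M) := by
    refine alpha'_der1_nil hM (PiGrp.of_le ?_ (Msigma_le M)) (Msigma_der1 hM)
    exact (Malpha_Hall hM).eq_bot_iff.1 hMa
  refine ⟨hs, hMa, hnil, ?_⟩
  have hPs : Syl p P (sigmaCore M) :=
    hP.of_le ((Msigma_Hall hM).ge_of_normal (Msigma_nml M).norm hP.le (PiGrp.of_pgroup hP.pgroup hs)) (Msigma_le M)
  have hn : Nml P M := by
    rw [hPs.eq_of_nil hnil]
    exact (Msigma_nml M).pcore _
  exact (cent_anti hZA).trans (mmax_cent_le hM (hn.center.Ohm1 p) hZ1)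

/-- B&G Proposition 12.4(b). -/
theorem p2Elem_mmax_b {p : ℕ} [Fact p.Prime] {M A : Subgroup G} (hM : Mx M) (hA : Elem p 2 A M)
    (h : ∀ A₀ : Subgroup G, Elem p 1 A₀ A → ¬ UniqMax 𝐍(A₀) M) :
    p ∈ sigma M ∧ alphaCore M = ⊥ ∧ Group.IsNilpotent (sigmaCore M) :=
  let ⟨h1, h2, h3, _⟩ := p2Elem_mmax_aux hM hA h
  ⟨h1, h2, h3⟩

/-- B&G Proposition 12.4(a). -/
theorem p2Elem_mmax {p : ℕ} [Fact p.Prime] {M A : Subgroup G} (hM : Mx M) (hA : Elem p 2 A M) :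
    𝐂(A) ≤ M := by
  by_cases h : ∀ A₀ : Subgroup G, Elem p 1 A₀ A → ¬ UniqMax 𝐍(A₀) M
  · exact (p2Elem_mmax_aux hM hA h).2.2.2
  · simp only [not_forall, not_not] at h
    obtain ⟨A₀, hA₀, hu⟩ := h
    exact (cent_anti hA₀.le).trans ((cent_le_norm A₀).trans hu.le)

end Cfsg.Lib.BG.Z
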