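import Cfsg.Agent.Lib.BG.Rank
import Cfsg.Agent.Lib.ZB.T10_2

/-! # Small API for the second half of B&G section 12 (namespace `A12`) -/

set_option autoImplicit false
set_option linter.unusedVariables false

namespace Cfsg.Lib.BG.Z.A12

open Subgroup
open scoped Cfsg.Lib.Transfer

variable {G : Type*} [Group G] {p : ℕ} {A E H K L M N P Q S X : Subgroup G}

theorem exists_mmax [Finite G] (h : Loc H) : ∃ M : Subgroup G, Mx M ∧ H ≤ M :=
  exists_Mx h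

theorem uniqMax_of_forall [Finite G] (h : Loc H) (hM : Mx M)
    (hu : ∀ L : Subgroup G, Mx L → H ≤ L → L = M) : UniqMax H M := by
  obtain ⟨L, hL, hHL⟩ := exists_mmax h
  exact ⟨hM, hu L hL hHL ▸ hHL, hu⟩

theorem coatom_eq_of_le (hM : Mx M) (hL : Mx L) (h : M ≤ L) : L = M :=
  hM.eq_of_le hL.1 h

theorem Ms_nml (M : Subgroup G) : Nml (sigmaCore M) M := pcore_nml _ M
theorem Ms_le (M : Subgroup G) : sigmaCore M ≤ M := pcore_le _ M
theorem Ms_pi [Finite G] (M : Subgroup G) : PiGrp (sigma M) (sigmaCore M) := pcore_pi _ M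
theorem Ma_nml (M : Subgroup G) : Nml (alphaCore M) M := pcore_nml _ M
theorem Ma_pi [Finite G] (M : Subgroup G) : PiGrp (alpha M) (alphaCore M) := pcore_pi _ M
theorem Mb_nml (M : Subgroup G) : Nml (betaCore M) M := pcore_nml _ M
theorem Mb_pi [Finite G] (M : Subgroup G) : PiGrp (beta M) (betaCore M) := pcore_pi _ M

theorem t1_ns (h : p ∈ tau1 M) : p ∉ sigma M := h.2.1
theorem t2_ns (h : p ∈ tau2 M) : p ∉ sigma M := h.2.1
theorem t3_ns (h : p ∈ tau3 M) : p ∉ sigma M := h.2.1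
theorem t1_ne_t2 (h : p ∈ tau1 M) : p ∉ tau2 M := fun h' => h'.2.2.2 h.2.2.2.2
theorem t3_ne_t2 (h : p ∈ tau3 M) : p ∉ tau2 M := fun h' => h'.2.2.2 h.2.2.2
theorem t1_ne_t3 (h : p ∈ tau1 M) : p ∉ tau3 M := fun h' => h.2.2.2.1 h'.2.2.1
theorem sigma_dvd (h : p ∈ sigma M) : p ∣ Nat.card M := h.2.1

variable [Finite G]

theorem sigma_conj_eq (g : G) (M : Subgroup G) : sigma (g ⋆ M) = sigma M := by
  ext q
  exact ⟨fun h => Transfer.inv_conj_conj g M ▸ A10.sigma_conj h g⁻¹, fun h => A10.sigma_conj h g⟩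

theorem conj_Ms (g : G) (M : Subgroup G) : g ⋆ sigmaCore M = sigmaCore (g ⋆ M) := by
  show g ⋆ 𝐎(sigma M, M) = 𝐎(sigma (g ⋆ M), g ⋆ M)
  rw [sigma_conj_eq]; exact conj_pcore g (sigma M) M

section prime
variable [hp : Fact p.Prime]

theorem t1_rk (h : p ∈ tau1 M) : rk p M ≤ 1 := rk_le_iff.mpr h.2.2.2.2
theorem t3_rk (h : p ∈ tau3 M) : rk p M ≤ 1 := rk_le_iff.mpr h.2.2.2
theorem t2_rk (h : p ∈ tau2 M) : rk p M = 2 :=
  le_antisymm (rk_le_iff.mpr h.2.2.1) (lt_rk_iff.mpr h.2.2.2)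

theorem mk_t1 (hs : p ∉ sigma M) (hd : p ∣ Nat.card M) (hd' : ¬ p ∣ Nat.card ↥⁅M, M⁆) (hr : rk p M ≤ 1) :
    p ∈ tau1 M := ⟨hp.out, hs, hd, hd', rk_le_iff.mp hr⟩

theorem tau1_conj (h : p ∈ tau1 M) (g : G) : p ∈ tau1 (g ⋆ M) :=
  mk_t1 (by rw [sigma_conj_eq]; exact h.2.1) (by rw [Transfer.card_conj]; exact h.2.2.1)
    (by rw [← Transfer.conj_commutator, Transfer.card_conj]; exact h.2.2.2.1)
    (by rw [rk_conj]; exact t1_rk h)

/-- An abelian `p`-group of rank at most `2` containing `A ∈ E_p^2` as a direct product of two nontrivial subgroups: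
both factors are cyclic. -/
theorem DP.cyclic_left (h : DP H K S) (hS : IsPGroup p S) (hab : IsMulCommutative S) (h2 : rk p S ≤ 2)
    (hK : K ≠ ⊥) : IsCyclic H := by
  have h1 := h.rk_add_le (p := p)
  have h3 : 0 < rk p K := rk_pos_iff.mpr (pgroup_dvd_card (pgroup_of_le hS h.right_le) hK)
  exact cyclic_of_abelian_rk_le_one (pgroup_of_le hS h.left_le) (abelian_of_le hab h.left_le) (by omega)

/-- The subgroups of a cyclic `p`-group form a chain. -/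
theorem cyclic_le_total (hc : IsCyclic S) (hS : IsPGroup p S) (hH : H ≤ S) (hK : K ≤ S) : H ≤ K ∨ K ≤ H := by
  obtain ⟨i, hi⟩ := (pgroup_of_le hS hH).exists_card_eq
  obtain ⟨j, hj⟩ := (pgroup_of_le hS hK).exists_card_eq
  rw [Misc.le_iff_card_dvd_of_le_cyclic hc hH hK, Misc.le_iff_card_dvd_of_le_cyclic hc hK hH, hi, hj]
  exact (le_total i j).imp (pow_dvd_pow p) (pow_dvd_pow p)

/-- In a cyclic `p`-group the subgroup of order `p` lies in every nontrivial subgroup. -/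
theorem le_of_cyclic_pgroup (hc : IsCyclic S) (hS : IsPGroup p S) (hX : Elem p 1 X S) (hH : H ≤ S)
    (h1 : H ≠ ⊥) : X ≤ H :=
  (cyclic_le_total hc hS hX.le hH).elim id fun h => (hX.eq_of_ne_bot h h1).ge

end prime

/-- If `N' ≤ C(S)` for `N ≤ N(S)`, then `N` normalizes `C_S(X)` for all `X ≤ N`. -/
theorem norm_inf_cent_of_der (hN : N ≤ 𝐍(S)) (hd : ⁅N, N⁆ ≤ 𝐂(S)) (hX : X ≤ N) : N ≤ 𝐍(S ⊓ 𝐂(X)) := by
  have h1 : S ⊓ 𝐂(X) = S ⊓ 𝐂(X ⊔ ⁅N, N⁆) := by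
    rw [cent_sup, ← inf_assoc]
    exact (inf_eq_left.mpr (inf_le_left.trans (cent_symm hd))).symm
  rw [h1]
  exact norm_inf hN (norm_cent (Nml.of_der_le le_sup_right (sup_le hX (der_le N))).norm)

omit [Finite G] in
theorem comm_sup_of_cent (hn : X ≤ 𝐍(K)) (hK : K ≤ 𝐂(S)) : ⁅S, K ⊔ X⁆ = ⁅S, X⁆ := by
  refine le_antisymm (comm_le_iff.mpr fun s hs y hy => ?_) (commutator_mono le_rfl le_sup_right)
  obtain ⟨x, hx, k, hk, rfl⟩ := (mem_sup_right_norm hn).mp (sup_comm K X ▸ hy)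
  have h1 : k * s⁻¹ = s⁻¹ * k := (mem_cent.mp (hK hk) _ (inv_mem hs)).symm
  have h2 : s * (x * k) * s⁻¹ * (x * k)⁻¹ = s * x * s⁻¹ * x⁻¹ := by
    rw [mul_inv_rev]
    calc s * (x * k) * s⁻¹ * (k⁻¹ * x⁻¹) = s * x * (k * s⁻¹) * k⁻¹ * x⁻¹ := by group
      _ = _ := by rw [h1]; group
  rw [h2]
  exact comm_mem_comm hs hx

/-- If `N' ≤ C(S)` for `N ≤ N(S)`, then `N` normalizes `[S, X]` for all `X ≤ N`. -/
theorem norm_comm_of_der (hN : N ≤ 𝐍(S)) (hd : ⁅N, N⁆ ≤ 𝐂(S)) (hX : X ≤ N) : N ≤ 𝐍(⁅S, X⁆) := by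
  rw [← comm_sup_of_cent (hX.trans (Nml.der_self N).norm) hd]
  exact norm_comm hN (Nml.of_der_le le_sup_left (sup_le (der_le N) hX)).norm

/-- A nilpotent group all of whose Sylow subgroups are abelian is abelian. -/
theorem nil_abelian_of_pcore (h : Group.IsNilpotent H)
    (hc : ∀ q : ℕ, q.Prime → q ∣ Nat.card H → IsMulCommutative 𝐎({q}, H)) : IsMulCommutative H := by
  refine abelian_iff.mpr (nil_le_of_pcore_le h fun q hq hd => cent_symm ?_)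
  have h1 := nil_pcore_dprod h {q}
  exact h1.sup.ge.trans (sup_le (abelian_cent (hc q hq hd)) (cent_symm h1.cent))

variable [Sz G]

theorem odd_prime [Fact p.Prime] (h : IsPGroup p P) (h1 : P ≠ ⊥)
    (hL : Loc P := by dd) : p ≠ 2 :=
  A10.mFT_ne_two (pgroup_dvd_card h h1)

theorem exists_elem_two [Fact p.Prime] (h : IsPGroup p P) (hnc : ¬ IsCyclic P)
    (hL : Loc P := by dd) : ∃ A, Elem p 2 A P := by
  have h1 : P ≠ ⊥ := by rintro rfl; exact hnc inferInstance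
  exact exists_elem_of_le_rk (not_le.mp fun h2 => hnc (cyclic_of_rk_le_one (odd_prime h h1) h h2))

theorem pgroup_cyclic [Fact p.Prime] (h : IsPGroup p P) (hr : rk p P ≤ 1)
    (hL : Loc P := by dd) : IsCyclic P := by
  by_contra hnc
  obtain ⟨A, hA⟩ := exists_elem_two h hnc
  have := hA.le_rk
  omega

theorem mmax_sol (hM : Mx M) (h : H ≤ M) : Group.IsSolvable H :=
  A10.mFT_sol (A10.ne_top_of_le hM.1 h)

theorem sigma'_rk_le [Fact p.Prime] (hM : Mx M) (hp : p ∉ sigma M) : rk p M ≤ 2 :=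
  not_lt.mp fun h => hp (alpha_sub_sigma hM (A10.mem_alpha_iff.mpr h))

theorem alpha'_rk_le [Fact p.Prime] (hp : p ∉ alpha M) : rk p M ≤ 2 :=
  not_lt.mp fun h => hp (A10.mem_alpha_iff.mpr h)

theorem mk_t2 [hp : Fact p.Prime] (hM : Mx M) (hs : p ∉ sigma M) (hA : Elem p 2 A M) : p ∈ tau2 M :=
  ⟨hp.out, hs, rk_le_iff.mp (sigma'_rk_le hM hs), lt_rk_iff.mp hA.le_rk⟩

theorem sigma'_rank_le (hM : Mx M) (hK : K ≤ M) (h : PiGrp (sigma M)ᶜ K) : rank K ≤ 2 := by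
  refine rank_le_iff_forall.mpr fun q hq => ?_
  have := Fact.mk hq
  by_cases hs : q ∈ sigma M
  · rw [rk_eq_zero_of_pi h (fun h' => h' hs)]; omega
  · exact (rk_mono hK q).trans (sigma'_rk_le hM hs)

theorem le_Ms (hM : Mx M) (hX : X ≤ M) (h : PiGrp (sigma M) X) : X ≤ sigmaCore M :=
  (Msigma_Hall hM).ge_of_normal (Ms_nml M).norm hX h

theorem norm_le_of_uniq_cent (h : UniqMax 𝐂(X) M) (h1 : X ≠ ⊥) (h2 : Loc X) : 𝐍(X) ≤ M := (norm_cent le_rfl).trans h.norm_le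

theorem sigma'_pi_of_inf_eq_bot (hM : Mx M) (hK : K ≤ M) (h : sigmaCore M ⊓ K = ⊥) :
    PiGrp (sigma M)ᶜ K := by
  have h1 := (Msigma_Hall hM).inf_of_normal (Ms_nml M).norm hK
  rw [h] at h1
  exact h1.eq_bot_iff.mp rfl

/-- `p ∈ β(M)` as soon as `p ∈ σ(M)` is ideal. -/
theorem beta_of_ideal [Fact p.Prime] (hs : p ∈ sigma M) (h : IsIdealPrime p G) : p ∈ beta M := by
  obtain ⟨P, hP⟩ := Syl.exists p M
  refine ⟨A10.mem_alpha_iff.mpr ?_, h⟩
  rw [← hP.rk_eq, (A10.sigma_Sylow_G hs hP).rk_eq]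
  exact not_le.mp fun h2 => h.2.1 (rk_top_le_iff.mp h2)

end Cfsg.Lib.BG.Z.A12
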