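import Cfsg.Agent.Lib.ZB.T12_7
import Cfsg.Agent.Lib.ZB.T10_7

set_option autoImplicit false
set_option linter.unusedVariables false

namespace Cfsg.Lib.BG.Z

open Subgroup A12
open scoped Cfsg.Lib.Transfer

variable {G : Type*} [Group G] [Finite G] [Sz G]

theorem A12.abelian_tau2_Ohm1 {p : ℕ} [Fact p.Prime] {M E A S : Subgroup G} (hM : Mx M)
    (hE : Hall (sigma M)ᶜ E M) (hp : p ∈ tau2 M) (hA : Elem p 2 A E) (hAS : A ≤ S)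
    (hab : IsMulCommutative S) : S ≤ E ∧ omegaOne p S = A := by
  obtain ⟨-, ⟨hCA, -⟩, -⟩ := tau2_compl_context hM hE hp hA
  have h1 : S ≤ E := (abelian_cent' hab le_rfl hAS).trans hCA
  exact ⟨h1, abelian_Ohm1_eq hab (hA.of_le hAS) ((rk_mono (h1.trans hE.le) p).trans (t2_rk hp).le)⟩

/-- `N(A)' ≤ F(N(A)) ≤ C(A)` in the situation of B&G 12.8. -/
theorem A12.abelian_tau2_der_norm {p : ℕ} [Fact p.Prime] {M E A S : Subgroup G} (hM : Mx M)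
    (hE : Hall (sigma M)ᶜ E M) (hp : p ∈ tau2 M) (hA : Elem p 2 A E) (hS : Syl p S ⊤)
    (hab : IsMulCommutative S) : ⁅𝐍(A), 𝐍(A)⁆ ≤ 𝐅(𝐍(A)) ∧ 𝐅(𝐍(A)) ≤ 𝐅(E) := by
  obtain ⟨⟨hAE, -⟩, ⟨hCA, -⟩, -⟩ := tau2_compl_context hM hE hp hA
  have hF : 𝐅(𝐍(A)) ≤ 𝐂(A) := by
    have h1 := nil_pcore_dprod (Fitting_nil 𝐍(A)) {p}
    have h2 : A ≤ 𝐎({p}, 𝐅(𝐍(A))) := by
      rw [pcore_Fitting]; exact pcore_max_p hA.pgroup (Nml.norm_self A)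
    have h3 : IsMulCommutative 𝐎({p}, 𝐅(𝐍(A))) :=
      by_contra fun h => syl_nonabelian (pcore_pgroup p _) h hS hab
    exact h1.sup.ge.trans (sup_le (abelian_cent' h3 le_rfl h2) (cent_mono (cent_symm h1.cent) le_rfl h2))
  refine ⟨rank2_der1_sub_Fitting (A10.mFT_sol (A10.mFT_norm_proper (hA.ne_bot two_ne_zero)
    (A10.mFT_pgroup_proper hA.pgroup))) (A10.mFT_odd _)
    (sigma'_rank_le hM (hF.trans (hCA.trans hE.le)) (hE.pi.of_le (hF.trans hCA))), ?_⟩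
  exact (le_inf le_rfl (hF.trans hCA)).trans (Fitting_inf_le hAE.norm)

/-- B&G Lemma 12.8(c). -/
theorem abelian_tau2_sub_Fitting {p : ℕ} [Fact p.Prime] {M E A S : Subgroup G} (hM : Mx M)
    (hE : Hall (sigma M)ᶜ E M) (hp : p ∈ tau2 M) (hA : Elem p 2 A E) (hS : Syl p S ⊤) (hAS : A ≤ S)
    (hab : IsMulCommutative S) :
    S ≤ ⁅𝐍(S), 𝐍(S)⁆ ∧ ⁅𝐍(S), 𝐍(S)⁆ ≤ 𝐅(E) ∧ 𝐅(E) ≤ 𝐂(S) ∧ 𝐂(S) ≤ E := by
  obtain ⟨-, ⟨hCA, -⟩, -⟩ := tau2_compl_context hM hE hp hA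
  obtain ⟨-, hΩ⟩ := abelian_tau2_Ohm1 hM hE hp hA hAS hab
  obtain ⟨h1, h2⟩ := abelian_tau2_der_norm hM hE hp hA hS hab
  have h3 : ⁅𝐍(S), 𝐍(S)⁆ ≤ 𝐅(E) := (der_mono (hΩ ▸ norm_Ohm1 le_rfl p)).trans (h1.trans h2)
  have h4 := mFT_Sylow_der1 hS
  refine ⟨h4, h3, ?_, (cent_anti hAS).trans hCA⟩
  have h5 := nil_pcore_dprod (Fitting_nil E) {p}
  rw [← (hS.of_le (h4.trans h3) le_top).eq_of_nil (Fitting_nil E)] at h5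
  exact h5.sup.ge.trans (sup_le (abelian_cent hab) (cent_symm h5.cent))

/-- In the situation of B&G 12.8, for every `q ∈ τ₂(M)` the group `O_q(F(E))` is an abelian Sylow `q`-subgroup
of `G`. -/
theorem A12.abelian_tau2_pcore {p q : ℕ} [Fact p.Prime] [Fact q.Prime] {M E S : Subgroup G} (hM : Mx M)
    (hE : Hall (sigma M)ᶜ E M) (hp : p ∈ tau2 M) (hS : Syl p S ⊤) (hab : IsMulCommutative S)
    (hq : q ∈ tau2 M) : Syl q 𝐎({q}, 𝐅(E)) ⊤ ∧ IsMulCommutative 𝐎({q}, 𝐅(E)) := by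
  obtain ⟨B, hB⟩ := ex_tau2Elem hM hE hq
  obtain ⟨Q, hQ, hBQ⟩ := Syl.exists_ge hB.pgroup (le_top (a := B))
  have hQab : IsMulCommutative Q := by_contra fun h => by
    have h1 := nonabelian_tau2_a hM hE hq hB hQ.pgroup h
    obtain rfl : p = q := by rwa [h1] at hp
    exact syl_nonabelian hQ.pgroup h hS hab
  obtain ⟨h1, h2, -⟩ := abelian_tau2_sub_Fitting hM hE hq hB hQ hBQ hQab
  rw [← (hQ.of_le (h1.trans h2) le_top).eq_of_nil (Fitting_nil E)]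
  exact ⟨hQ, hQab⟩

/-- B&G Lemma 12.8(a), (b), (d), (e). -/
theorem abelian_tau2 {p : ℕ} [Fact p.Prime] {M E E₁ E₂ E₃ A S : Subgroup G} (hM : Mx M)
    (h : SigmaCompl M E E₁ E₂ E₃) (hp : p ∈ tau2 M) (hA : Elem p 2 A E) (hS : Syl p S ⊤) (hAS : A ≤ S)
    (hab : IsMulCommutative S) :
    (Nml E₂ E ∧ IsMulCommutative E₂) ∧ Hall (tau2 M) E₂ ⊤ ∧
    (𝐍(A) = 𝐍(S) ∧ 𝐍(S) = 𝐍(E₂) ∧ 𝐍(E₂) = 𝐍(E₃ ⊔ E₂) ∧ 𝐍(E₃ ⊔ E₂) = 𝐍(𝐅(E))) ∧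
    (∀ X : Subgroup G, X ≤ E₁ → (Nat.card X).Prime → sigmaCore M ⊓ 𝐂(X) = ⊥ → X ≤ 𝐂(E)) ∧ S ≤ E₂ := by
  have hE := h.hallE
  have hnil := Fitting_nil E
  obtain ⟨⟨hAE, -⟩, ⟨hCA, -, hNA⟩, -⟩ := tau2_compl_context hM hE hp hA
  obtain ⟨-, hΩ⟩ := abelian_tau2_Ohm1 hM hE hp hA hAS hab
  obtain ⟨hSN, hNF, hFS, hCS⟩ := abelian_tau2_sub_Fitting hM hE hp hA hS hAS hab
  obtain ⟨⟨h₃d, h₃n⟩, -, ⟨hc₁, hc₃⟩, ⟨-, -, hsd₃₂, hsd⟩, -⟩ := sigma_compl_context hM h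
  have hK : Hall (tau2 M) 𝐎(tau2 M, 𝐅(E)) ⊤ := by
    refine ⟨le_top, pcore_pi _ _, fun q hq hq2 hd => ?_⟩
    have := Fact.mk hq
    exact (abelian_tau2_pcore hM hE hp hS hab hq2).1.not_dvd'
      (hd.trans (relIndex_dvd_left (pcore_mono (Set.singleton_subset_iff.mpr hq2) _) ⊤))
  have hKE : Nml 𝐎(tau2 M, 𝐅(E)) E := (Fitting_nml E).pcore _
  have h₂ : 𝐎(tau2 M, 𝐅(E)) = E₂ := (hK.of_le hKE.le le_top).eq_of_le' h.hall₂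
    (h.hall₂.ge_of_nml hKE (pcore_pi _ _))
  rw [h₂] at hK hKE
  have h₂F : E₂ ≤ 𝐅(E) := h₂ ▸ pcore_le _ _
  have h₂ab : IsMulCommutative E₂ := by
    refine nil_abelian_of_pcore (nil_of_le hnil h₂F) fun q hq hd => ?_
    have := Fact.mk hq
    exact abelian_of_le (abelian_tau2_pcore hM hE hp hS hab (hK.pi q hq hd)).2
      (nil_le_pcore hnil ((pcore_le _ _).trans h₂F) (pcore_pi _ _))
  have hS₂ : S ≤ E₂ := h₂ ▸ nil_le_pcore hnil (hSN.trans hNF) (PiGrp.of_pgroup hS.pgroup hp)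
  have h₃F : E₃ ≤ 𝐅(E) := h₃d.trans (Fitting_max (der1_sigma_compl_nil hM hE) (Nml.der_self E))
  have hKF : E₃ ⊔ E₂ ≤ 𝐅(E) := sup_le h₃F h₂F
  have hKπ : PiGrp (tau1 M)ᶜ (E₃ ⊔ E₂) :=
    (h.hall₃.pi.mono fun q hq hq1 => t1_ne_t3 hq1 hq).sup (h.hall₂.pi.mono fun q hq hq1 => t1_ne_t2 hq1 hq)
      hsd₃₂.norm
  have hKH : Hall (tau1 M)ᶜ (E₃ ⊔ E₂) E := (Hall.of_sd hsd hKπ (by rw [compl_compl]; exact h.hall₁.pi)).1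
  have hKO : E₃ ⊔ E₂ = 𝐎((tau1 M)ᶜ, 𝐅(E)) := (hKH.of_le hKF (Fitting_le E)).eq_of_nil hnil
  have hKab : IsMulCommutative ↥(E₃ ⊔ E₂) := abelian_sup (abelian_of_cyclic hc₃) h₂ab
    (nil_cent_of_coprime hnil h₃F h₂F (h.hall₃.pi.coprime' h.hall₂.pi fun q hq => t3_ne_t2 hq))
  have n1 : 𝐍(𝐅(E)) ≤ 𝐍(E₃ ⊔ E₂) := hKO ▸ norm_pcore le_rfl _
  have n2 : 𝐍(E₃ ⊔ E₂) ≤ 𝐍(E₂) := (hK.of_le le_sup_right le_top).norm_le (abelian_norm hKab le_sup_right)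
  have n3 : 𝐍(E₂) ≤ 𝐍(S) := (hS.of_le hS₂ le_top).norm_le (abelian_norm h₂ab hS₂)
  have n4 : 𝐍(S) ≤ 𝐍(A) := hΩ ▸ norm_Ohm1 le_rfl p
  have n5 : 𝐍(A) ≤ 𝐍(𝐅(E)) := by
    have h1 := (⟨hCA, norm_cent hAE.norm⟩ : Nml 𝐂(A) E).Fitting_eq
    rw [inf_eq_left.mpr (hFS.trans (cent_anti hAS))] at h1
    exact h1 ▸ norm_Fitting (norm_cent le_rfl)
  refine ⟨⟨hKE, h₂ab⟩, hK, ⟨le_antisymm (n5.trans (n1.trans (n2.trans n3))) n4,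
    le_antisymm (n4.trans (n5.trans (n1.trans n2))) n3, le_antisymm (n3.trans (n4.trans (n5.trans n1))) n2,
    le_antisymm (n2.trans (n3.trans (n4.trans n5))) n1⟩, fun X hX hXp hC => ?_, hS₂⟩
  have := Fact.mk hXp
  have hr : Nat.card X ∈ tau1 M := h.hall₁.pi _ hXp (card_dvd hX)
  have hXE : X ≤ E := hX.trans h.hall₁.le
  obtain ⟨-, -, h1⟩ := commG_sigma'_1Elem_cyclic hM (hsd.left_le.trans hE.le) (hE.pi.of_le hsd.left_le)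
    (t1_ns hr) (Elem.of_card (le_inf (hXE.trans hE.le) (hXE.trans hsd.nml.norm)) rfl) hC
    (hKπ.p'_of_compl hr) hKab
  have hFK : 𝐅(E) ≤ 𝐂(E₃ ⊔ E₂) := by
    have h2 := nil_pcore_dprod hnil (tau1 M)ᶜ
    rw [← hKO] at h2
    exact h2.sup.ge.trans (sup_le (abelian_cent hKab) (cent_symm h2.cent))
  have h2 : ⁅E₃ ⊔ E₂, X⁆ = ⊥ := by_contra fun h2 => hNA (by
    rw [← A10.mmax_norm_eq hM h2 h1.le h1.norm]
    obtain ⟨h3, h4⟩ := abelian_tau2_der_norm hM hE hp hA hS hab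
    exact norm_comm_of_der (n5.trans n1) (h3.trans (h4.trans hFK)) (hXE.trans hAE.norm))
  rw [← hsd.sup]
  exact le_cent_sup (comm_eq_bot_iff'.mp h2) (abelian_cent' (abelian_of_cyclic hc₁) hX le_rfl)

/-- B&G Lemma 12.8(f). -/
theorem abelian_tau2_norm_Sylow {p : ℕ} [Fact p.Prime] {M E A S X : Subgroup G} (hM : Mx M)
    (hE : Hall (sigma M)ᶜ E M) (hp : p ∈ tau2 M) (hA : Elem p 2 A E) (hS : Syl p S ⊤) (hAS : A ≤ S)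
    (hab : IsMulCommutative S) (hX : X ≤ 𝐍(S)) : Nml (S ⊓ 𝐂(X)) 𝐍(S) ∧ Nml ⁅S, X⁆ 𝐍(S) := by
  obtain ⟨-, h1, h2, -⟩ := abelian_tau2_sub_Fitting hM hE hp hA hS hAS hab
  exact ⟨⟨inf_le_left.trans (le_norm S), norm_inf_cent_of_der le_rfl (h1.trans h2) hX⟩,
    (comm_le_left hX).trans (le_norm S), norm_comm_of_der le_rfl (h1.trans h2) hX⟩

end Cfsg.Lib.BG.Z
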