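import Cfsg.Agent.Lib.ZB.T12_8
import Cfsg.Agent.Lib.BG.T01_Coprime

set_option autoImplicit false
set_option linter.unusedVariables false

namespace Cfsg.Lib.BG.Z

open Subgroup A12
open scoped Cfsg.Lib.Transfer

variable {G : Type*} [Group G] [Finite G] [Sz G]

/-- B&G Corollary 12.9. -/
theorem tau1_act_tau2 {p q : ℕ} [Fact p.Prime] [Fact q.Prime] {M E A Q : Subgroup G} (hM : Mx M)
    (hE : Hall (sigma M)ᶜ E M) (hp : p ∈ tau2 M) (hA : Elem p 2 A E) (hq : q ∈ tau1 M) (hQ : Elem q 1 Q E)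
    (hC : sigmaCore M ⊓ 𝐂(Q) = ⊥) (hAQ : ⁅A, Q⁆ ≠ ⊥) :
    (Elem p 1 ⁅A, Q⁆ A ∧ A ⊓ 𝐂(sigmaCore M) = ⁅A, Q⁆ ∧ Nml ⁅A, Q⁆ M) ∧ ¬ Cj (A ⊓ 𝐂(Q)) ⁅A, Q⁆ ∧
    (Elem p 1 (A ⊓ 𝐂(Q)) A ∧ ¬ 𝐂(A ⊓ 𝐂(Q)) ≤ M) := by
  obtain ⟨⟨hAE, -⟩, -⟩ := tau2_compl_context hM hE hp hA
  have hAM := hA.mono hE.le
  have hpq : p ≠ q := by rintro rfl; exact t1_ne_t2 hq hp
  have hQA : Q ≤ 𝐍(A) := hQ.le.trans hAE.norm
  obtain ⟨h1, h2, h3⟩ := commG_sigma'_1Elem_cyclic hM hAM.le (hE.pi.of_le hA.le) (t1_ns hq)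
    (hQ.of_le (le_inf (hQ.le.trans hE.le) hQA)) hC (p'_of_pgroup hA.pgroup hpq) hA.abelian
  have hA₀ : Elem p 1 ⁅A, Q⁆ A := hA.one_of_lt hAQ
    (lt_of_le_of_ne (comm_le_left hQA) fun h => hA.not_cyclic le_rfl (h ▸ h2))
  have hcop := coprime_pgroups hQ.pgroup hA.pgroup hpq.symm
  have hdp := coprime_abelian_cent_dprod hQA hcop hA.abelian
  have hA₁ : Elem p 1 (A ⊓ 𝐂(Q)) A := by
    refine Elem.of_card inf_le_left (Nat.eq_of_mul_eq_mul_left (Fact.out : p.Prime).pos ?_)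
    rw [← sq, ← hA.card, ← hdp.card, hA₀.card_one]
  have h4 : A ⊓ 𝐂(sigmaCore M) = ⁅A, Q⁆ := by
    have h5 : ⁅A, Q⁆ ≤ A ⊓ 𝐂(sigmaCore M) := le_inf hA₀.le h1
    refine (hA₀.eq_of_le (hA.one_of_lt (ne_bot_mono hAQ h5)
      (lt_of_le_of_ne inf_le_left fun h => Msigma_ne_bot hM ?_)) h5).symm
    rw [← (tau2_context hM hp hAM).2.2.1, left_eq_inf]
    exact cent_symm (h.ge.trans inf_le_right)
  have hne : A ⊓ 𝐂(Q) ≠ ⁅A, Q⁆ := fun h => hAQ (by rw [← hdp.inf, h, inf_idem])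
  refine ⟨⟨hA₀, h4, h3⟩, ?_, hA₁, ?_⟩
  · rintro ⟨g, hg⟩
    have h5 : g ⋆ Q ≤ 𝐂(⁅A, Q⁆) := by
      rw [hg, ← Transfer.conj_centralizer]
      exact Transfer.conj_mono g (cent_symm inf_le_right)
    have h6 : g ⋆ Q ≤ M := h5.trans ((cent_le_norm _).trans (A10.mmax_norm_eq hM hAQ h3.le h3.norm).le)
    obtain ⟨R, hR, hQR⟩ := Syl.exists_ge hQ.pgroup (hQ.le.trans hE.le)
    obtain ⟨m, hm, hmR⟩ := hR.exists_conj_le (hQ.conj g).pgroup h6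
    have h7 : m ⋆ (g ⋆ Q) = Q := cyclic_eq_of_card (pgroup_cyclic hR.pgroup (hR.rk_eq ▸ t1_rk hq)) hmR hQR
      (by rw [Transfer.card_conj, Transfer.card_conj])
    have h8 : Q ≤ 𝐂(⁅A, Q⁆) := h7.ge.trans (conj_le_of_norm h5 (norm_cent h3.norm hm))
    exact hAQ (by rw [← coprime_commGid hQA hcop]; exact comm_eq_bot_iff'.mpr h8)
  · obtain ⟨S, hS, hAS⟩ := Syl.exists_ge hA.pgroup (le_top (a := A))
    by_cases hab : IsMulCommutative S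
    · obtain ⟨E₁, E₂, E₃, h, hQ₁⟩ := ex_tau1_compl hM hE hQ.le (hQ.pi hq)
      exact absurd (comm_eq_bot_iff'.mpr (((abelian_tau2 hM h hp hA hS hAS hab).2.2.2.1 Q hQ₁ hQ.prime hC).trans
        (cent_anti hA.le))) hAQ
    · exact ((nonabelian_tau2 hM hE hp hA hS.pgroup hab).2.2.1 _ (hA₁.mono hA.le) (h4 ▸ hne)).2

end Cfsg.Lib.BG.Z
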