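import Cfsg.Agent.Lib.ZB.Max
import Cfsg.Agent.Lib.BG.T01_Cyclic
import Cfsg.Agent.Lib.BG.T06_3
import Cfsg.Agent.Lib.ZB.T10_2
import Cfsg.Agent.Lib.ZB.T10_8
import Cfsg.Agent.Lib.ZB.T12_1

/-!
# Auxiliary lemmas for section 13 of Bender-Glauberman
-/

set_option autoImplicit false
set_option linter.unusedVariables false

namespace Cfsg.Lib.BG.Z.A13

open Subgroup
open scoped Cfsg.Lib.Transfer

variable {G : Type*} [Group G] {π : Set ℕ} {p q : ℕ}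
variable {A B D E H K L M N P Q U X Y : Subgroup G}

theorem der_sup_le (h : H ≤ 𝐍(K)) : ⁅K ⊔ H, K ⊔ H⁆ ≤ K ⊔ ⁅H, H⁆ := by
  have hn : K ⊔ H ≤ 𝐍(K ⊔ ⁅H, H⁆) := sup_le (le_norm_of_le le_sup_left) (norm_sup h (norm_der (le_norm H)))
  have h1 : ⁅K, K ⊔ H⁆ ≤ K ⊔ ⁅H, H⁆ := (comm_le_left (sup_le_norm_left h)).trans le_sup_left
  have h2 : ⁅H, K ⊔ H⁆ ≤ K ⊔ ⁅H, H⁆ := by
    rw [commutator_comm]
    exact Core.commutator_sup_le (le_sup_left.trans hn) (le_sup_right.trans hn)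
      ((comm_le_left h).trans le_sup_left) le_sup_right
  exact Core.commutator_sup_le (le_sup_left.trans hn) (le_sup_right.trans hn) h1 h2

variable [Finite G]

/-- A prime not dividing the order of a normal supplement does not divide the index. -/
theorem not_dvd_relIndex_sup (hp : p.Prime) (h : H ≤ 𝐍(K)) (hK : ¬ p ∣ Nat.card K) : ¬ p ∣ H.relIndex (K ⊔ H) := by
  haveI := Fact.mk hp
  obtain ⟨P, hP⟩ := Syl.exists p H
  have hP' : Syl p P (K ⊔ H) := by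
    obtain ⟨S, hS, hPS⟩ := Syl.exists_ge hP.pgroup (hP.le.trans (le_sup_right : H ≤ K ⊔ H))
    have hKn : K ⊔ H ≤ 𝐍(K) := sup_le_norm_left h
    have e1 : K.relIndex (K ⊔ H) = K.relIndex H := by
      rw [← Subgroup.relIndex_subgroupOf (H := K) (hKn), ← Subgroup.relIndex_subgroupOf (H := K) h,
        subgroupOf_sup (le_norm K) h]
      haveI : (K.subgroupOf 𝐍(K)).Normal := (Nml.norm_self K).normal
      exact Subgroup.relIndex_sup_left _ _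
    have hSK : S ⊓ K = ⊥ := by
      refine disjoint_of_coprime (PiGrp.coprime_pgroup (PiGrp.p'_iff.2 hK) hS.pgroup).symm
    have e2 : K.relIndex S = Nat.card S := by
      rw [← Subgroup.inf_relIndex_right, inf_comm, hSK, Subgroup.relIndex_bot_left]
    have d1 : Nat.card S ∣ Nat.card H := by
      rw [← e2]
      exact ((relIndex_dvd_of_norm hS.le hKn).trans (dvd_of_eq e1)).trans (relIndex_dvd_card K H)
    obtain ⟨k, hk⟩ := IsPGroup.iff_card.1 hS.pgroup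
    have d2 : Nat.card S ∣ Nat.card P := by
      rw [← card_mul_relIndex hP.le] at d1
      refine Nat.Coprime.dvd_of_dvd_mul_right ?_ d1
      rw [hk]
      exact Nat.Coprime.pow_left _ ((Nat.Prime.coprime_iff_not_dvd hp).2 hP.not_dvd')
    have : P = S := eq_of_le_of_card_le hPS (Nat.le_of_dvd Nat.card_pos d2)
    rw [this]; exact hS
  exact fun hd => hP'.not_dvd' (hd.trans (relIndex_dvd_left hP.le _))

theorem rk_sup_eq [hp : Fact p.Prime] (h : H ≤ 𝐍(K)) (hK : ¬ p ∣ Nat.card K) : rk p (K ⊔ H) = rk p H := by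
  obtain ⟨P, hP⟩ := Syl.exists p H
  have hP' : Syl p P (K ⊔ H) :=
    hP.trans_idx le_sup_right (PiNat.p'_iff.2 (not_dvd_relIndex_sup hp.out h hK))
  rw [← hP.rk_eq, hP'.rk_eq]

/-- If a coprime operator group does not centralize `K`, it does not centralize some invariant Sylow subgroup. -/
theorem exists_Sylow_not_cent (hA : A ≤ 𝐍(K)) (hc : (Nat.card A).Coprime (Nat.card K))
    (hs : Group.IsSolvable A ∨ Group.IsSolvable K) (h : ¬ A ≤ 𝐂(K)) :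
    ∃ q : ℕ, q.Prime ∧ q ∣ Nat.card K ∧ ∃ S : Subgroup G, Syl q S K ∧ A ≤ 𝐍(S) ∧ ¬ A ≤ 𝐂(S) := by
  by_contra hne
  push Not at hne
  refine h (cent_symm (Syl.le_of_forall fun q hq hd => ?_))
  haveI := Fact.mk hq
  obtain ⟨S, hS, hAS⟩ := Syl.exists_inv q hA hc hs
  exact ⟨S, hS, cent_symm (hne q hq hd S hS hAS)⟩

/-- `C_M(H) = C_K(H) C_U(H)` for `M = K U`, `H ≤ U` coprime to the normal subgroup `K`; numerical form. -/
theorem dvd_card_cent_pprod (hq : q.Prime) (hK : Nml K M) (hKU : K ⊔ U = M) (hH : H ≤ U)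
    (hcop : (Nat.card K).Coprime (Nat.card H)) (hs : Group.IsSolvable M) (hqK : ¬ q ∣ Nat.card K)
    (hd : q ∣ Nat.card ↥(M ⊓ 𝐂(H))) : q ∣ Nat.card ↥(U ⊓ 𝐂(H)) := by
  haveI := Fact.mk hq
  have hUM : U ≤ M := hKU ▸ le_sup_right
  have e := pprod_norm_coprime_cent hK hKU hH hcop hs
  have hn : U ⊓ 𝐍(H) ≤ 𝐍(K ⊓ 𝐂(H)) := norm_inf (inf_le_left.trans (hUM.trans hK.norm)) (norm_cent inf_le_right)
  have e2 : M ⊓ 𝐂(H) ≤ (K ⊓ 𝐂(H)) ⊔ (U ⊓ 𝐂(H)) := by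
    have := modular_left (A := K ⊓ 𝐂(H)) (B := 𝐂(H)) inf_le_right hn
    rw [e] at this
    calc M ⊓ 𝐂(H) ≤ M ⊓ 𝐍(H) ⊓ 𝐂(H) := le_inf (inf_le_inf_left _ (cent_le_norm H)) inf_le_right
      _ = _ := this
      _ ≤ _ := sup_le_sup_left (inf_le_inf_right _ inf_le_left) _
  by_contra hnd
  have h1 : PiGrp {q}ᶜ (K ⊓ 𝐂(H)) := (PiGrp.p'_iff.2 hqK).of_le inf_le_left
  have h2 := (h1.sup (PiGrp.p'_iff.2 hnd) ((inf_le_inf_left _ (cent_le_norm H)).trans hn)).of_le e2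
  exact PiGrp.p'_iff.1 h2 hd

variable [Sz G]

/-- `p`-subgroups of `M` lie in `M'` for `p ∈ σ(M) ∪ τ₃(M)`. -/
theorem pgroup_le_der [hp : Fact p.Prime] (hM : Mx M) (h : p ∈ sigma M ∨ p ∈ tau3 M) (hP : IsPGroup p P)
    (hPM : P ≤ M) : P ≤ ⁅M, M⁆ := by
  rcases h with h | h
  · exact A10.sigma_le_der hM (PiGrp.of_pgroup hP h) hPM
  · obtain ⟨S, hS, hPS⟩ := Syl.exists_ge hP hPM
    rcases cyclic_Sylow_tiVsub_der1 hS (mFT_cyclic_of_rk hS.pgroup hS.le (tau3_rk h).le) with h0 | h0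
    · exact absurd h0 (Syl.ne_bot' (hS.inf_nml (Nml.der_self M)) (tau3_dvd_der h))
    · exact hPS.trans h0

theorem dvd_der [hp : Fact p.Prime] (hM : Mx M) (h : p ∈ sigma M ∨ p ∈ tau3 M) : p ∣ Nat.card ↥⁅M, M⁆ := by
  rcases h with h | h
  · exact ((Msigma_Hall hM).dvd_card hp.out (sigma_dvd h) h).trans (card_dvd (Msigma_der1 hM))
  · exact tau3_dvd_der h

/-- Frattini argument with `M' / M_β` nilpotent. -/
theorem Mbeta_Frattini [hq : Fact q.Prime] (hM : Mx M) (h : q ∉ beta M) (hY : Syl q Y ⁅M, M⁆) :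
    betaCore M ⊔ (M ⊓ 𝐍(Y)) = M := by
  have hs := sub_mmax_sol hM (der_le M)
  obtain ⟨W, hW, hYW⟩ := Hall.exists_ge (π := (beta M)ᶜ) hs hY.le (PiGrp.of_pgroup hY.pgroup h)
  have hnil := beta'_der1_nil hM hW.pi hW.le
  have hYW' : Syl q Y W := hY.of_le hYW hW.le
  have hNW : 𝐍(W) ≤ 𝐍(Y) := hYW'.norm_le (hYW'.nml_of_nil hnil).norm
  have hb : Hall (beta M) (betaCore M) ⁅M, M⁆ := (Mbeta_Hall hM).of_le (Mbeta_der1 hM) (der_le M)
  have hsd : SD (betaCore M) W ⁅M, M⁆ := hb.sd (norm_Mbeta (der_le M)) hW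
  refine le_antisymm (sup_le (Mbeta_le M) inf_le_left) ?_
  conv_lhs => rw [← hW.frattini hs (Nml.der_self M), ← hsd.sup]
  refine sup_le (sup_le le_sup_left (le_sup_of_le_right ?_)) (le_sup_of_le_right (inf_le_inf_left _ hNW))
  exact le_inf (hW.le.trans (der_le M)) ((le_norm W).trans hNW)

/-- A `p`-subgroup of `M'` centralizes every coprime `β(M)'`-subgroup of `M` that it normalizes. -/
theorem cent_beta' [hp : Fact p.Prime] (hM : Mx M) (hP : IsPGroup p P) (hPM : P ≤ ⁅M, M⁆) (hDM : D ≤ M)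
    (hD : PiGrp (beta M)ᶜ D) (hn : P ≤ 𝐍(D)) (hc : (Nat.card P).Coprime (Nat.card D)) : P ≤ 𝐂(D) := by
  rw [← comm_eq_bot_iff']
  by_cases hb : p ∈ beta M
  · have hPb : P ≤ betaCore M :=
      (Mbeta_Hall hM).ge_of_normal (Mbeta_nml M).norm (hPM.trans (der_le M)) (PiGrp.of_pgroup hP hb)
    refine eq_bot_mono ((Mbeta_pi M).inf_eq_bot hD) (le_inf ?_ (comm_le_left hn))
    exact (commutator_mono le_rfl hPb).trans ((Mbeta_nml M).comm_le' hDM)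
  · have h1 : PiGrp (beta M)ᶜ (⁅D, P⁆ ⊔ P) :=
      (hD.of_le (comm_le_left hn)).sup (PiGrp.of_pgroup hP hb) (right_norm_comm D P)
    have hnil := beta'_der1_nil hM h1 (sup_le (comm_le_der hDM (hPM.trans (der_le M))) hPM)
    have h2 : P ≤ 𝐂(⁅D, P⁆) :=
      nil_cent_of_coprime hnil le_sup_right le_sup_left (coprime_mono hc le_rfl (comm_le_left hn))
    rw [← coprime_commGid hn hc]
    exact comm_eq_bot_iff'.2 h2

theorem le_Msigma (hM : Mx M) (hX : X ≤ M) (h : PiGrp (sigma M) X) : X ≤ sigmaCore M :=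
  (Msigma_Hall hM).ge_of_normal (Msigma_nml M).norm hX h

theorem le_Malpha (hM : Mx M) (hX : X ≤ M) (h : PiGrp (alpha M) X) : X ≤ alphaCore M :=
  (Malpha_Hall hM).ge_of_normal (Malpha_nml M).norm hX h

theorem le_Mbeta (hM : Mx M) (hX : X ≤ M) (h : PiGrp (beta M) X) : X ≤ betaCore M :=
  (Mbeta_Hall hM).ge_of_normal (Mbeta_nml M).norm hX h

theorem beta_of_sigma [Fact p.Prime] (h : p ∈ sigma M) (hi : IsIdealPrime p G) : p ∈ beta M :=
  mem_beta_iff.2 ⟨mem_alpha_iff.2 (by rw [rk_sigma_eq h]; exact (ideal_iff.1 hi).1), hi⟩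

/-- A complete decomposition containing given Hall `τ₃`-subgroup. -/
theorem ex_compl_of_tau3 {E₃ : Subgroup G} (hM : Mx M) (hE : Hall (sigma M)ᶜ E M) (h₃ : Hall (tau3 M) E₃ E) :
    ∃ E₁ E₂ : Subgroup G, SigmaCompl M E E₁ E₂ E₃ := by
  obtain ⟨E₁, h₁⟩ := Hall.exists (tau1 M) (sub_mmax_sol hM hE.le)
  exact ⟨E₁, ex_tau13_compl hM hE h₁ h₃⟩

theorem ex_compl_of_tau1 {E₁ : Subgroup G} (hM : Mx M) (hE : Hall (sigma M)ᶜ E M) (h₁ : Hall (tau1 M) E₁ E) :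
    ∃ E₂ E₃ : Subgroup G, SigmaCompl M E E₁ E₂ E₃ := by
  obtain ⟨E₃, h₃⟩ := Hall.exists (tau3 M) (sub_mmax_sol hM hE.le)
  obtain ⟨E₂, h⟩ := ex_tau13_compl hM hE h₁ h₃
  exact ⟨E₂, E₃, h⟩

/-- A `τ₁(M)`-subgroup of `M` lies in the `E₁` of some decomposition. -/
theorem ex_compl_ge_tau1 (hM : Mx M) (hX : X ≤ M) (h : PiGrp (tau1 M) X) :
    ∃ E E₁ E₂ E₃ : Subgroup G, SigmaCompl M E E₁ E₂ E₃ ∧ X ≤ E₁ := by
  obtain ⟨E, hE, hXE⟩ := ex_sigma_compl hM hX (h.mono fun _ h => tau1_sigma' h)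
  exact ⟨E, ex_tau1_compl hM hE hXE h⟩

/-- If `E₂ ≠ 1` there is a prime in `τ₂(M)` and an elementary abelian subgroup of rank two in `E`. -/
theorem ex_tau2_of_ne_bot {E₂ : Subgroup G} (hM : Mx M) (hE : Hall (sigma M)ᶜ E M) (h₂ : PiGrp (tau2 M) E₂)
    (h : E₂ ≠ ⊥) : ∃ p : ℕ, ∃ _ : Fact p.Prime, p ∈ tau2 M ∧ ∃ A : Subgroup G, Elem p 2 A E := by
  obtain ⟨X, hX, hp⟩ := exists_prime_le h
  haveI := Fact.mk hp
  have := h₂.mem hp (card_dvd hX)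
  exact ⟨_, inferInstance, this, ex_tau2Elem hM hE this⟩

end Cfsg.Lib.BG.Z.A13
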