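import Cfsg.Agent.Lib.ZB.T13_0Aux
import Cfsg.Agent.Lib.BG.T03_1
import Cfsg.Agent.Lib.ZB.T10_12
import Cfsg.Agent.Lib.ZB.T12_2
import Cfsg.Agent.Lib.ZB.T12_16

set_option autoImplicit false
set_option linter.unusedVariables false

namespace Cfsg.Lib.BG.Z

open Subgroup
open scoped Cfsg.Lib.Transfer

variable {G : Type*} [Group G] [Finite G] [Sz G]

/-- B&G Lemma 13.1. -/
theorem Msigma_setI_mmax_central {p : ℕ} [Fact p.Prime] {M E H : Subgroup G} (hM : Mx M)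
    (hE : Hall (sigma M)ᶜ E M) (hH : Mx H) (hpE : p ∣ Nat.card E) (hpH : p ∣ Nat.card H)
    (hp1 : p ∉ tau1 H) (hnc : ¬ Cj M H) (hne : ⁅sigmaCore M ⊓ H, M ⊓ H⁆ ≠ ⊥) :
    (∀ P : Subgroup G, P ≤ M ⊓ H → IsPGroup p P → P ≤ 𝐂(sigmaCore M ⊓ H)) ∧ p ∉ tau2 H ∧
    (p ∈ tau1 M → IsIdealPrime p G) := by
  have hp : p.Prime := Fact.out
  have hdis : ∀ r ∈ alpha H, r ∉ sigma M := (sigma_disjoint hH hM fun h => hnc h.symm).2.1
  have hnMH : M ⊓ H ≤ 𝐍(sigmaCore M ⊓ H) := norm_inf (norm_Msigma inf_le_left) (le_norm_of_le inf_le_right)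
  obtain ⟨X, hX, hq⟩ := exists_prime_le hne
  set q := Nat.card X with hqdef
  haveI := Fact.mk hq
  have hqs : q ∈ sigma M :=
    (Msigma_pi M).mem hq (card_dvd (hX.trans ((comm_le_left hnMH).trans inf_le_left)))
  have hqH : q ∣ Nat.card ↥⁅H, H⁆ := card_dvd (hX.trans (comm_le_der inf_le_right inf_le_right))
  obtain ⟨Y, hY⟩ := Syl.exists q ⁅H, H⁆
  have hqb : q ∉ beta H := fun h => hdis q (beta_sub_alpha H h) hqs
  have hF := A13.Mbeta_Frattini hH hqb hY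
  have hJ := fun hb => sigma_Jsub_rank hM (PiGrp.of_pgroup hY.pgroup hqs) (hY.ne_bot' hqH) hE hpE hb hH
    (hY.le.trans (der_le H)) hnc
  have hnb : H ⊓ 𝐍(Y) ≤ 𝐍(betaCore H) := norm_Mbeta inf_le_left
  have h2 : p ∉ tau2 H := fun h => by
    have hb := (tau2_not_beta hH h).1
    have hpb : ¬ p ∣ Nat.card (betaCore H) := fun hd => hb (beta_ideal ((Mbeta_pi H).mem hp hd))
    have := A13.rk_sup_eq hnb hpb
    rw [hF, tau2_rk h] at this
    have := (hJ hb).1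
    omega
  have h3 : p ∈ sigma H ∨ p ∈ tau3 H := by
    have := (partition_pi_mmax hH).1 hpH
    tauto
  refine ⟨fun P hP hPp => ?_, h2, fun h1 => ?_⟩
  · refine A13.cent_beta' hH hPp (A13.pgroup_le_der hH h3 hPp (hP.trans inf_le_right)) inf_le_right ?_
      (hP.trans hnMH) ?_
    · exact ((Msigma_pi M).of_le inf_le_left).mono fun r hr hb => hdis r (beta_sub_alpha H hb) hr
    · exact (((Msigma_pi M).of_le inf_le_left).coprime (PiGrp.of_pgroup hPp (hE.pi.mem hp hpE))).symm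
  · by_contra hb
    have hpb : PiGrp {p}ᶜ (betaCore H) := PiGrp.p'_iff.2 fun hd => hb (beta_ideal ((Mbeta_pi H).mem hp hd))
    have h4 := hpb.sup (PiGrp.p'_iff.2 ((hJ hb).2 h1)) ((der_le _).trans hnb)
    have h5 := A13.der_sup_le hnb
    rw [hF] at h5
    exact PiGrp.p'_iff.1 (h4.of_le h5) (A13.dvd_der hH h3)

/-- B&G Corollary 13.2. -/
theorem cent_norm_tau13_mmax {p : ℕ} [Fact p.Prime] {M E P H : Subgroup G} (hM : Mx M)
    (hE : Hall (sigma M)ᶜ E M) (hp : p ∈ tau1 M ∨ p ∈ tau3 M) (hPM : P ≤ M) (hP : IsPGroup p P)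
    (hH : Mx H) (hN : 𝐍(P) ≤ H)
    (hD : p ∈ DD G := by dd) :
    (∀ P₁ : Subgroup G, P₁ ≤ M ⊓ H → IsPGroup p P₁ → P₁ ≤ 𝐂(sigmaCore M ⊓ H)) ∧
    (∀ X : Subgroup G, X ≤ E ⊓ H → PiGrp (tau1 H)ᶜ X → X ≤ 𝐂(sigmaCore M ⊓ H)) ∧
    (⁅sigmaCore M ⊓ H, M ⊓ H⁆ ≠ ⊥ → p ∈ sigma H ∧ (p ∈ tau1 M → p ∈ beta H)) := by
  by_cases hne : ⁅sigmaCore M ⊓ H, M ⊓ H⁆ = ⊥
  · have hc := comm_eq_bot_iff'.1 hne
    exact ⟨fun P₁ h _ => h.trans hc, fun X h _ => (h.trans (inf_le_inf_right H hE.le)).trans hc,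
      fun h => absurd hne h⟩
  have hnc : ¬ Cj M H := mmax_norm_notJ hM hH hP hPM hN (Or.inr hp)
  have hcl := prime_class_mmax_norm hH hP hN
  have hpE : p ∣ Nat.card E := (partition_pi_sigma_compl hM hE).2 (by tauto)
  have hpH : p ∣ Nat.card H := hcl.elim sigma_dvd tau2_dvd
  have hp1 : p ∉ tau1 H := fun h => hcl.elim (tau1_sigma' h) (tau1_tau2' h)
  obtain ⟨ha, hb, hc⟩ := Msigma_setI_mmax_central hM hE hH hpE hpH hp1 hnc hne
  refine ⟨ha, fun X hX hXt => Syl.le_of_forall fun q hq hd => ?_, fun _ => ?_⟩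
  · haveI := Fact.mk hq
    obtain ⟨Q, hQ⟩ := Syl.exists q X
    refine ⟨Q, hQ, (Msigma_setI_mmax_central hM hE hH (hd.trans (card_dvd (hX.trans inf_le_left)))
      (hd.trans (card_dvd (hX.trans inf_le_right))) (hXt.mem hq hd) hnc hne).1 Q ?_ hQ.pgroup⟩
    exact hQ.le.trans (hX.trans (inf_le_inf_right H hE.le))
  · have hs : p ∈ sigma H := hcl.resolve_right hb
    exact ⟨hs, fun h => A13.beta_of_sigma hs (hc h)⟩

/-- B&G Corollary 13.3(a). -/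
theorem cyclic_primact_Msigma {p : ℕ} [Fact p.Prime] {M E P : Subgroup G} (hM : Mx M)
    (hE : Hall (sigma M)ᶜ E M) (hP : Syl p P E) (hc : IsCyclic P) : SemiPrime (sigmaCore M) P := by
  refine semiPrime_of_prime fun X hX hXp => ?_
  have hX1 : X ≠ ⊥ := ne_bot_of_prime hXp
  have hXpg : IsPGroup p X := pgroup_of_le hP.pgroup hX
  have hrk : rk p E = 1 := by
    have h1 := rk_le_one_of_cyclic (p := p) hc
    have h2 := rk_pos_iff.2 (hP.dvd_card' (ne_bot_mono hX1 hX))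
    rw [hP.rk_eq] at h1
    omega
  have h13 : p ∈ tau1 M ∨ p ∈ tau3 M := by
    rw [tau1E hM hE, tau3E hM hE]
    tauto
  by_cases h0 : sigmaCore M ⊓ 𝐂(X) = ⊥
  · rw [h0]; exact bot_le
  have hD : p ∈ DD G := mem_D_of_pgroup (piD_of_Msigma_cent h0) hXpg hX1
  obtain ⟨H, hH, hN⟩ := mFT_pgroup_norm_mmax hXpg hX1
  have hPM : P ≤ M := hP.le.trans hE.le
  have h := (cent_norm_tau13_mmax hM hE h13 (hX.trans hPM) hXpg hH hN).1 P
    (le_inf hPM ((abelian_norm (abelian_of_cyclic hc) hX).trans hN)) hP.pgroup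
  exact cent_symm (cent_mono h le_rfl (inf_le_inf_left _ ((cent_le_norm X).trans hN)))

/-- B&G Corollary 13.3(b). -/
theorem tau3_primact_Msigma {M E E₃ : Subgroup G} (hM : Mx M) (hE : Hall (sigma M)ᶜ E M)
    (h₃ : Hall (tau3 M) E₃ E) : SemiPrime (sigmaCore M) E₃ := by
  obtain ⟨E₁, E₂, h⟩ := A13.ex_compl_of_tau3 hM hE h₃
  obtain ⟨⟨hder, hn⟩, -, ⟨-, hc⟩, -⟩ := sigma_compl_context hM h
  refine semiPrime_of_prime fun X hX hXp => ?_
  haveI := Fact.mk hXp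
  have hX1 : X ≠ ⊥ := ne_bot_of_prime hXp
  have hXpg : IsPGroup (Nat.card X) X := S14.pgroup_of_card rfl
  by_cases h0 : sigmaCore M ⊓ 𝐂(X) = ⊥
  · rw [h0]; exact bot_le
  have hD : Nat.card X ∈ DD G := mem_D_of_pgroup (piD_of_Msigma_cent h0) hXpg hX1
  obtain ⟨H, hH, hN⟩ := mFT_pgroup_norm_mmax hXpg hX1
  have hEH : E ≤ H := (hn.of_le_cyclic hc hX).norm.trans hN
  have h := (cent_norm_tau13_mmax hM hE (Or.inr (h₃.pi.mem hXp (card_dvd hX))) (hX.trans (h₃.le.trans hE.le))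
    hXpg hH hN).2.1 E₃ (le_inf h₃.le (h₃.le.trans hEH))
    fun r _ hd hr => tau1_not_dvd_der hr (hd.trans (card_dvd (hder.trans (der_mono hEH))))
  exact cent_symm (cent_mono h le_rfl (inf_le_inf_left _ ((cent_le_norm X).trans hN)))

end Cfsg.Lib.BG.Z
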