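import Cfsg.Agent.Lib.ZB.T13_7
import Cfsg.Agent.Lib.ZB.T13_8

set_option autoImplicit false
set_option linter.unusedVariables false

namespace Cfsg.Lib.BG.Z

open Subgroup
open scoped Cfsg.Lib.Transfer

variable {G : Type*} [Group G] [Finite G] [Sz G]

/-- B&G Theorem 13.10. -/
theorem tau13_regular {p : ℕ} [Fact p.Prime] {M E E₁ E₂ E₃ P : Subgroup G} (hM : Mx M)
    (h : SigmaCompl M E E₁ E₂ E₃) (hP : Elem p 1 P E₁) (hnc : ¬ P ≤ 𝐂(E₃)) :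
    SemiReg E₃ E₁ ∧ SemiReg (sigmaCore M) E₃ ∧ sigmaCore M ⊓ 𝐂(P) ≠ ⊥ := by
  have hE := h.hallE
  obtain ⟨⟨hder, hn₃⟩, -, ⟨-, hc₃⟩, -, -⟩ := sigma_compl_context hM h
  have hPE : P ≤ E := hP.le.trans h.hall₁.le
  have hPM : P ≤ M := hPE.trans hE.le
  have hP1 : P ≠ ⊥ := hP.ne_bot one_ne_zero
  have hp : p ∈ tau1 M := hP.mem_pi one_ne_zero h.hall₁.pi
  obtain ⟨q, hqp, hd, Q, hQ, hPQ, hPC⟩ := A13.exists_Sylow_not_cent (hPE.trans hn₃.norm)
    ((hP.pi hp).coprime' h.hall₃.pi fun _ h => tau1_tau3' h) (Or.inl (pgroup_sol hP.pgroup)) hnc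
  haveI := Fact.mk hqp
  have hq : q ∈ tau3 M := h.hall₃.pi.mem hqp hd
  have hne : q ≠ p := fun e => tau1_tau3' hp (e ▸ hq)
  have hQ1 : Q ≠ ⊥ := hQ.ne_bot' hd
  have hC : Q ⊓ 𝐂(P) = ⊥ := ((coprime_act_cyclic_pgroup (cyclic_of_le hc₃ hQ.le) hQ.pgroup hPQ
    (p'_of_pgroup hP.pgroup hne.symm).coprime_p).resolve_left hPC).1
  have hQM : Syl q Q M := (hQ.of_Hall h.hall₃ hq).of_Hall hE (tau3_sigma' hq)
  by_cases hD : q ∉ DD G
  · obtain ⟨-, -, ⟨hc₁, -⟩, -, -⟩ := sigma_compl_context hM h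
    have h3 : PiGrp (DD G)ᶜ E₃ := (nil_D_or (abelian_nil (abelian_of_cyclic hc₃))).resolve_left
      fun h3 => hD (h3.mem hqp hd)
    have hF : Frob Q P (Q ⊔ P) := ⟨SD.of_coprime hPQ (coprime_pgroups hQ.pgroup hP.pgroup hne), hQ1, hP1,
      semiReg_prime hP.prime hC⟩
    have hC1 : sigmaCore M ⊓ 𝐂(P) ≠ ⊥ := Frobenius_cent_compl hF (norm_Msigma (sup_le hQM.le hPM))
      ((Msigma_pi M).coprime (PiGrp.of_pgroup hQ.pgroup (tau3_sigma' hq))) (sub_mmax_sol hM (Msigma_le M))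
      ((Msigma_pi M).coprime (hP.pi (tau1_sigma' hp))) fun hc => Msigma_ne_bot hM (eq_bot_mono
        (not_D_cent_eq_bot (Msigma_D M) hD (pgroup_dvd_card hQ.pgroup hQ1)) (le_inf le_rfl (cent_symm hc)))
    have h1 : PiGrp (DD G) E₁ := nil_D (abelian_nil (abelian_of_cyclic hc₁)) hP.le hP1 (piD_of_Msigma_cent hC1)
    exact ⟨fun x hx hx1 => ((cent1_D hx1 (h1.elt hx)).of_le inf_le_right).eq_bot (h3.of_le inf_le_left),
      semiReg_of_D' (Msigma_D M) h3, hC1⟩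
  rw [not_not] at hD
  obtain ⟨hab, -, -, hC1, hC2⟩ := cent_Malpha_reg_tau1_b hM hp hne (hP.of_le hPM) hQ1 hPQ hC
    (fun hU => not_norm_le_of_sigma' (tau3_sigma' hq) hQM hQ1 hD hU.le) hQM
  have hle : alphaCore M ⊓ 𝐂(P) ≤ sigmaCore M ⊓ 𝐂(P) := inf_le_inf_right _ (Malpha_sub_Msigma hM)
  refine ⟨?_, ?_, ne_bot_mono hC1 hle⟩
  · by_contra hreg
    have := (tau13_primact_Msigma hM h hreg).cent (hP.le.trans le_sup_right) hP1
    exact hC1 (eq_bot_mono hC2 (le_inf inf_le_left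
      (hle.trans (this.le.trans (inf_le_right.trans (cent_anti (sup_le_sup hQ.le hP.le)))))))
  have pr₃ := tau3_primact_Msigma hM hE h.hall₃
  suffices h0 : sigmaCore M ⊓ 𝐂(Q) = ⊥ from fun x hx hx1 => by rw [pr₃ x hx hx1, ← pr₃.cent hQ.le hQ1, h0]
  by_contra h0
  obtain ⟨H, hH, hN⟩ := mFT_pgroup_norm_mmax hQ.pgroup hQ1
  have hnJ : ¬ Cj M H := mmax_norm_notJ hM hH hQ.pgroup hQM.le hN (Or.inr (Or.inr hq))
  have hQH : Q ≤ M ⊓ H := le_inf hQM.le ((le_norm Q).trans hN)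
  have hPH : P ≤ H := hPQ.trans hN
  obtain ⟨ha, hb, -⟩ := cent_norm_tau13_mmax hM hE (Or.inr hq) hQM.le hQ.pgroup hH hN
  have e : sigmaCore M ⊓ 𝐂(Q) = sigmaCore M ⊓ H :=
    le_antisymm (inf_le_inf_left _ ((cent_le_norm Q).trans hN)) (le_inf inf_le_left (cent_symm (ha Q hQH hQ.pgroup)))
  obtain ⟨Y, hY, hs⟩ := exists_prime_le h0
  set s := Nat.card Y with hsdef
  haveI := Fact.mk hs
  have hss : s ∈ sigma M := (Msigma_pi M).mem hs (card_dvd (hY.trans inf_le_left))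
  obtain ⟨S, hS, hPS⟩ := Syl.exists_inv s (A := P) (K := sigmaCore M ⊓ 𝐂(Q))
    (norm_inf (norm_Msigma hPM) (norm_cent hPQ))
    (((Msigma_pi M).of_le inf_le_left).coprime (hP.pi (tau1_sigma' hp))).symm (Or.inl (pgroup_sol hP.pgroup))
  have hS1 : S ≠ ⊥ := hS.ne_bot' (card_dvd hY)
  have hSs : S ≤ sigmaCore M := hS.le.trans inf_le_left
  have hSH : S ≤ H := hS.le.trans (e.le.trans inf_le_right)
  have hSMH : Syl s S (M ⊓ H) := by
    have h1 := (Msigma_Hall hM).inf_of_normal (Msigma_nml M).norm (inf_le_left : M ⊓ H ≤ M)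
    rw [← inf_assoc, inf_eq_left.2 (Msigma_le M), ← e] at h1
    exact hS.of_Hall h1 hss
  have key : 𝐍(S) ≤ M ∧ S ⊓ 𝐂(P) = ⊥ := by
    by_cases hb : s ∈ beta M
    · refine ⟨beta_norm_sub_mmax hM (hSs.trans (Msigma_le M)) (PiGrp.of_pgroup hS.pgroup hb) hS1,
        eq_bot_mono hC2 (le_inf (inf_le_left.trans ?_)
          (le_cent_sup (inf_le_left.trans (hS.le.trans inf_le_right)) inf_le_right))⟩
      exact A13.le_Malpha hM (hSs.trans (Msigma_le M)) (PiGrp.of_pgroup hS.pgroup (beta_sub_alpha M hb))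
    · have hSyl : Syl s S (sigmaCore M) := by
        obtain ⟨T, hT⟩ := Syl.exists s (sigmaCore M ⊓ 𝐂(⁅E, E⁆))
        exact (A13.Sylow_cent_der hM hE hb hT).of_card_le' hS.pgroup hSs
          (hS.card_le hT.pgroup (hT.le.trans (inf_le_inf_left _ (cent_anti (hQ.le.trans hder)))))
      refine ⟨norm_sigma_Sylow hss (hSyl.of_Hall (Msigma_Hall hM) hss), ?_⟩
      by_contra hC'
      obtain ⟨X, hX⟩ := Elem.exists_one_of_pgroup (pgroup_of_le hS.pgroup inf_le_left) hC'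
      exact Cj.ne_of_not hnJ (((cent_cent_Msigma_tau1_uniq hM hE hPE hP1 (hP.pi hp)
        (hX.mono (inf_le_inf_right _ hSs))).2 S hSyl).eq hH hSH)
  have hpH : p ∈ tau1 H := by
    by_contra hpH
    exact hS1 (eq_bot_mono key.2 (le_inf le_rfl
      (hS.le.trans (e.le.trans (cent_symm (hb P (le_inf hPE hPH) (hP.pi hpH)))))))
  exact tau1_mmaxI_asymmetry hM hH hnJ hp hpH (hP.of_le (le_inf hPM hPH)) (hQM.of_le hQH inf_le_left) hSMH hPQ hPS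
    hC key.2 hN key.1

/-- B&G Corollary 13.11. -/
theorem tau13_nonregular {M E E₁ E₂ E₃ : Subgroup G} (hM : Mx M) (h : SigmaCompl M E E₁ E₂ E₃)
    (hreg : ¬ SemiReg (sigmaCore M) E₃) :
    E₁ ≠ ⊥ ∧ SD E₃ E₁ E ∧ SemiPrime (sigmaCore M) E ∧
    ∀ X : Subgroup G, X ≤ E → (Nat.card X).Prime → Nml X E := by
  have hE := h.hallE
  obtain ⟨⟨-, hn₃⟩, h21, ⟨hc₁, hc₃⟩, ⟨-, -, -, hsd⟩, -⟩ := sigma_compl_context hM h
  have h2 : E₂ = ⊥ := by
    by_contra h2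
    obtain ⟨p, _, hp, A, hA⟩ := A13.ex_tau2_of_ne_bot hM hE h.hall₂.pi h2
    exact hreg (tau2_regular hM h hp hA).1
  rw [h2, sup_bot_eq] at hsd
  have h1 := h21 h2
  have h3 : E₃ ≠ ⊥ := by
    rintro rfl
    exact hreg fun x hx hx1 => absurd (mem_bot.1 hx) hx1
  have hcent : ∀ X : Subgroup G, X ≤ E₁ → (Nat.card X).Prime → X ≤ 𝐂(E₃) := fun X hX hXp => by
    haveI := Fact.mk hXp
    by_contra hnc
    exact hreg (tau13_regular hM h (Elem.of_card hX rfl) hnc).2.1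
  refine ⟨h1, hsd, ?_, fun X hX hXp => ?_⟩
  · rw [← hsd.sup]
    refine tau13_primact_Msigma hM h fun hr => ?_
    obtain ⟨X, hX, hXp⟩ := exists_prime_le h1
    exact h3 (eq_bot_mono (hr.cent hX (ne_bot_of_prime hXp)) (le_inf le_rfl (cent_symm (hcent X hX hXp))))
  · obtain ⟨hH₃, hH₁⟩ := Hall.of_sd hsd h.hall₃.pi (h.hall₁.pi.mono fun _ h => tau1_tau3' h)
    by_cases hp : Nat.card X ∈ tau3 M
    · exact hn₃.of_le_cyclic hc₃ (hH₃.ge_of_normal hn₃.norm hX (PiGrp.of_card_prime hXp hp))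
    · obtain ⟨g, hg, hgX⟩ := hH₁.exists_conj_le (sub_mmax_sol hM hE.le) hX (PiGrp.of_card_prime hXp hp)
      have h4 : Nml (g ⋆ X) E := by
        refine Nml.of_cent ?_ (hgX.trans h.hall₁.le)
        rw [← hsd.sup]
        exact sup_le (cent_symm (hcent _ hgX (by rwa [S14.card_conj])))
          (abelian_cent' (abelian_of_cyclic hc₁) le_rfl hgX)
      have h5 := h4.conj g⁻¹
      rwa [S14.inv_conj, conj_eq_of_mem (inv_mem hg)] at h5

end Cfsg.Lib.BG.Z
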