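import Cfsg.Agent.Lib.ZB.T13_9
import Cfsg.Agent.Lib.ZB.T13_10
import Cfsg.Agent.Lib.ZB.T12_9
import Cfsg.Agent.Lib.ZB.T12_10
import Cfsg.Agent.Lib.ZB.T12_11

set_option autoImplicit false
set_option linter.unusedVariables false

namespace Cfsg.Lib.BG.Z

open Subgroup
open scoped Cfsg.Lib.Transfer

variable {G : Type*} [Group G] [Finite G] [Sz G]

/-- B&G Lemma 13.12. -/
theorem tau12_regular {p q : ℕ} [Fact p.Prime] [Fact q.Prime] {M E P A : Subgroup G} (hM : Mx M)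
    (hE : Hall (sigma M)ᶜ E M) (hp : p ∈ tau1 M) (hP : Elem p 1 P E) (hq : q ∈ tau2 M) (hA : Elem q 2 A E)
    (hC : A ⊓ 𝐂(P) ≠ ⊥) : sigmaCore M ⊓ 𝐂(P) = ⊥ := by
  by_contra h0
  have hP1 : P ≠ ⊥ := hP.ne_bot one_ne_zero
  obtain ⟨⟨hAE, -⟩, ⟨-, -, hNA⟩, hU, -⟩ := tau2_compl_context hM hE hq hA
  have hnc : ¬ P ≤ 𝐂(A) := fun hc => by
    obtain ⟨E₁, E₂, E₃, h, hP₁⟩ := ex_tau1_compl hM hE hP.le (hP.pi hp)
    exact h0 ((tau2_regular hM h hq hA).2.1.cent (le_inf hP₁ hc) hP1)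
  obtain ⟨Y, hY⟩ := Elem.exists_one_of_pgroup (pgroup_of_le hA.pgroup inf_le_left) hC
  have hYE : Elem q 1 Y (E ⊓ 𝐂(P)) := hY.mono (inf_le_inf_right _ hA.le)
  have hUY := hU Y (hYE.mono inf_le_left)
    (ne_bot_mono h0 (le_inf inf_le_left (cent_tau1Elem_Msigma hM hE hp hP hYE)))
  obtain ⟨H, hH, hN⟩ := mFT_pgroup_norm_mmax hA.pgroup (hA.ne_bot two_ne_zero)
  have hHM : H ≠ M := fun e => hNA (e ▸ hN)
  have hAH : A ≤ H := (le_norm A).trans hN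
  have hPH : P ≤ H := hP.le.trans (hAE.norm.trans hN)
  obtain ⟨h1, h2, -⟩ := primes_norm_tau2Elem hM hE hq hA hH hN
  have hYs : Elem q 1 Y (sigmaCore H ⊓ 𝐂(P)) := hY.mono (inf_le_inf_right _ (A13.le_Msigma hH hAH (hA.pi (h1 q hq).1)))
  have hpd : p ∣ 𝐂(A).relIndex E := by
    by_contra hd
    exact hnc ((hP.pi (π := {p}) rfl).le_of_relIndex hP.le (norm_cent hAE.norm) (PiNat.p'_iff.2 hd))
  rcases h2 p Fact.out hpd with hpH | hpH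
  · obtain ⟨F, hF, hPF⟩ := ex_sigma_compl hH hPH (hP.pi (tau1_sigma' hpH))
    exact hHM (hUY.eq_of_uniqMax (cent_cent_Msigma_tau1_uniq hH hF hPF hP1 (hP.pi hpH) hYs).1)
  · obtain ⟨F, hF, hPF⟩ := ex_sigma_compl hH hPH (hP.pi (tau2_sigma' hpH))
    obtain ⟨B, hB⟩ := ex_tau2Elem hH hF hpH
    have hUP := (tau2_compl_context hH hF hpH hB).2.2.1 P (hP.of_le hPF) (ne_bot_mono (hY.ne_bot one_ne_zero) hYs.le)
    exact h0 (eq_bot_mono ((tau2_context hM hq (hA.mono hE.le)).2.2.2.1 H hH hAH hHM) (inf_le_inf_left _ hUP.le))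

/-- B&G Lemma 13.13. -/
theorem tau13_nonregular_sigma {p : ℕ} [Fact p.Prime] {M H P : Subgroup G} (hM : Mx M) (hP : Elem p 1 P M)
    (hp : p ∈ tau1 M ∨ p ∈ tau3 M) (hC : sigmaCore M ⊓ 𝐂(P) ≠ ⊥) (hH : Mx H) (hN : 𝐍(P) ≤ H) :
    p ∈ sigma H := by
  refine (prime_class_mmax_norm hH hP.pgroup hN).resolve_right fun hp2 => ?_
  have hP1 : P ≠ ⊥ := hP.ne_bot one_ne_zero
  have hnJ : ¬ Cj M H := mmax_norm_notJ hM hH hP.pgroup hP.le hN (Or.inr hp)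
  have hCH : 𝐂(P) ≤ H := (cent_le_norm P).trans hN
  obtain ⟨Q, hQ', hqp⟩ := exists_prime_le hC
  set q := Nat.card Q with hqdef
  haveI := Fact.mk hqp
  have hQ : Elem q 1 Q (sigmaCore M ⊓ 𝐂(P)) := Elem.of_card hQ' rfl
  have hq : q ∈ sigma M := hQ.mem_pi one_ne_zero ((Msigma_pi M).of_le inf_le_left)
  have hQP : Q ≤ 𝐂(P) := hQ'.trans inf_le_right
  obtain ⟨F, hF, hPQF⟩ := ex_sigma_compl hH (sup_le ((le_norm P).trans hN) (hQP.trans hCH))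
    ((hP.pi (tau2_sigma' hp2)).sup (hQ.pi (sigma_partition hM hH hnJ q hq)) (norm_of_cent hQP))
  obtain ⟨A, hA⟩ := ex_tau2Elem hH hF hp2
  obtain ⟨⟨hAF, hle⟩, -⟩ := tau2_compl_context hH hF hp2 hA
  have hPA : P ≤ A := hle P (hP.of_le (le_sup_left.trans hPQF))
  have hQF : Elem q 1 Q F := hQ.of_le (le_sup_right.trans hPQF)
  have hU : UniqMax 𝐂(Q) M := by
    obtain ⟨E, hE, hPE⟩ := ex_sigma_compl hM hP.le (hP.pi (S14.tau13_sigma' hp))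
    rcases hp with hp | hp
    · exact (cent_cent_Msigma_tau1_uniq hM hE hPE hP1 (hP.pi hp) hQ).1
    · obtain ⟨E₃, h₃, hP₃⟩ := Hall.exists_ge (sub_mmax_sol hM hE.le) hPE (hP.pi hp)
      obtain ⟨E₁, E₂, h⟩ := A13.ex_compl_of_tau3 hM hE h₃
      obtain ⟨h1, -, hpr, -⟩ := tau13_nonregular hM h fun hr => hC (hr.cent hP₃ hP1)
      refine (cent_cent_Msigma_tau1_uniq hM hE h.hall₁.le h1 h.hall₁.pi (hQ.mono ?_)).1
      rw [hpr.cent hPE hP1, hpr.cent h.hall₁.le h1]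
  have hnc : ¬ A ≤ 𝐂(Q) := fun hc => by
    have h1 := (hA.of_le (hc.trans hU.le)).le_rk
    have h2 := (mem_tau13_iff.1 hp).2
    omega
  have hq1 : q ∈ tau1 H := by
    refine tau1_cent_tau2Elem_factor hH hF hp2 hA q hqp ?_
    by_contra hd
    exact hnc (cent_symm ((hQ.pi (π := {q}) rfl).le_of_relIndex hQF.le (norm_cent hAF.norm) (PiNat.p'_iff.2 hd)))
  have hPAQ : P ≤ A ⊓ 𝐂(Q) := le_inf hPA (cent_symm hQP)
  obtain ⟨-, -, h1, h2⟩ := tau1_act_tau2 hH hF hp2 hA hq1 hQF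
    (tau12_regular hH hF hq1 hQF hp2 hA (ne_bot_mono hP1 hPAQ)) fun h0 => hnc (comm_eq_bot_iff.1 h0)
  exact h2 ((cent_anti hPAQ).trans hCH)

end Cfsg.Lib.BG.Z
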