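import Cfsg.Agent.Lib.ZB.T13_1
import Cfsg.Agent.Lib.BG.T01_Coprime
import Cfsg.Agent.Lib.ZB.T12_13
import Cfsg.Agent.Lib.ZB.T12_15
import Cfsg.Agent.Lib.ZB.T12_18

set_option autoImplicit false
set_option linter.unusedVariables false

namespace Cfsg.Lib.BG.Z

open Subgroup
open scoped Cfsg.Lib.Transfer

variable {G : Type*} [Group G] [Finite G] [Sz G]

/-- The main step in the proof of B&G Theorem 13.4. -/
theorem A13.cent_tau1Elem_step {p q r : ℕ} [Fact p.Prime] [Fact q.Prime] [Fact r.Prime] {M E P R S : Subgroup G}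
    (hM : Mx M) (hE : Hall (sigma M)ᶜ E M) (hp : p ∈ tau1 M) (hP : Elem p 1 P E) (hR : Elem r 1 R (E ⊓ 𝐂(P)))
    (hS : IsPGroup q S) (hSC : S ≤ sigmaCore M ⊓ 𝐂(P)) (hRS : R ≤ 𝐍(S)) (hnc : ¬ R ≤ 𝐂(S)) :
    r ∈ tau1 M ∧ q ∉ alpha M ∧ alphaCore M ⊓ 𝐂(R) ≠ ⊥ ∧ alphaCore M ⊓ 𝐂(⁅S, R⁆ ⊔ R) = ⊥ := by
  have hPM : P ≤ M := hP.le.trans hE.le
  have hRE : R ≤ E := hR.le.trans inf_le_left
  have hRM : R ≤ M := hRE.trans hE.le
  have hSM : S ≤ M := hSC.trans (inf_le_left.trans (Msigma_le M))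
  have hD : p ∈ DD G := elem_self_D (piD_of_Msigma_cent (ne_bot_mono (fun e => hnc (by simp [e])) hSC)) hP
  obtain ⟨H, hH, hN⟩ := mFT_pgroup_norm_mmax hP.pgroup (hP.ne_bot one_ne_zero)
  have hCH : 𝐂(P) ≤ H := (cent_le_norm P).trans hN
  have hnJ : ¬ Cj M H := mmax_norm_notJ hM hH hP.pgroup hPM hN (Or.inr (Or.inl hp))
  have hHM : H ≠ M := Cj.ne_of_not hnJ
  have hRH : R ≤ H := hR.le.trans (inf_le_right.trans hCH)
  have hSH : S ≤ sigmaCore M ⊓ H := hSC.trans (inf_le_inf_left _ hCH)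
  have hQ1 : ⁅S, R⁆ ≠ ⊥ := fun h => hnc (comm_eq_bot_iff'.1 h)
  have hQS : ⁅S, R⁆ ≤ S := comm_le_left hRS
  have hS1 : S ≠ ⊥ := ne_bot_mono hQ1 hQS
  have hq : q ∈ sigma M := ((Msigma_pi M).of_le (hSC.trans inf_le_left)).mem_of_pgroup hS hS1
  have hrs : r ∉ sigma M := hR.mem_pi one_ne_zero (hE.pi.of_le inf_le_left)
  have hqr : q ≠ r := fun h => hrs (h ▸ hq)
  obtain ⟨-, hb, hc⟩ := cent_norm_tau13_mmax hM hE (Or.inl hp) hPM hP.pgroup hH hN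
  have hr1 : r ∈ tau1 H := by
    by_contra h
    exact hnc (cent_mono (hb R (le_inf hRE hRH) (hR.pi h)) le_rfl hSH)
  have hpb : p ∈ beta H := (hc (ne_bot_mono hQ1 (commutator_mono hSH (le_inf hRM hRH)))).2 hp
  have hPa : P ≤ alphaCore H := A13.le_Malpha hH ((le_norm P).trans hN) (hP.pi (beta_sub_alpha H hpb))
  have hqa : q ∉ alpha H := fun h => (sigma_disjoint hH hM fun h => hnJ h.symm).2.1 q h hq
  have hab : IsMulCommutative S := by
    by_contra h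
    exact hHM ((nonabelian_Uniqueness hS h).eq hM hH hSM (hSH.trans inf_le_right))
  have hcop : (Nat.card R).Coprime (Nat.card S) := coprime_pgroups hR.pgroup hS hqr.symm
  have hC : ⁅S, R⁆ ⊓ 𝐂(R) = ⊥ :=
    eq_bot_mono (coprime_abelian_cent_dprod hRS hcop hab).inf (le_inf inf_le_left (inf_le_inf_right _ hQS))
  have hQq : IsPGroup q ↥⁅S, R⁆ := pgroup_of_le hS hQS
  have hU : UniqMax 𝐍(⁅S, R⁆) H := by
    by_contra hU
    have := (cent_Malpha_reg_tau1_a hH hr1 hqr (hR.of_le hRH) hQ1 (right_norm_comm S R) hC hU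
      (ne_bot_mono (hP.ne_bot one_ne_zero) hPa) hqa (hQS.trans (hSH.trans inf_le_right)) hQq).2
    refine hP.ne_bot one_ne_zero (eq_bot_mono this (le_inf hPa (cent_symm (sup_le ?_ ?_))))
    · exact hQS.trans (hSC.trans inf_le_right)
    · exact hR.le.trans inf_le_right
  obtain ⟨-, -, h3, h4⟩ := sigma_subgroup_embedding hM hq (hQS.trans hSM) hQq hH hU.le hHM
  have hqH : q ∈ sigma H := by
    by_contra h
    exact (hP.of_le (le_inf hPM ((le_norm P).trans hN))).mem_pi one_ne_zero (h4 h).2.2.pi (beta_sub_sigma hH hpb)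
  obtain ⟨-, ht, -, ha1⟩ := h3 hqH
  have hr : r ∈ tau1 M := (ht hr1).resolve_right fun h => hrs (alpha_sub_sigma hM h)
  have hqa' : q ∉ alpha M := fun h => (sigma_disjoint hM hH hnJ).2.1 q h hqH
  exact ⟨hr, hqa', cent_Malpha_reg_tau1_a hM hr hqr (hR.of_le hRM) hQ1 (right_norm_comm S R) hC
    (fun h => hHM (h.eq_of_uniqMax hU)) ha1 hqa' (hQS.trans hSM) hQq⟩

/-- B&G Theorem 13.4 for `M_α`. -/
theorem A13.cent_tau1Elem_Malpha {p r : ℕ} [Fact p.Prime] [Fact r.Prime] {M E P R : Subgroup G} (hM : Mx M)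
    (hE : Hall (sigma M)ᶜ E M) (hp : p ∈ tau1 M) (hP : Elem p 1 P E) (hR : Elem r 1 R (E ⊓ 𝐂(P))) :
    alphaCore M ⊓ 𝐂(P) ≤ 𝐂(R) := by
  by_contra h
  have hRE : R ≤ E := hR.le.trans inf_le_left
  have hle : alphaCore M ⊓ 𝐂(P) ≤ sigmaCore M ⊓ 𝐂(P) := inf_le_inf_right _ (Malpha_sub_Msigma hM)
  obtain ⟨q, hq, hd, S, hS, hRS, hnc⟩ := A13.exists_Sylow_not_cent (A := R) (K := alphaCore M ⊓ 𝐂(P))
    (norm_inf (norm_Malpha (hRE.trans hE.le)) (le_norm_of_le (hR.le.trans inf_le_right)))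
    (((Msigma_pi M).of_le (hle.trans inf_le_left)).coprime (hE.pi.of_le hRE)).symm
    (Or.inl (pgroup_sol hR.pgroup)) fun h' => h (cent_symm h')
  haveI := Fact.mk hq
  exact (A13.cent_tau1Elem_step hM hE hp hP hR hS.pgroup (hS.le.trans hle) hRS hnc).2.1
    (((Malpha_pi M).of_le inf_le_left).mem hq hd)

/-- B&G Theorem 13.4. -/
theorem cent_tau1Elem_Msigma {p r : ℕ} [Fact p.Prime] [Fact r.Prime] {M E P R : Subgroup G} (hM : Mx M)
    (hE : Hall (sigma M)ᶜ E M) (hp : p ∈ tau1 M) (hP : Elem p 1 P E) (hR : Elem r 1 R (E ⊓ 𝐂(P))) :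
    sigmaCore M ⊓ 𝐂(P) ≤ 𝐂(R) := by
  by_contra h
  have hRE : R ≤ E := hR.le.trans inf_le_left
  have hRP : R ≤ 𝐂(P) := hR.le.trans inf_le_right
  obtain ⟨q, hq, -, S, hS, hRS, hnc⟩ := A13.exists_Sylow_not_cent (A := R) (K := sigmaCore M ⊓ 𝐂(P))
    (norm_inf (norm_Msigma (hRE.trans hE.le)) (le_norm_of_le hRP))
    (((Msigma_pi M).of_le inf_le_left).coprime (hE.pi.of_le hRE)).symm
    (Or.inl (pgroup_sol hR.pgroup)) fun h' => h (cent_symm h')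
  haveI := Fact.mk hq
  obtain ⟨hr, -, h1, h2⟩ := A13.cent_tau1Elem_step hM hE hp hP hR hS.pgroup hS.le hRS hnc
  have e1 := A13.cent_tau1Elem_Malpha hM hE hp hP hR
  have e2 := A13.cent_tau1Elem_Malpha hM hE hr (hR.of_le hRE) (hP.of_le (le_inf hP.le (cent_symm hRP)))
  have hQS : ⁅S, R⁆ ≤ S := comm_le_left hRS
  have hSM : S ≤ M := hS.le.trans (inf_le_left.trans (Msigma_le M))
  have hqr : r ≠ q := fun e => tau1_sigma' hr
    (e ▸ ((Msigma_pi M).of_le (hS.le.trans inf_le_left)).mem_of_pgroup hS.pgroup fun h0 => hnc (by simp [h0]))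
  have hn : ⁅S, R⁆ ≤ 𝐍(alphaCore M ⊓ 𝐂(P)) :=
    norm_inf (norm_Malpha (hQS.trans hSM)) (le_norm_of_le (hQS.trans (hS.le.trans inf_le_right)))
  have hQ : ⁅S, R⁆ ≤ 𝐂(alphaCore M ⊓ 𝐂(P)) := by
    rw [← coprime_commGid hRS (coprime_pgroups hR.pgroup hS.pgroup hqr)]
    exact (commutator_mono le_rfl (cent_symm e1)).trans (comm_le_right (norm_cent hn))
  refine h1 (eq_bot_mono h2 (le_inf inf_le_left (le_cent_sup ?_ inf_le_right)))
  exact (le_inf inf_le_left e2).trans (cent_symm hQ)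

/-- B&G Theorem 13.5. -/
theorem tau1_primact_Msigma {M E E₁ : Subgroup G} (hM : Mx M) (hE : Hall (sigma M)ᶜ E M)
    (h₁ : Hall (tau1 M) E₁ E) : SemiPrime (sigmaCore M) E₁ := by
  obtain ⟨E₂, E₃, h⟩ := A13.ex_compl_of_tau1 hM hE h₁
  obtain ⟨-, -, ⟨hc, -⟩, -⟩ := sigma_compl_context hM h
  refine semiPrime_of_prime fun X hX hXp => cent_symm (Syl.le_of_forall fun r hr hd => ?_)
  haveI := Fact.mk hXp
  haveI := Fact.mk hr
  obtain ⟨R, hR⟩ := Syl.exists r E₁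
  refine ⟨R, hR, cent_symm ?_⟩
  obtain ⟨R₀, hR₀⟩ := Elem.exists_one_of_pgroup hR.pgroup (hR.ne_bot' hd)
  have h1 := cent_tau1Elem_Msigma hM hE (h₁.pi.mem hXp (card_dvd hX)) (Elem.of_card (hX.trans h₁.le) rfl)
    (hR₀.of_le (le_inf (hR₀.le.trans (hR.le.trans h₁.le))
      (abelian_cent' (abelian_of_cyclic hc) (hR₀.le.trans hR.le) hX)))
  have h2 := (cyclic_primact_Msigma hM hE (hR.of_Hall h₁ (h₁.pi.mem hr hd)) (cyclic_of_le hc hR.le)).cent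
    hR₀.le (hR₀.ne_bot one_ne_zero)
  exact (le_inf inf_le_left h1).trans (h2.le.trans inf_le_right)

end Cfsg.Lib.BG.Z
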