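import Cfsg.Agent.Lib.ZB.T13_4
import Cfsg.Agent.Lib.ZB.T12_5
import Cfsg.Agent.Lib.ZB.T12_17
import Cfsg.Agent.Lib.ZB.T12_19

set_option autoImplicit false
set_option linter.unusedVariables false

namespace Cfsg.Lib.BG.Z

open Subgroup
open scoped Cfsg.Lib.Transfer

variable {G : Type*} [Group G] [Finite G] [Sz G]

/-- For `q ∈ σ(M) - β(M)`, `E'` centralizes a Sylow `q`-subgroup of `M_σ`. -/
theorem A13.Sylow_cent_der {q : ℕ} [Fact q.Prime] {M E S : Subgroup G} (hM : Mx M)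
    (hE : Hall (sigma M)ᶜ E M) (hq : q ∉ beta M) (hS : Syl q S (sigmaCore M ⊓ 𝐂(⁅E, E⁆))) :
    Syl q S (sigmaCore M) := by
  obtain ⟨H, hH, hc⟩ := der_compl_cent_beta' hM hE
  refine hS.trans_idx inf_le_left (PiNat.p'_iff.2 fun hd => ?_)
  exact hH.not_dvd Fact.out hq (hd.trans (relIndex_dvd_left (le_inf hH.le (cent_symm hc)) _))

/-- A subgroup of `M_σ` centralized by `E' E₁` (with `E₁ ≠ 1`) lies in `M_σ'`. -/
theorem A13.le_der_Msigma_of_cent {M E E₁ E₂ E₃ X : Subgroup G} (hM : Mx M) (h : SigmaCompl M E E₁ E₂ E₃)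
    (h1 : E₁ ≠ ⊥) (hX : X ≤ sigmaCore M) (hc₁ : X ≤ 𝐂(E₁)) (hc : X ≤ 𝐂(⁅E, E⁆)) :
    X ≤ ⁅sigmaCore M, sigmaCore M⁆ := by
  have hE := h.hallE
  obtain ⟨⟨hder, -⟩, -, -, ⟨-, -, -, hsd⟩, -⟩ := sigma_compl_context hM h
  by_cases h2 : E₂ = ⊥
  · refine le_trans (le_inf hX ?_) (sigma_compl_embedding hM hE).1
    rw [← hsd.sup, h2, sup_bot_eq]
    exact le_cent_sup (hc.trans (cent_anti hder)) hc₁
  obtain ⟨p, _, hp, A, hA⟩ := A13.ex_tau2_of_ne_bot hM hE h.hall₂.pi h2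
  have hAE : Nml A E := (tau2_compl_context hM hE hp hA).1.1
  have hC := (tau2_context hM hp (hA.mono hE.le)).2.2.1
  suffices hXA : X ≤ 𝐂(A) by rw [eq_bot_mono hC (le_inf hX hXA)]; exact bot_le
  have hcop : (Nat.card E₁).Coprime (Nat.card A) := h.hall₁.pi.coprime' (hA.pi hp) fun _ h => tau1_tau2' h
  rw [← coprime_cent_prod (h.hall₁.le.trans hAE.norm) hcop (Or.inr (pgroup_sol hA.pgroup))]
  refine le_cent_sup (hc.trans (cent_anti (comm_le_der hA.le h.hall₁.le))) (cent_symm fun a ha => ?_)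
  by_cases ha1 : a = 1
  · rw [ha1]; exact one_mem _
  obtain ⟨P, hP, hPp⟩ := exists_prime_le h1
  haveI := Fact.mk hPp
  have hR : Elem p 1 (zpowers a) (E ⊓ 𝐂(P)) := (hA.zpowers_of_mem ha.1 ha1).of_le
    ((zpowers_le).2 ⟨hA.le ha.1, cent_anti hP ha.2⟩)
  have := cent_tau1Elem_Msigma hM hE (h.hall₁.pi.mem hPp (card_dvd hP)) (Elem.of_card (hP.trans h.hall₁.le) rfl) hR
  exact cent_symm ((le_inf hX (hc₁.trans (cent_anti hP))).trans this) (mem_zpowers a)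

/-- B&G Lemma 13.6. -/
theorem cent_cent_Msigma_tau1_uniq {q : ℕ} [Fact q.Prime] {M E P X : Subgroup G} (hM : Mx M)
    (hE : Hall (sigma M)ᶜ E M) (hPE : P ≤ E) (hP1 : P ≠ ⊥) (hP : PiGrp (tau1 M) P)
    (hX : Elem q 1 X (sigmaCore M ⊓ 𝐂(P))) :
    UniqMax 𝐂(X) M ∧ ∀ S : Subgroup G, Syl q S (sigmaCore M) → UniqMax S M := by
  have hXs : X ≤ sigmaCore M := hX.le.trans inf_le_left
  refine cent_der_sigma_uniq hM (hX.of_le (hXs.trans (Msigma_le M))) (or_iff_not_imp_left.2 fun hq => ?_)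
  obtain ⟨E₁, E₂, E₃, h, hP₁⟩ := ex_tau1_compl hM hE hPE hP
  have hXc : X ≤ 𝐂(E₁) := (hX.le.trans ((tau1_primact_Msigma hM hE h.hall₁).cent hP₁ hP1).le).trans inf_le_right
  have hE₁ : E₁ ≤ M := h.hall₁.le.trans hE.le
  have hcop : (Nat.card E₁).Coprime (Nat.card (sigmaCore M)) :=
    ((Msigma_pi M).coprime (hE.pi.of_le h.hall₁.le)).symm
  have hs := sub_mmax_sol hM (Msigma_le M)
  obtain ⟨S, hS, hES⟩ := Syl.exists_inv q (A := E₁) (K := sigmaCore M ⊓ 𝐂(⁅E, E⁆))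
    (norm_inf (norm_Msigma hE₁) (norm_cent (norm_der (le_norm_of_le h.hall₁.le))))
    (coprime_mono hcop le_rfl inf_le_left) (Or.inl (sub_mmax_sol hM hE₁))
  obtain ⟨c, hc, hcX⟩ := (A13.Sylow_cent_der hM hE hq hS).inv_conj_le (norm_Msigma hE₁) hcop hs hES hXs
    (hX.pi rfl) (norm_of_cent (cent_symm hXc))
  have h1 := A13.le_der_Msigma_of_cent hM h (ne_bot_mono hP1 hP₁) (conj_le_of_mem hXs hc.1)
    (conj_le_of_mem hXc hc.2) (hcX.trans (hS.le.trans inf_le_right))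
  rw [S14.conj_le_iff, conj_eq_of_norm (norm_der (le_norm _) (inv_mem hc.1))] at h1
  exact h1

end Cfsg.Lib.BG.Z
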