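import Cfsg.Agent.Lib.ZB.T13_6

set_option autoImplicit false
set_option linter.unusedVariables false

namespace Cfsg.Lib.BG.Z

open Subgroup
open scoped Cfsg.Lib.Transfer

variable {G : Type*} [Group G] [Finite G] [Sz G]

omit [Sz G] in
/-- Prime action of a coprime semidirect product. -/
theorem A13.semiPrime_sup {π : Set ℕ} {K A B : Subgroup G} (hn : B ≤ 𝐍(A)) (hA : PiGrp π A) (hB : PiGrp πᶜ B)
    (hs : Group.IsSolvable ↥(A ⊔ B)) (hK : A ⊔ B ≤ 𝐍(K)) (h₁ : SemiPrime K A) (h₂ : SemiPrime K B)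
    (e : K ⊓ 𝐂(A) = K ⊓ 𝐂(B)) : SemiPrime K (A ⊔ B) := by
  have hsd := SD.of_norm hn (hA.inf_eq_bot hB)
  obtain ⟨hHA, hHB⟩ := Hall.of_sd hsd hA hB
  have hC : K ⊓ 𝐂(B) ≤ 𝐂(A ⊔ B) := le_cent_sup (e.ge.trans inf_le_right) inf_le_right
  refine semiPrime_of_prime fun X hX hXp => ?_
  by_cases hp : Nat.card X ∈ π
  · have hXA := hHA.ge_of_normal hsd.nml.norm hX (PiGrp.of_card_prime hXp hp)
    rw [h₁.cent hXA (ne_bot_of_prime hXp), e]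
    exact hC
  · obtain ⟨g, hg, hgX⟩ := hHB.exists_conj_le hs hX (PiGrp.of_card_prime hXp hp)
    have h3 := h₂.cent hgX fun h => ne_bot_of_prime hXp (S14.conj_eq_bot.1 h)
    rw [← S14.conj_cent] at h3
    conv_lhs at h3 => rw [← conj_eq_of_norm (hK hg), ← S14.conj_inf]
    rw [← S14.conj_le_conj (g := g), h3, conj_eq_of_norm (norm_cent (le_norm _) hg)]
    exact hC

/-- B&G Lemma 13.7. -/
theorem tau13_primact_Msigma {M E E₁ E₂ E₃ : Subgroup G} (hM : Mx M) (h : SigmaCompl M E E₁ E₂ E₃)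
    (hreg : ¬ SemiReg E₃ E₁) : SemiPrime (sigmaCore M) (E₃ ⊔ E₁) := by
  have hE := h.hallE
  obtain ⟨⟨-, hn₃⟩, -, ⟨-, hc₃⟩, ⟨-, -, -, hsd⟩, hC₃⟩ := sigma_compl_context hM h
  have pr₁ := tau1_primact_Msigma hM hE h.hall₁
  have pr₃ := tau3_primact_Msigma hM hE h.hall₃
  have hE₁ : E₁ ≤ M := h.hall₁.le.trans hE.le
  have hE₃ : E₃ ≤ M := h.hall₃.le.trans hE.le
  obtain ⟨P, hP, hPp, hPC⟩ : ∃ P : Subgroup G, P ≤ E₁ ∧ (Nat.card P).Prime ∧ E₃ ⊓ 𝐂(P) ≠ ⊥ := by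
    by_contra hne
    push Not at hne
    exact hreg (semiReg_of_prime hne)
  obtain ⟨R, hR, hRp⟩ := exists_prime_le hPC
  haveI := Fact.mk hPp
  haveI := Fact.mk hRp
  have hR₃ : R ≤ E₃ := hR.trans inf_le_left
  have hP1 : P ≠ ⊥ := ne_bot_of_prime hPp
  have hR1 : R ≠ ⊥ := ne_bot_of_prime hRp
  have h13 : sigmaCore M ⊓ 𝐂(E₁) ≤ sigmaCore M ⊓ 𝐂(E₃) := by
    rw [← pr₁.cent hP hP1, ← pr₃.cent hR₃ hR1]
    exact le_inf inf_le_left (cent_tau1Elem_Msigma hM hE (h.hall₁.pi.mem hPp (card_dvd hP))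
      (Elem.of_card (hP.trans h.hall₁.le) rfl) (Elem.of_card (hR.trans (inf_le_inf_right _ h.hall₃.le)) rfl))
  refine A13.semiPrime_sup (h.hall₁.le.trans hn₃.norm) h.hall₃.pi (h.hall₁.pi.mono fun _ h => tau1_tau3' h)
    (sub_mmax_sol hM (sup_le hE₃ hE₁)) (norm_Msigma (sup_le hE₃ hE₁)) pr₃ pr₁ (le_antisymm ?_ h13)
  by_contra hne
  have h2 : E₂ = ⊥ := by
    by_contra h2
    obtain ⟨p, _, hp, A, hA⟩ := A13.ex_tau2_of_ne_bot hM hE h.hall₂.pi h2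
    refine hne ?_
    rw [← pr₃.cent hR₃ hR1, (tau2_regular hM h hp hA).1.cent hR₃ hR1]
    exact bot_le
  have hRp' : IsPGroup (Nat.card R) R := S14.pgroup_of_card rfl
  have hD : Nat.card R ∈ DD G := (piD_of_Msigma_cent (X := E₃) fun e => hne (by rw [e]; exact bot_le)).mem hRp
    (card_dvd hR₃)
  obtain ⟨H, hH, hN⟩ := mFT_pgroup_norm_mmax hRp' hR1
  have hEH : E ≤ H := (hn₃.of_le_cyclic hc₃ hR₃).norm.trans hN
  have hCH : sigmaCore M ⊓ 𝐂(E₃) ≤ sigmaCore M ⊓ H :=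
    inf_le_inf_left _ ((cent_anti hR₃).trans ((cent_le_norm R).trans hN))
  obtain ⟨-, hb, hc⟩ := cent_norm_tau13_mmax hM hE (Or.inr (h.hall₃.pi.mem hRp (card_dvd hR₃))) (hR₃.trans hE₃)
    hRp' hH hN
  have key : ∀ X : Subgroup G, X ≤ E₁ → X ≠ ⊥ → ¬ X ≤ 𝐂(sigmaCore M ⊓ H) := fun X hX hX1 hc =>
    hne (pr₁.cent hX hX1 ▸ le_inf inf_le_left (hCH.trans (cent_symm hc)))
  have ht : PiGrp (tau1 H) E₁ := fun s hs hd => by
    by_contra hs'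
    obtain ⟨X, hX, hXc⟩ := exists_card_eq_prime hs hd
    have hXp : (Nat.card X).Prime := hXc ▸ hs
    exact key X hX (ne_bot_of_prime hXp) (hb X (le_inf (hX.trans h.hall₁.le) (hX.trans (h.hall₁.le.trans hEH)))
      (PiGrp.of_card_prime hXp (hXc ▸ hs')))
  have hr : Nat.card R ∈ sigma H := (hc fun h0 => key P hP hP1
    ((le_inf (hP.trans hE₁) (hP.trans (h.hall₁.le.trans hEH))).trans (comm_eq_bot_iff'.1 h0))).1
  have hRH : R ≤ sigmaCore H := A13.le_Msigma hH ((le_norm R).trans hN) (PiGrp.of_card_prime hRp hr)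
  obtain ⟨F, F₁, F₂, F₃, hF, hEF⟩ := A13.ex_compl_ge_tau1 hH (h.hall₁.le.trans hEH) ht
  have hR₁ : R ≤ 𝐂(E₁) := ((le_inf hRH (hR.trans inf_le_right)).trans
    ((tau1_primact_Msigma hH hF.hallE hF.hall₁).cent (hP.trans hEF) hP1).le).trans
      (inf_le_right.trans (cent_anti hEF))
  refine hR1 (eq_bot_mono hC₃ (le_inf hR₃ ?_))
  rw [← hsd.sup, h2, sup_bot_eq]
  exact le_cent_sup (abelian_cent' (abelian_of_cyclic hc₃) hR₃ le_rfl) hR₁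

end Cfsg.Lib.BG.Z
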