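import Cfsg.Agent.Lib.ZB.T14_7
import Cfsg.Agent.Lib.ZB.T14_11
import Cfsg.Agent.Lib.ZB.T12_13

set_option autoImplicit false
set_option linter.unusedVariables false

namespace Cfsg.Lib.BG.Z.S14

open Subgroup
open scoped Cfsg.Lib.Transfer

variable {G : Type*} [Group G] [Finite G] [Sz G]

/-- B&G Lemma 14.13(a). -/
theorem _root_.Cfsg.Lib.BG.Z.non_disjoint_signalizer_Frobenius {x : G} {M : Subgroup G} (hx : x ≠ 1)
    (hmany : SigMany x) (hM : SigMax x M) (h : ¬ PiGrp (sigma (sigBase x))ᶜ M) :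
    TypeF M ∧ tau2 M = ∅ ∧ ∀ E : Subgroup G, Hall (sigma M)ᶜ E M → Frob (sigmaCore M) E M := by
  have hm := hM.1
  obtain ⟨hu, -, hx2, -, h5, -⟩ := sigBase_spec hx hmany
  obtain ⟨hnc, -, hts, hsb⟩ := h5 M hM
  set N := sigBase x
  have hN := hu.max
  obtain ⟨q, hq, hd, hqs⟩ : ∃ q : ℕ, q.Prime ∧ q ∣ Nat.card M ∧ q ∈ sigma N := by
    by_contra! h'; exact h h'
  haveI := Fact.mk hq
  have hqM : q ∉ sigma M := fun h' => sigma_partition hm hN hnc q h' hqs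
  have huQ : ∀ Q : Subgroup G, Nat.card Q = q → ∃ g : G, UniqMax 𝐂(Q) (g ⋆ N) := fun Q hQ => by
    obtain ⟨g, hg⟩ := sigma_Jsub hN (pigrp_of_card hQ hqs)
    have := A10.uniqMax_conj (cent_der_sigma_uniq hN (elem1_mk (hg.trans (Ms_le N)) (by rwa [card_conj]))
      (.inl (hsb q hqs hd))).1 g⁻¹
    rw [conj_cent, inv_conj] at this
    exact ⟨_, this⟩
  obtain ⟨p, hp, hpd⟩ := exists_prime_order hx
  haveI := Fact.mk hp
  have hp2 := hx2 p hp hpd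
  have hF : TypeF M := (typeF_or_P hm).resolve_right fun hP => by
    by_cases h1 : TypeP1 M
    · obtain ⟨Q, hQ, hc⟩ := exists_card_eq_prime hq hd
      obtain ⟨K, hK, hQK⟩ := Hall.exists_ge (mmax_sol hm) hQ (pigrp_of_card hc (h1.2 q hq hd hqM))
      obtain ⟨Ms, hD⟩ := exists_dual hP hK
      obtain ⟨g, hg⟩ := huQ Q hc
      obtain rfl := uniqMax_eq hg (hD.uniq hQK (hc ▸ hq))
      rw [← tau2_conj g] at hp2
      exact tau13_tau2' (kappa_tau13 hg.max (hD.halls.pi.mem hp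
        (hD.hall_sigma.dvd_card hp (tau2_dvd hp2) (sigMax_elt hM p hp hpd)))) hp2
    · obtain ⟨K, hK⟩ := Hall.exists (π := kappa M) (mmax_sol hm)
      have := sigMax_elt hM p hp hpd
      rw [(Ptype_structure_g ⟨hP, h1⟩ hK).1] at this
      exact (tau2_not_beta hN hp2).1 this.2
  have hreg : ∀ (r : ℕ) (X : Subgroup G), r ∈ tau1 M ∨ r ∈ tau3 M → X ≤ M → Nat.card X = r →
      sigmaCore M ⊓ 𝐂(X) = ⊥ := fun r X hr hX hc => by
    haveI : Fact r.Prime := ⟨hr.elim (·.1) (·.1)⟩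
    by_contra h'
    have := (mem_kappa_iff hm).2 ⟨hr, X, elem1_mk hX hc, h'⟩
    rw [hF.2] at this; exact this
  have ht2 : tau2 M = ∅ := Set.eq_empty_of_forall_notMem fun r hr => by
    haveI := Fact.mk hr.1
    obtain ⟨E, hE, -⟩ := ex_sigma_compl hm bot_le PiGrp.bot
    obtain ⟨Q, hQ, hc⟩ := exists_card_eq_prime hq (hE.dvd_card hq hd hqM)
    obtain ⟨A, hA⟩ := ex_tau2Elem hm hE hr
    obtain ⟨g, hg⟩ := huQ Q hc
    have h13 : r ∣ Nat.card N → r ∈ tau1 N ∨ r ∈ tau3 N := fun h' => by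
      have h1 := (partition_pi_mmax hN).1 h'
      have h2 : r ∉ tau2 N := fun h'' => tau2_sigma' hr (hts h'')
      have h3 : r ∉ sigma N := fun h'' => (tau2_not_beta hm hr).1 (hsb r h'' (tau2_dvd hr)).2
      tauto
    have hAQ : ¬ A ≤ 𝐂(Q) := fun h' => by
      have h1 := le_conj_iff.1 (h'.trans hg.le)
      have h2 := elem_mono (elem_conj hA g⁻¹) h1
      exact not_rank1_of_elem2 h2 (tau13_rank (h13 ((h2.card ▸ dvd_pow_self r two_ne_zero).trans (card_dvd h1))))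
    have h1 := tau1_cent_tau2Elem_factor hm hE hr hA q hq (dvd_relIndex_of_not_le (pgroup_of_card hc) hQ
      (norm_cent (tau2_compl_context hm hE hr hA).1.1.norm) fun h' => hAQ (cent_symm h'))
    obtain ⟨⟨h2, h3, -⟩, h4, h6, -⟩ := tau1_act_tau2 hm hE hr hA h1 (elem1_mk hQ hc)
      (hreg q Q (.inl h1) (hQ.trans hE.le) hc) (mt comm_eq_bot_iff.1 hAQ)
    have h7 : ⁅A, Q⁆ ≤ N := h3 ▸ inf_le_right.trans ((cent_le_cent1 hM.2).trans hu.le)
    obtain ⟨a, -, e⟩ := tau13_conj (h13 (elem1_card h2 ▸ card_dvd h7)) le_rfl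
      (le_conj_iff.1 (inf_le_right.trans hg.le : A ⊓ 𝐂(Q) ≤ _)) h7 (by rw [card_conj, elem1_card h6]) (elem1_card h2)
    exact h4 ⟨a * g⁻¹, by rw [← e, conj_conj]⟩
  refine ⟨hF, ht2, fun E hE => ⟨sdprod_sigma hm hE, Msigma_ne_bot hm, hE.ne_bot hq hd hqM,
    semiReg_of_prime fun X hX hr => hreg _ X ?_ (hX.trans hE.le) rfl⟩⟩
  haveI := Fact.mk hr
  have := (partition_pi_sigma_compl hm hE).1 (card_dvd hX)
  rw [ht2] at this; tauto

/-- B&G Lemma 14.13(b). -/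
theorem _root_.Cfsg.Lib.BG.Z.signalizer_base_conj {x y g : G} {M : Subgroup G} (hx : x ≠ 1) (hy : y ≠ 1)
    (hxM : SigMax x M) (hyM : SigMax y M) (hmx : SigMany x) (hmy : SigMany y) (hg : g ⋆ sigBase y = sigBase x) :
    ∃ m ∈ M, m ⋆ sigBase y = sigBase x := by
  obtain ⟨hu, -, hx2, -, h5, -⟩ := sigBase_spec hx hmx
  have h1 := ((sigBase_spec (conj_ne_one hy g) (sigMany_conj hmy g)).2.2.2.2.1 _ (sigMax_conj hyM g)).2.1
  rw [sigBase_conj ⟨hy, M, hyM⟩ hmy, hg] at h1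
  obtain ⟨u, hu', e⟩ := h1.exists_conj_eq (h5 M hxM).2.1 (mmax_sol hu.max)
  obtain ⟨p, hp, hd⟩ := exists_prime_order hx
  haveI := Fact.mk hp
  obtain ⟨A, hA⟩ := ex_tau2Elem hu.max (h5 M hxM).2.1 (hx2 p hp hd)
  refine ⟨u * g, mem_of_conj_eq hxM.1 (eq_of_cj_of_noncyclic hxM.1 (Cj.conj M _) (sigMax_elt hxM p hp hd) (elem_p hA)
    (elem2_not_cyclic hA) (hA.le.trans inf_le_left) ?_), by rw [← conj_conj, hg, conj_eq_of_mem hu']⟩
  rw [← conj_conj]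
  exact (e ▸ hA.le).trans (conj_mono u inf_le_left)

end Cfsg.Lib.BG.Z.S14
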