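import Cfsg.Agent.Lib.ZB.T14_2
import Cfsg.Agent.Lib.ZB.T12_11

set_option autoImplicit false
set_option linter.unusedVariables false

namespace Cfsg.Lib.BG.Z.S14

open Subgroup
open scoped Cfsg.Lib.Transfer

variable {G : Type*} [Group G] [Finite G] [Sz G]

theorem sigMax_of_elt {H : Subgroup G} {y : G} (hH : Mx H) (h : PiElt (sigma H) y) :
    ∃ g : G, SigMax y (g ⋆ H) := by
  obtain ⟨g, hg⟩ := sigma_Jsub hH h.zpowers
  exact ⟨g⁻¹, A10.coatom_conj hH _, by rw [Ms_conj]; exact zpowers_le.1 (conj_le_iff.1 hg)⟩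

omit [Sz G] in
theorem sigMax_elt {M : Subgroup G} {x : G} (h : SigMax x M) : PiElt (sigma M) x := (Ms_pi M).elt h.2

/-- A subgroup `K` of `M` of order prime to `σ(M)` is the set of `σ(M)'`-elements of `K C_{M_σ}(K)`. -/
theorem Kstar_hall {M K : Subgroup G} (hK : Hall (kappa M) K M) :
    Hall (sigma M)ᶜ K (K ⊔ (sigmaCore M ⊓ 𝐂(K))) ∧
      Hall (sigma M) (sigmaCore M ⊓ 𝐂(K)) (K ⊔ (sigmaCore M ⊓ 𝐂(K))) := by
  have := Hall.of_sd (dp_Kstar hK).symm.sd ((Ms_pi M).of_le inf_le_left) (kappa_hall_sigma' hK)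
  exact ⟨this.2, this.1⟩

/-- If a non-trivial element of `M_σ` centralizes a subgroup of order `p ∈ κ(M)`, it lies in some `K*`. -/
theorem cent_le_of_Kstar {M K : Subgroup G} {x : G} (hP : TypeP M) (hK : Hall (kappa M) K M)
    (hx : x ∈ sigmaCore M ⊓ 𝐂(K)) (hx1 : x ≠ 1) : 𝐂[x] ≤ M := by
  obtain ⟨X, hX, hp⟩ := exists_prime_le (zpowers_ne_bot.2 hx1)
  rw [← cent_zpowers]
  exact (cent_anti hX).trans ((Ptype_structure_c hP hK).2 X (hX.trans (zpowers_le.2 hx)) hp).le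

/-- An element of `M` of order divisible by a prime outside `σ(M) ∪ τ₂(M)` and centralizing `x ∈ M_σ#`:
its `σ(M)'`-part lies in some `K`, and `x` lies in the corresponding `K*`. -/
theorem exists_kappa_of_cent {M : Subgroup G} {x y : G} (hM : Mx M) (hx : x ∈ sigmaCore M) (hx1 : x ≠ 1)
    (hy : y ∈ M ⊓ 𝐂[x]) (hs : PiElt (sigma M)ᶜ y) (h2 : ¬ PiElt (tau2 M) y) :
    TypeP M ∧ ∃ K : Subgroup G, Hall (kappa M) K M ∧ y ∈ K ∧ x ∈ sigmaCore M ⊓ 𝐂(K) := by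
  obtain ⟨p, hp, hd, ht⟩ : ∃ p : ℕ, p.Prime ∧ p ∣ orderOf y ∧ p ∉ tau2 M := by
    by_contra! h; exact h2 h
  haveI := Fact.mk hp
  have hyM : zpowers y ≤ M := zpowers_le.2 hy.1
  obtain ⟨X, hX, hc⟩ := exists_card_eq_prime (A := zpowers y) hp (by rwa [Nat.card_zpowers])
  have h13 : p ∈ tau1 M ∨ p ∈ tau3 M := by
    have := (partition_pi_mmax hM).1 (hc ▸ card_dvd (hX.trans hyM))
    have := hs p hp hd
    tauto
  have hxX : x ∈ sigmaCore M ⊓ 𝐂(X) := ⟨hx, cent_anti hX (by rw [cent_zpowers]; exact mem_cent1_symm hy.2)⟩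
  have hk : p ∈ kappa M := (mem_kappa_iff hM).2 ⟨h13, X, elem1_mk (hX.trans hyM) hc, ne_bot_of_mem hxX hx1⟩
  obtain ⟨K, hK, hXK⟩ := Hall.exists_ge (mmax_sol hM) (hX.trans hyM) (pigrp_of_card hc hk)
  have hP : TypeP M := ⟨hM, p, hk⟩
  refine ⟨hP, K, hK, (Kstar_hall hK).1.mem_of_normal (dp_Kstar hK).nml_left.norm ?_ hs, ?_⟩
  · rw [← norm_kappa_prime hP hK hXK (hc ▸ hp)]
    exact ⟨hy.1, abelian_norm (inferInstance : IsMulCommutative (zpowers y)) hX (mem_zpowers y)⟩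
  · rwa [← (Ptype_structure_a hP hK).1.cent hXK (ne_bot_of_card hc)]

/-- The primes of `τ₂(M)` all lie in `σ(H)` for one maximal subgroup `H`. -/
theorem exists_tau2_sub_sigma {M : Subgroup G} {p : ℕ} (hM : Mx M) (hp : p ∈ tau2 M) :
    ∃ H : Subgroup G, Mx H ∧ tau2 M ⊆ sigma H := by
  haveI := Fact.mk hp.1
  obtain ⟨E, hE, -⟩ := ex_sigma_compl hM bot_le PiGrp.bot
  obtain ⟨A, hA⟩ := ex_tau2Elem hM hE hp
  obtain ⟨H, hH, hN⟩ := exists_mmax (norm_proper (elem_ne_bot hA) hM (hA.le.trans hE.le))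
  exact ⟨H, hH, fun q hq => ((primes_norm_tau2Elem hM hE hp hA hH hN).1 q hq).1⟩

/-- B&G Corollary 14.3. -/
theorem _root_.Cfsg.Lib.BG.Z.pi_of_cent_sigma {M : Subgroup G} {x x' : G} (hM : Mx M) (hx : x ∈ sigmaCore M)
    (hx1 : x ≠ 1) (hx' : x' ∈ M ⊓ 𝐂[x]) (hx'1 : x' ≠ 1) (hs : PiElt (sigma M)ᶜ x') :
    (PiElt (kappa M) x' ∧ 𝐂[x] ≤ M) ∨ (PiElt (tau2 M) x' ∧ Ell1 x' ∧ UniqMax 𝐂[x'] M) := by
  by_cases h2 : PiElt (tau2 M) x'
  · refine .inr ⟨h2, ⟨hx'1, ?_⟩,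
      cent1_nreg_sigma_uniq hM hx'.1 hx'1 h2 (ne_bot_of_mem ⟨hx, mem_cent1_symm hx'.2⟩ hx1)⟩
    obtain ⟨p, hp, hd⟩ := Nat.exists_prime_and_dvd (mt orderOf_eq_one_iff.1 hx'1)
    obtain ⟨H, hH, hsub⟩ := exists_tau2_sub_sigma hM (h2 p hp hd)
    obtain ⟨g, hg⟩ := sigMax_of_elt hH (h2.mono hsub)
    exact ⟨_, hg⟩
  · obtain ⟨hP, K, hK, h1, h3⟩ := exists_kappa_of_cent hM hx hx1 hx' hs h2
    exact .inl ⟨hK.pi.elt h1, cent_le_of_Kstar hP hK h3 hx1⟩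

end Cfsg.Lib.BG.Z.S14
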