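import Cfsg.Agent.Lib.ZB.T14_4

set_option autoImplicit false
set_option linter.unusedVariables false

namespace Cfsg.Lib.BG.Z.S14

open Subgroup
open scoped Cfsg.Lib.Transfer

variable {G : Type*} [Group G] [Finite G] [Sz G]

theorem sigMany_of_mem {x r : G} (hr : r ∈ sigR x) (h1 : r ≠ 1) : SigMany x := by
  by_contra h; rw [sigR_bot h] at hr; exact h1 (mem_bot.1 hr)

theorem sigR_elt {x r : G} {M : Subgroup G} (hx : x ≠ 1) (hM : SigMax x M) (hr : r ∈ sigR x) :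
    PiElt (sigma M)ᶜ r := by
  by_cases h1 : r = 1
  · exact h1 ▸ PiElt.one
  · obtain ⟨h, -, -, -, h5, -⟩ := sigBase_spec hx (sigMany_of_mem hr h1)
    exact ((sigR_pi x).elt hr).mono fun q hq hq' => sigma_partition hM.1 h.max (h5 M hM).1 q hq' hq

omit [Finite G] [Sz G] in
theorem sigR_comm {x r : G} (hr : r ∈ sigR x) : x * r = r * x := (mem_cent1.1 (sigR_le_cent x hr)).symm

/-- The `σ`-decomposition of an element `x r`, `r ∈ R(x)`. -/
theorem decomp_cases {x r y s : G} {M : Subgroup G} (hx : Ell1 x) (hr : r ∈ sigR x) (hM : Mx M) (hy1 : y ≠ 1)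
    (hy : PiElt (sigma M) y) (hs : PiElt (sigma M)ᶜ s) (hc : y * s = s * y) (e : x * r = y * s) :
    (y = x ∧ s = r) ∨ (y = r ∧ s = x) := by
  obtain ⟨hx1, L, hL⟩ := hx
  by_cases hj : Cj M L
  · exact .inl (pi_decomp_unique hy hs hc (sigma_cj hj ▸ sigMax_elt hL)
      (sigma_cj hj ▸ sigR_elt hx1 hL hr) (sigR_comm hr) e.symm)
  have hx' : PiElt (sigma M)ᶜ x := (sigMax_elt hL).mono fun q hq hq' => sigma_partition hM hL.1 hj q hq' hq
  obtain ⟨p, hp, hd⟩ := exists_prime_order hy1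
  have hps := hy p hp hd
  have hd' : p ∣ orderOf r := by
    have h1 := hd.trans (orderOf_dvd_of_mem_zpowers (pi_decomp_mem hy hs hc).1)
    rw [← e] at h1
    exact ((Nat.Prime.dvd_mul hp).1 (h1.trans (Commute.orderOf_mul_dvd_mul_orderOf (sigR_comm hr)))).resolve_left
      (PiNat.not_dvd hx' hp hps)
  have hr1 : r ≠ 1 := by rintro rfl; rw [orderOf_one] at hd'; exact hp.not_dvd_one hd'
  have hN := (sigBase_spec hx1 (sigMany_of_mem hr hr1)).1
  have hr' : PiElt (sigma M) r :=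
    sigma_cj (cj_of_sigma hM hN.max hps ((sigR_pi x).elt hr p hp hd')) ▸ (sigR_pi x).elt hr
  exact .inr (pi_decomp_unique hy hs hc hr' hx' (sigR_comm hr).symm (e.symm.trans (sigR_comm hr)))

/-- B&G Lemma 14.5(a). -/
theorem _root_.Cfsg.Lib.BG.Z.sigma_cover_disjoint {x y : G} (hx : Ell1 x) (hy : Ell1 y) (hxy : x ≠ y) :
    ∀ r ∈ sigR x, ∀ s ∈ sigR y, x * r ≠ y * s := by
  intro r hr s hs e
  obtain ⟨hy1, L, hL⟩ := hy
  obtain ⟨rfl, rfl⟩ := (decomp_cases hx hr hL.1 hy1 (sigMax_elt hL) (sigR_elt hy1 hL hs) (sigR_comm hs) e).resolve_left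
    fun h => hxy h.1.symm
  have hNy := (sigBase_spec hy1 (sigMany_of_mem hs hx.1)).1
  have h2 := (FT_signalizer_context_mmax hx.1 (sigMany_of_mem hr hy1) ⟨hNy.max, sigR_le_Ms y hs⟩).2.1
  exact ne_bot_of_mem (A := sigmaCore (sigBase s) ⊓ (sigBase y ⊓ sigBase s))
    ⟨sigR_le_Ms s hr, hNy.le (self_mem_cent1 y), Ms_le _ (sigR_le_Ms s hr)⟩ hy1 h2.inf

theorem mem_clsupp_cover {M : Subgroup G} (hM : Mx M) {z : G} :
    z ∈ clsupp (sigCover M) ⊤ ↔ ∃ x : G, (x ≠ 1 ∧ ∃ g : G, x ∈ g ⋆ sigmaCore M) ∧ ∃ r ∈ sigR x, z = x * r := by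
  constructor
  · rintro ⟨g, -, _, ⟨x, hx, hx1, r, hr, rfl⟩, rfl⟩
    refine ⟨g * x * g⁻¹, ⟨conj_ne_one hx1 g, g, conj_mem_conj.2 hx⟩, g * r * g⁻¹, ?_, by group⟩
    rw [sigR_conj ⟨hx1, M, hM, hx⟩]; exact conj_mem_conj.2 hr
  · rintro ⟨x, ⟨hx1, g, hx⟩, r, hr, rfl⟩
    refine ⟨g, mem_top g, g⁻¹ * (x * r) * g, ⟨g⁻¹ * x * g, mem_conj.1 hx, conj_ne_one' hx1 g, g⁻¹ * r * g, ?_,
      by group⟩, by group⟩
    have := sigR_conj ⟨hx1, g ⋆ M, A10.coatom_conj hM g, by rwa [Ms_conj]⟩ g⁻¹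
    rw [inv_inv] at this
    rw [this, mem_conj]; simpa [mul_assoc] using hr

omit [Sz G] in
theorem sigMax_of_mem_conj {M : Subgroup G} (hM : Mx M) {x g : G} (h : x ∈ g ⋆ sigmaCore M) :
    SigMax x (g ⋆ M) := ⟨A10.coatom_conj hM g, by rwa [Ms_conj]⟩

/-- B&G Lemma 14.5(b). -/
theorem _root_.Cfsg.Lib.BG.Z.sigma_support_disjoint {M₁ M₂ : Subgroup G} (h₁ : Mx M₁) (h₂ : Mx M₂)
    (hnc : ¬ Cj M₁ M₂) : Disjoint (clsupp (sigCover M₁) ⊤) (clsupp (sigCover M₂) ⊤) := by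
  rw [Set.disjoint_left]
  intro z hz₁ hz₂
  obtain ⟨x, ⟨hx1, a, ha⟩, r, hr, rfl⟩ := (mem_clsupp_cover h₁).1 hz₁
  obtain ⟨y, ⟨hy1, b, hb⟩, s, hs, e⟩ := (mem_clsupp_cover h₂).1 hz₂
  have hx := sigMax_of_mem_conj h₁ ha
  have hy := sigMax_of_mem_conj h₂ hb
  by_cases hxy : x = y
  · subst hxy
    exact hnc ((Cj.conj_left_iff a).1 ((Cj.conj_right_iff b).1 (sigMax_cj hx1 hx hy)))
  · exact sigma_cover_disjoint ⟨hx1, _, hx⟩ ⟨hy1, _, hy⟩ hxy r hr s hs e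

theorem card_conj_containing {M : Subgroup G} (hM : Mx M) {x a : G} (hx1 : x ≠ 1) (ha : x ∈ a ⋆ sigmaCore M) :
    Nat.card {g : G // x ∈ g ⋆ sigmaCore M} = Nat.card (sigR x) * Nat.card M := by
  have hx := sigMax_of_mem_conj hM ha
  have ht := (FT_signalizer_trans ⟨hx1, _, hx⟩).1
  rw [← Nat.card_prod]
  refine (Nat.card_congr (Equiv.ofBijective (fun z : sigR x × M => (⟨z.1 * a * z.2, ?_⟩ :
    {g : G // x ∈ g ⋆ sigmaCore M})) ⟨?_, ?_⟩)).symm
  · rw [← conj_conj, (Ms_nml M).conj_eq z.2.2, ← conj_conj, ← Ms_conj, ← Ms_conj]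
    exact (sigMax_conj_cent hx (sigR_le_cent x z.1.2)).2
  · rintro ⟨⟨r, hr⟩, ⟨m, hm⟩⟩ ⟨⟨s, hs⟩, ⟨n, hn⟩⟩ e
    have e' : r * a * m = s * a * n := congrArg Subtype.val e
    have h1 : r ⋆ (a ⋆ M) = s ⋆ (a ⋆ M) := by
      conv_lhs => rw [← conj_eq_of_mem hm]
      conv_rhs => rw [← conj_eq_of_mem hn]
      simp only [conj_conj, ← mul_assoc, e']
    obtain rfl : r = s := (ht _ _ hx (sigMax_conj_cent hx (sigR_le_cent x hr))).unique ⟨hr, rfl⟩ ⟨hs, h1⟩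
    obtain rfl : m = n := mul_left_cancel e'
    rfl
  · rintro ⟨g, hg⟩
    obtain ⟨r, ⟨hr, e⟩, -⟩ := ht _ _ hx (sigMax_of_mem_conj hM hg)
    refine ⟨⟨⟨r, hr⟩, ⟨(r * a)⁻¹ * g, mem_of_conj_eq hM ?_⟩⟩, Subtype.ext (mul_inv_cancel_left _ _)⟩
    rw [← conj_conj, e, conj_conj r, inv_conj]

omit [Sz G] in
theorem card_filter_ne_one [Fintype G] (H : Subgroup G) (P : G → Prop) [DecidablePred P] (h : ∀ x, P x ↔ x ≠ 1 ∧ x ∈ H) :
    (Finset.univ.filter P).card = Nat.card H - 1 := by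
  classical
  have : Finset.univ.filter P = (Finset.univ.filter (· ∈ H)).erase 1 := by ext x; simp [h]
  rw [this, Finset.card_erase_of_mem (by simp), Nat.card_eq_fintype_card, Fintype.card_subtype]

/-- B&G Lemma 14.5(c). -/
theorem _root_.Cfsg.Lib.BG.Z.card_class_support_sigma {M : Subgroup G} (hM : Mx M) :
    Set.ncard (clsupp (sigCover M) ⊤) = (Nat.card (sigmaCore M) - 1) * M.index := by
  classical
  haveI := Fintype.ofFinite G
  set X : Finset G := Finset.univ.filter fun x => x ≠ 1 ∧ ∃ g : G, x ∈ g ⋆ sigmaCore M with hX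
  have h1 : Set.ncard (clsupp (sigCover M) ⊤) = ∑ x ∈ X, Nat.card (sigR x) := by
    have : clsupp (sigCover M) ⊤ =
        ↑(X.biUnion fun x => (Finset.univ.filter (· ∈ sigR x)).image fun r => x * r) := by
      ext z; rw [mem_clsupp_cover hM]
      simp only [hX, Finset.coe_biUnion, Finset.coe_filter, Finset.mem_univ, true_and, Set.mem_ofPred_eq,
        Set.mem_iUnion, Finset.coe_image, Set.mem_image, exists_prop, eq_comm]
    rw [this, Set.ncard_coe_finset, Finset.card_biUnion]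
    · refine Finset.sum_congr rfl fun x _ => ?_
      rw [Finset.card_image_of_injective _ (mul_right_injective x), Nat.card_eq_fintype_card, Fintype.card_subtype]
    · intro x hx y hy hxy
      simp only [hX, Finset.coe_filter, Finset.mem_univ, true_and, Set.mem_ofPred_eq] at hx hy
      obtain ⟨hx1, a, ha⟩ := hx
      obtain ⟨hy1, b, hb⟩ := hy
      simp only [Function.onFun, Finset.disjoint_left, Finset.mem_image, Finset.mem_filter, Finset.mem_univ, true_and]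
      rintro _ ⟨r, hr, rfl⟩ ⟨s, hs, e⟩
      exact sigma_cover_disjoint ⟨hx1, _, sigMax_of_mem_conj hM ha⟩ ⟨hy1, _, sigMax_of_mem_conj hM hb⟩ hxy r hr s hs
        e.symm
  have h2 : (∑ x ∈ X, Nat.card (sigR x)) * Nat.card M = Nat.card G * (Nat.card (sigmaCore M) - 1) := by
    rw [Finset.sum_mul]
    calc _ = ∑ x ∈ X, (Finset.univ.filter fun g : G => x ∈ g ⋆ sigmaCore M).card := by
          refine Finset.sum_congr rfl fun x hx => ?_
          simp only [hX, Finset.mem_filter, Finset.mem_univ, true_and] at hx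
          obtain ⟨hx1, a, ha⟩ := hx
          rw [← card_conj_containing hM hx1 ha, Nat.card_eq_fintype_card, Fintype.card_subtype]
      _ = ∑ g : G, (X.filter fun x => x ∈ g ⋆ sigmaCore M).card := by
          simp only [Finset.card_filter]; exact Finset.sum_comm
      _ = ∑ _g : G, (Nat.card (sigmaCore M) - 1) := by
          refine Finset.sum_congr rfl fun g _ => ?_
          rw [hX, Finset.filter_filter, card_filter_ne_one (g ⋆ sigmaCore M) _
            fun x => ⟨fun h => ⟨h.1.1, h.2⟩, fun h => ⟨⟨h.1, g, h.2⟩, h.2⟩⟩, card_conj]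
      _ = _ := by simp
  refine Nat.eq_of_mul_eq_mul_right (Nat.card_pos (α := M)) ?_
  rw [h1, h2, mul_assoc, index_mul_card, mul_comm]

theorem tildeOf_eq {M : Subgroup G} (hM : Mx M) :
    tildeOf M ((sigmaCore M : Set G) \ {1}) = clsupp (sigCover M) ⊤ := by
  ext z
  constructor
  · rintro ⟨a, ha, r, hr, y, rfl⟩
    exact ⟨y, mem_top y, _, ⟨a, ha.1, ha.2, r, supportR_eq_sigR ha.2 ⟨hM, ha.1⟩ ▸ hr, rfl⟩, rfl⟩
  · rintro ⟨y, -, _, ⟨a, ha, ha1, r, hr, rfl⟩, rfl⟩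
    exact ⟨a, ⟨ha, ha1⟩, r, (supportR_eq_sigR ha1 ⟨hM, ha⟩).symm ▸ hr, y, rfl⟩

end Cfsg.Lib.BG.Z.S14
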