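import Cfsg.Agent.Lib.ZB.T14_7Aux

set_option autoImplicit false
set_option linter.unusedVariables false

namespace Cfsg.Lib.BG.Z.S14

open Subgroup
open scoped Cfsg.Lib.Transfer

variable {G : Type*} [Group G] [Finite G] [Sz G]

/-- A pair of partner subgroups of type `P`. -/
structure Dual (M K Ms Ks : Subgroup G) : Prop where
  P : TypeP M
  hall : Hall (kappa M) K M
  Ps : TypeP Ms
  halls : Hall (kappa Ms) Ks Ms
  eq : sigmaCore M ⊓ 𝐂(K) = Ks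
  eqs : sigmaCore Ms ⊓ 𝐂(Ks) = K

theorem exists_dual {M K : Subgroup G} (hP : TypeP M) (hK : Hall (kappa M) K M) :
    ∃ Ms : Subgroup G, Dual M K Ms (sigmaCore M ⊓ 𝐂(K)) :=
  (exists_star hP hK).imp fun _ h => ⟨hP, hK, h.1, h.2.1, rfl, h.2.2.1⟩

/-- The hypotheses of the statements on the partner subgroup. -/
theorem dual_of_decomp {M K U Ms : Subgroup G} (hM : Mx M) (hKU : IsSigmaDecomposition M K U) (hK1 : K ≠ ⊥)
    (hMs : Mx Ms) (h1 : K = sigmaCore Ms ⊓ centralizer (sigmaCore M ⊓ centralizer (K : Set G) : Set G))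
    (h2 : IsPiHallOf (kappa Ms) (sigmaCore M ⊓ 𝐂(K)) Ms) : Dual M K Ms (sigmaCore M ⊓ 𝐂(K)) :=
  have hP := (nontriv_kappa hM hKU.hall).1 hK1
  ⟨hP, hKU.hall, (nontriv_kappa hMs h2).1 (Ptype_structure_c hP hKU.hall).1, h2, rfl, h1.symm⟩

theorem kappa_Zgroup {M H : Subgroup G} (hM : Mx M) (hH : H ≤ M) (hk : PiGrp (kappa M) H) : IsZGroup H := by
  refine ⟨fun p hp P => ?_⟩
  haveI := Fact.mk hp
  have hP := Syl.of_sylow P
  refine ((P : Subgroup H).equivMapOfInjective H.subtype H.subtype_injective).isCyclic.2 ?_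
  by_cases hd : p ∣ Nat.card H
  · exact tau13_cyclic (kappa_tau13 hM (hk.mem hp hd)) hP.pgroup (hP.le.trans hH)
  · rw [hP.eq_bot_iff'.2 hd]; infer_instance

namespace Dual
variable {M K Ms Ks : Subgroup G}

omit [Finite G] [Sz G] in
theorem symm (h : Dual M K Ms Ks) : Dual Ms Ks M K := ⟨h.Ps, h.halls, h.P, h.hall, h.eqs, h.eq⟩
omit [Finite G] [Sz G] in
theorem le_Ms (h : Dual M K Ms Ks) : K ≤ sigmaCore Ms := h.eqs ▸ inf_le_left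
theorem ne_bot (h : Dual M K Ms Ks) : K ≠ ⊥ := (nontriv_kappa h.P.1 h.hall).2 h.P
theorem dp (h : Dual M K Ms Ks) : DP K Ks (K ⊔ Ks) := h.eq ▸ dp_Kstar h.hall
theorem uniq (h : Dual M K Ms Ks) {X : Subgroup G} (hX : X ≤ K) (hp : (Nat.card X).Prime) : UniqMax 𝐂(X) Ms :=
  (Ptype_structure_c h.Ps h.halls).2 X (h.eqs ▸ hX) hp
theorem cent1_le (h : Dual M K Ms Ks) {x : G} (hx : x ∈ K) (hx1 : x ≠ 1) : 𝐂[x] ≤ Ms :=
  cent_le_of_Kstar h.Ps h.halls (h.eqs ▸ hx) hx1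
theorem not_cj (h : Dual M K Ms Ks) : ¬ Cj M Ms := fun hj =>
  h.ne_bot ((sigma_cj hj ▸ (Ms_pi Ms).of_le h.le_Ms : PiGrp (sigma M) K).eq_bot (kappa_hall_sigma' h.hall))
theorem unique {Ms' Ks' : Subgroup G} (h : Dual M K Ms Ks) (h' : Dual M K Ms' Ks') : Ms' = Ms := by
  obtain ⟨X, hX, hp⟩ := exists_prime_le h.ne_bot
  exact uniqMax_eq (h.uniq hX hp) (h'.uniq hX hp)
theorem P2 (h : Dual M K Ms Ks) : TypeP2 M ∨ TypeP2 Ms := by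
  obtain ⟨Ms', h1, h2, h3, h4⟩ := exists_star h.P h.hall
  rwa [h.unique ⟨h.P, h.hall, h1, h2, rfl, h3⟩] at h4
theorem coprime (h : Dual M K Ms Ks) : (Nat.card K).Coprime (Nat.card Ks) :=
  (((Ms_pi M).of_le h.symm.le_Ms).coprime (kappa_hall_sigma' h.hall)).symm

theorem Ms_inf (h : Dual M K Ms Ks) : sigmaCore M ⊓ Ms = Ks := by
  refine le_antisymm (h.eq ▸ le_inf inf_le_left (comm_eq_bot_iff.1 (eq_bot_mono
    ((Ms_pi M).inf_eq_bot' (Ms_pi Ms) (sigma_partition h.P.1 h.Ps.1 h.not_cj)) (le_inf ?_ ?_))))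
    (le_inf h.symm.le_Ms h.halls.le)
  · exact (commutator_mono inf_le_left le_rfl).trans ((Ms_nml M).comm_le h.hall.le)
  · exact (commutator_mono le_rfl h.le_Ms).trans ((Ms_nml Ms).comm_le' inf_le_right)

theorem hall_sigma (h : Dual M K Ms Ks) : Hall (sigma M) Ks Ms := by
  obtain ⟨Y, hY, hle⟩ := Hall.exists_ge (mmax_sol h.Ps.1) h.halls.le ((Ms_pi M).of_le h.symm.le_Ms)
  have := Ptype_structure_f h.P h.hall hY.pi (by rw [h.eq, inf_eq_right.2 hle]; exact h.symm.ne_bot)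
  rwa [le_antisymm (h.Ms_inf ▸ le_inf this hY.le : Y ≤ Ks) hle] at hY

theorem sup_le_left (h : Dual M K Ms Ks) : K ⊔ Ks ≤ M := sup_le h.hall.le (h.symm.le_Ms.trans (Ms_le M))

theorem inf_eq (h : Dual M K Ms Ks) : M ⊓ Ms = K ⊔ Ks := by
  refine le_antisymm ?_ (le_inf h.sup_le_left (sup_comm K Ks ▸ h.symm.sup_le_left))
  rw [← h.eq, ← norm_kappa h.P h.hall]
  refine le_inf inf_le_left ?_
  conv_rhs => rw [← h.symm.Ms_inf]
  exact norm_inf (Ms_norm inf_le_right) (le_norm_of_le inf_le_left)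

theorem cyclic (h : Dual M K Ms Ks) : IsCyclic ↥(K ⊔ Ks) := by
  have key : ∀ {M K Ms Ks : Subgroup G}, Dual M K Ms Ks → TypeP2 M → IsCyclic K ∧ IsCyclic Ks := by
    intro M K Ms Ks h h2
    obtain ⟨-, hp, hn, -⟩ := Ptype_structure_g h2 h.hall
    haveI := kappa_Zgroup h.Ps.1 h.halls.le h.halls.pi
    haveI := nil_of_le hn h.symm.le_Ms
    exact ⟨cyclic_of_prime hp, inferInstance⟩
  have : IsCyclic K ∧ IsCyclic Ks := h.P2.elim (key h) fun h2 => (key h.symm h2).symm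
  exact cyclic_sup_of_coprime this.1 this.2 h.dp.cent h.coprime

theorem cent1 (h : Dual M K Ms Ks) {x : G} (hx : x ∈ K) (hx1 : x ≠ 1) : M ⊓ 𝐂[x] = K ⊔ Ks :=
  le_antisymm (h.inf_eq ▸ inf_le_inf_left _ (h.cent1_le hx hx1))
    (le_inf h.sup_le_left (le_cent1_iff.2 (abelian_cent (abelian_of_cyclic h.cyclic) (mem_sup_left hx))))

theorem cent1_mul (h : Dual M K Ms Ks) {x y : G} (hx : x ∈ K) (hx1 : x ≠ 1) (hy : y ∈ Ks) (hy1 : y ≠ 1) :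
    𝐂[x * y] = K ⊔ Ks := by
  refine le_antisymm ?_ (le_cent1_iff.2 (abelian_cent (abelian_of_cyclic h.cyclic)
    (mul_mem (mem_sup_left hx) (mem_sup_right hy))))
  have hc := le_cent_iff.1 h.dp.cent x hx y hy
  obtain ⟨m1, m2⟩ := pi_decomp_mem ((Ms_pi M).elt (h.symm.le_Ms hy)) ((kappa_hall_sigma' h.hall).elt hx) hc.symm
  rw [← h.inf_eq, hc, ← cent_zpowers]
  exact le_inf ((cent_le_cent1 m1).trans (h.symm.cent1_le hy hy1)) ((cent_le_cent1 m2).trans (h.cent1_le hx hx1))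

theorem der_eq (h : Dual M K Ms Ks) {U : Subgroup G} (hU : KappaCompl M U K) : ⁅M, M⁆ = sigmaCore M ⊔ U := by
  have hM := h.P.1
  obtain ⟨-, -, hsd, ⟨-, hreg⟩, -⟩ := kappa_compl_context hM hU
  refine le_antisymm ((kappaCompl_sd hM hU).1.der_le.trans ?_) (sup_le (Msigma_der1 hM) ?_)
  · rw [abelian_iff_der.1 (abelian_of_cyclic (cyclic_of_le h.cyclic le_sup_left)), sup_bot_eq]
  · exact coprime_comm_eq_of_cent_bot hsd.norm (regular_norm_coprime hsd.norm hreg).symm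
      (.inl (sub_sol hM h.hall.le)) (hreg.cent le_rfl h.ne_bot) ▸ comm_le_der hU.hallU.le h.hall.le

theorem der_sd (h : Dual M K Ms Ks) : SD ⁅M, M⁆ K M ∧ Hall (kappa M)ᶜ ⁅M, M⁆ M := by
  obtain ⟨U, hU⟩ := ex_kappa_compl h.P.1 h.hall
  rw [h.der_eq hU]; exact kappaCompl_sd h.P.1 hU

theorem kappa_eq (h : Dual M K Ms Ks) : kappa M = tau1 M := by
  obtain ⟨h1, h2⟩ := h.der_sd
  ext p
  refine ⟨fun hp => (kappa_tau13 h.P.1 hp).resolve_right fun h3 => h2.pi.mem hp.1 h3.2.2.1 hp, fun hp => ?_⟩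
  exact h.hall.pi.mem hp.1 (((Nat.Prime.dvd_mul hp.1).1 (h1.card ▸ hp.2.2.1)).resolve_left hp.2.2.2.1)

theorem zhat_norm (h : Dual M K Ms Ks) : ∀ a ∈ zhat K Ks, ∀ g : G, g * a * g⁻¹ ∈ zhat K Ks ↔ g ∈ K ⊔ Ks := by
  refine fun a ha g => ⟨fun h' => h.eq ▸ zhat_TI h.P h.hall (h.eq.symm ▸ ha) (h.eq.symm ▸ h'.1), fun h' => ?_⟩
  rwa [conj_eq_of_mem_cent1 (le_cent1_iff.2 (abelian_cent (abelian_of_cyclic h.cyclic) ha.1) h')]

theorem normedTI (h : Dual M K Ms Ks) : NormedTI (zhat K Ks) (K ⊔ Ks) := by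
  obtain ⟨a, ha, ha1⟩ := exists_ne_one h.ne_bot
  obtain ⟨b, hb, hb1⟩ := exists_ne_one h.symm.ne_bot
  exact ⟨⟨_, (mem_zhat h.dp).2 ⟨a, ha, ha1, b, hb, hb1, rfl⟩⟩, h.zhat_norm⟩

theorem zhat_not_mem (h : Dual M K Ms Ks) {g : G} (hg : g ∉ M) {z : G} (hz : z ∈ zhat K Ks) : z ∉ g ⋆ M := by
  obtain ⟨x, hx, -, y, hy, hy1, rfl⟩ := (mem_zhat h.dp).1 hz
  have hc := le_cent_iff.1 h.dp.cent x hx y hy
  obtain ⟨m1, -⟩ := pi_decomp_mem ((Ms_pi M).elt (h.symm.le_Ms hy)) ((kappa_hall_sigma' h.hall).elt hx) hc.symm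
  exact fun h' => ne_bot_of_mem (A := sigmaCore M ⊓ 𝐂(K) ⊓ g ⋆ M) ⟨h.eq.symm ▸ hy, zpowers_le.2 h' (hc ▸ m1)⟩ hy1
    ((Ptype_structure_d h.P h.hall).1 g hg)

theorem card_zhat (h : Dual M K Ms Ks) :
    (zhat K Ks).ncard + Nat.card K + Nat.card Ks = Nat.card K * Nat.card Ks + 1 := by
  have h1 := Set.ncard_union_add_ncard_inter (K : Set G) Ks
  have h2 := Set.ncard_sdiff_add_ncard_of_subset (s := (K : Set G) ∪ Ks) (t := ↑(K ⊔ Ks))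
    (Set.union_subset (SetLike.coe_subset_coe.2 le_sup_left) (SetLike.coe_subset_coe.2 le_sup_right))
  rw [← coe_inf, h.dp.inf] at h1
  simp only [← Nat.card_coe_set_eq, SetLike.coe_sort_coe, card_bot] at h1 h2
  rw [← h.dp.card] at h2
  rw [zhat, ← Nat.card_coe_set_eq]; omega

theorem card_clsupp (h : Dual M K Ms Ks) :
    Nat.card K * Nat.card Ks * (clsupp (zhat K Ks) ⊤).ncard = (zhat K Ks).ncard * Nat.card G := by
  rw [card_clsupp_TI h.zhat_norm, h.dp.card, ← (K ⊔ Ks).card_mul_index]; ring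

theorem three_le (h : Dual M K Ms Ks) : 3 ≤ Nat.card K := by
  obtain ⟨k, hk⟩ := (h.P.1.sub h.hall.le).odd
  have := card_ne_one h.ne_bot
  omega

theorem half_lt (h : Dual M K Ms Ks) : Nat.card G < 2 * (clsupp (zhat K Ks) ⊤).ncard := by
  have h1 := h.card_zhat
  have h2 : Nat.card K * Nat.card Ks < 2 * (zhat K Ks).ncard := by
    have a := h.three_le
    have b := h.symm.three_le
    have c : Nat.card K ≠ Nat.card Ks := fun e => by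
      have := h.coprime; rw [e, Nat.coprime_self] at this; omega
    obtain ⟨k, hk⟩ := (h.P.1.sub h.hall.le).odd
    obtain ⟨l, hl⟩ := (h.Ps.1.sub h.halls.le).odd
    obtain ⟨a', ha'⟩ := Nat.exists_eq_add_of_le a
    obtain ⟨b', hb'⟩ := Nat.exists_eq_add_of_le b
    have d : 2 ≤ a' + b' := by omega
    rw [ha', hb'] at h1 ⊢; nlinarith [Nat.zero_le (a' * b')]
  rw [card_clsupp_TI h.zhat_norm, ← mul_assoc, ← (K ⊔ Ks).card_mul_index, ← h.dp.card]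
  exact Nat.mul_lt_mul_of_pos_right h2 (Nat.pos_of_ne_zero index_ne_zero_of_finite)

theorem trans (h : Dual M K Ms Ks) {H : Subgroup G} (hH : TypeP H) : Cj M H ∨ Cj Ms H := by
  obtain ⟨L, hL⟩ := Hall.exists (π := kappa H) (mmax_sol hH.1)
  obtain ⟨Hs, h'⟩ := exists_dual hH hL
  have : ¬ Disjoint (clsupp (zhat K Ks) ⊤) (clsupp (zhat L (sigmaCore H ⊓ 𝐂(L))) ⊤) := fun hd => by
    have h1 := h.half_lt
    have h2 := h'.half_lt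
    have h3 := Set.ncard_le_card (clsupp (zhat K Ks) ⊤ ∪ clsupp (zhat L (sigmaCore H ⊓ 𝐂(L))) ⊤)
    rw [Set.ncard_union_eq hd] at h3
    omega
  obtain ⟨_, ⟨a, -, s, hs, rfl⟩, b, -, t, ht, e⟩ := Set.not_disjoint_iff.1 this
  obtain ⟨x, hx, -, y, hy, -, rfl⟩ := (mem_zhat h.dp).1 hs
  obtain ⟨u, hu, -, v, hv, hv1, rfl⟩ := (mem_zhat h'.dp).1 ht
  obtain ⟨p, hp, hd⟩ := exists_prime_order hv1
  have hc := le_cent_iff.1 h'.dp.cent u hu v hv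
  obtain ⟨m1, -⟩ := pi_decomp_mem ((Ms_pi H).elt hv.1) ((kappa_hall_sigma' hL).elt hu) hc.symm
  have h1 := hd.trans (orderOf_dvd_of_mem_zpowers m1)
  rw [← hc, ← orderOf_conj' b, ← e, orderOf_conj'] at h1
  have hps := (Ms_pi H).elt hv.1 p hp hd
  rcases (Nat.Prime.dvd_mul hp).1 (h1.trans (Commute.orderOf_mul_dvd_mul_orderOf
    (le_cent_iff.1 h.dp.cent x hx y hy))) with h2 | h2
  · exact .inr (cj_of_sigma h.Ps.1 hH.1 ((Ms_pi Ms).elt (h.le_Ms hx) p hp h2) hps)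
  · exact .inl (cj_of_sigma h.P.1 hH.1 ((Ms_pi M).elt (h.symm.le_Ms hy) p hp h2) hps)

end Dual

/-- B&G Theorem 14.7. -/
theorem _root_.Cfsg.Lib.BG.Z.Ptype_embedding {M K : Subgroup G} (hM : TypeP M) (hK : Hall (kappa M) K M) :
    ∃ Ms : Subgroup G, TypeP Ms ∧ ¬ Cj M Ms ∧
      (∀ X : Subgroup G, X ≤ K → (Nat.card X).Prime → UniqMax 𝐂(X) Ms) ∧
      (Hall (kappa Ms) (sigmaCore M ⊓ 𝐂(K)) Ms ∧ Hall (sigma M) (sigmaCore M ⊓ 𝐂(K)) Ms) ∧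
      (sigmaCore Ms ⊓ 𝐂(sigmaCore M ⊓ 𝐂(K)) = K ∧ kappa M = tau1 M) ∧
      (IsCyclic ↥(K ⊔ (sigmaCore M ⊓ 𝐂(K))) ∧ M ⊓ Ms = K ⊔ (sigmaCore M ⊓ 𝐂(K)) ∧
        (∀ x ∈ K, x ≠ 1 → M ⊓ 𝐂[x] = K ⊔ (sigmaCore M ⊓ 𝐂(K))) ∧
        (∀ y ∈ sigmaCore M ⊓ 𝐂(K), y ≠ 1 → Ms ⊓ 𝐂[y] = K ⊔ (sigmaCore M ⊓ 𝐂(K))) ∧
        ∀ x ∈ K, x ≠ 1 → ∀ y ∈ sigmaCore M ⊓ 𝐂(K), y ≠ 1 → 𝐂[x * y] = K ⊔ (sigmaCore M ⊓ 𝐂(K))) ∧
      (NormedTI (zhat K (sigmaCore M ⊓ 𝐂(K))) (K ⊔ (sigmaCore M ⊓ 𝐂(K))) ∧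
        (∀ g : G, g ∉ M → ∀ z ∈ zhat K (sigmaCore M ⊓ 𝐂(K)), z ∉ g ⋆ M) ∧
        Nat.card G < 2 * Set.ncard (clsupp (zhat K (sigmaCore M ⊓ 𝐂(K))) ⊤)) ∧
      ((TypeP2 M ∧ (Nat.card K).Prime) ∨ (TypeP2 Ms ∧ (Nat.card ↥(sigmaCore M ⊓ 𝐂(K))).Prime)) ∧
      (∀ H : Subgroup G, TypeP H → Cj M H ∨ Cj Ms H) ∧ SD ⁅M, M⁆ K M := by
  obtain ⟨Ms, h⟩ := exists_dual hM hK
  exact ⟨Ms, h.Ps, h.not_cj, fun _ => h.uniq, ⟨h.halls, h.hall_sigma⟩, ⟨h.eqs, h.kappa_eq⟩,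
    ⟨h.cyclic, h.inf_eq, fun _ => h.cent1, fun _ hy hy1 => (h.symm.cent1 hy hy1).trans (sup_comm _ _),
      fun _ hx hx1 _ => h.cent1_mul hx hx1⟩, ⟨h.normedTI, fun _ hg _ => h.zhat_not_mem hg, h.half_lt⟩,
    h.P2.imp (fun h2 => ⟨h2, (Ptype_structure_g h2 hK).2.1⟩) fun h2 => ⟨h2, (Ptype_structure_g h2 h.halls).2.1⟩,
    fun _ => h.trans, h.der_sd.1⟩

/-- B&G Corollary 14.8, first part. -/
theorem _root_.Cfsg.Lib.BG.Z.P1type_trans {M H : Subgroup G} (hM : TypeP1 M) (hH : TypeP1 H) : Cj M H := by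
  obtain ⟨K, hK⟩ := Hall.exists (π := kappa M) (mmax_sol hM.1.1)
  obtain ⟨Ms, h⟩ := exists_dual hM.1 hK
  refine (h.trans hH.1).resolve_right ?_
  rintro ⟨g, rfl⟩
  exact (typeP2_conj (h.P2.resolve_left fun h2 => h2.2 hM) g).2 hH

end Cfsg.Lib.BG.Z.S14
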