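import Cfsg.Agent.Lib.ZB.T14_6
import Cfsg.Agent.Lib.ZB.T12_2

/-! # The counting argument of B&G Theorem 14.7 -/

set_option autoImplicit false
set_option linter.unusedVariables false

namespace Cfsg.Lib.BG.Z.S14

open Subgroup
open scoped Cfsg.Lib.Transfer

variable {G : Type*} [Group G] [Finite G] [Sz G]

/-- `K* = C_{M_σ}(K)`. -/
local notation:max "𝐊(" M ", " K ")" => sigmaCore M ⊓ Subgroup.centralizer (SetLike.coe K)

omit [Sz G] in
/-- The number of conjugates of elements of a TI-set. -/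
theorem card_clsupp_TI {A : Set G} {L : Subgroup G} (h : ∀ a ∈ A, ∀ g : G, g * a * g⁻¹ ∈ A ↔ g ∈ L) :
    (clsupp A ⊤).ncard = A.ncard * L.index := by
  classical
  haveI := Fintype.ofFinite G
  have key : ∀ (S : Set G), S.ncard = (Finset.univ.filter (· ∈ S)).card := fun S => by
    rw [← Set.ncard_coe_finset]; simp
  refine Nat.eq_of_mul_eq_mul_right (Nat.card_pos (α := L)) ?_
  rw [mul_assoc, index_mul_card, key, key]
  calc _ = ∑ y ∈ Finset.univ.filter (· ∈ clsupp A ⊤), (Finset.univ.filter fun g : G => g⁻¹ * y * g ∈ A).card := by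
        rw [Finset.card_eq_sum_ones, Finset.sum_mul, one_mul]
        refine Finset.sum_congr rfl fun y hy => ?_
        obtain ⟨b, -, a, ha, rfl⟩ := (Finset.mem_filter.1 hy).2
        rw [Nat.card_eq_fintype_card, Fintype.card_subtype]
        refine Finset.card_bij (fun l _ => b * l) (fun l hl => ?_) (fun _ _ _ _ e => mul_left_cancel e)
          fun g hg => ⟨b⁻¹ * g, ?_, by simp⟩
        · simp only [Finset.mem_filter, Finset.mem_univ, true_and] at hl ⊢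
          have := (h a ha l⁻¹).2 (inv_mem hl)
          convert this using 1; group
        · simp only [Finset.mem_filter, Finset.mem_univ, true_and] at hg ⊢
          rw [← inv_mem_iff, ← h a ha]
          convert hg using 1; group
    _ = ∑ g : G, ((Finset.univ.filter (· ∈ clsupp A ⊤)).filter fun y => g⁻¹ * y * g ∈ A).card := by
        simp only [Finset.card_filter]; exact Finset.sum_comm
    _ = ∑ _g : G, (Finset.univ.filter (· ∈ A)).card := by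
        refine Finset.sum_congr rfl fun g _ => (Finset.card_bij (fun a _ => g * a * g⁻¹) (fun a ha => ?_)
          (fun _ _ _ _ e => by simpa using e) fun y hy => ⟨g⁻¹ * y * g, ?_, by group⟩).symm
        · simp only [Finset.mem_filter, Finset.mem_univ, true_and] at ha ⊢
          exact ⟨⟨g, mem_top g, a, ha, rfl⟩, by simpa [mul_assoc] using ha⟩
        · simp only [Finset.mem_filter, Finset.mem_univ, true_and] at hy ⊢
          exact hy.2
    _ = _ := by simp [mul_comm]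

omit [Finite G] [Sz G] in
theorem mem_zhat {A B : Subgroup G} (h : DP A B (A ⊔ B)) {t : G} :
    t ∈ zhat A B ↔ ∃ a ∈ A, a ≠ 1 ∧ ∃ b ∈ B, b ≠ 1 ∧ t = a * b := by
  constructor
  · rintro ⟨ht, hn⟩
    obtain ⟨a, ha, b, hb, rfl⟩ := h.mem ht
    refine ⟨a, ha, ?_, b, hb, ?_, rfl⟩
    · rintro rfl; exact hn (.inr (by simpa using hb))
    · rintro rfl; exact hn (.inl (by simpa using ha))
  · rintro ⟨a, ha, ha1, b, hb, hb1, rfl⟩
    refine ⟨mul_mem (mem_sup_left ha) (mem_sup_right hb), ?_⟩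
    rintro (h' | h')
    · exact ne_bot_of_mem (A := A ⊓ B) ⟨(Subgroup.mul_mem_cancel_left A ha).1 h', hb⟩ hb1 h.inf
    · exact ne_bot_of_mem (A := A ⊓ B) ⟨ha, (Subgroup.mul_mem_cancel_right B hb).1 h'⟩ ha1 h.inf

theorem zhat_TI {M K : Subgroup G} (hP : TypeP M) (hK : Hall (kappa M) K M) {t g : G} (ht : t ∈ zhat K 𝐊(M, K))
    (hg : g * t * g⁻¹ ∈ K ⊔ 𝐊(M, K)) : g ∈ K ⊔ 𝐊(M, K) := by
  have hd := dp_Kstar hK
  obtain ⟨a, ha, ha1, b, hb, hb1, rfl⟩ := (mem_zhat hd).1 ht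
  obtain ⟨h1, h2⟩ := Kstar_hall hK
  obtain ⟨m1, m2⟩ := pi_decomp_mem (h2.pi.elt hb) (h1.pi.elt ha) (le_cent_iff.1 hd.cent a ha b hb).symm
  rw [← le_cent_iff.1 hd.cent a ha b hb] at m1 m2
  have hz : g ⋆ zpowers (a * b) ≤ K ⊔ 𝐊(M, K) := by rw [conj_zpowers]; exact zpowers_le.2 hg
  have n1 := h2.mem_of_normal hd.nml_right.norm (hz (conj_mem_conj.2 m1)) ((h2.pi.elt hb).conj g)
  have n2 := h1.mem_of_normal hd.nml_left.norm (hz (conj_mem_conj.2 m2)) ((h1.pi.elt ha).conj g)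
  obtain ⟨d1, d2⟩ := Ptype_structure_d hP hK
  have hgM : g ∈ M := by_contra fun h => ne_bot_of_mem (A := 𝐊(M, K) ⊓ g ⋆ M)
    ⟨n1, conj_mem_conj.2 (Ms_le M hb.1)⟩ (conj_ne_one hb1 g) (d1 g h)
  rw [← norm_kappa hP hK]
  exact ⟨hgM, by_contra fun h => ne_bot_of_mem (A := K ⊓ g ⋆ K) ⟨n2, conj_mem_conj.2 ha⟩ (conj_ne_one ha1 g)
    (d2 g hgM h)⟩

omit [Finite G] [Sz G] in
theorem clsupp_conj {A : Set G} {t g : G} (h : g * t * g⁻¹ ∈ clsupp A ⊤) : t ∈ clsupp A ⊤ := by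
  obtain ⟨b, -, a, ha, e⟩ := h
  exact ⟨g⁻¹ * b, mem_top _, a, ha, by
    calc t = g⁻¹ * (g * t * g⁻¹) * g := by group
      _ = _ := by rw [e]; group⟩

theorem case1_of_mem_cover {N : Subgroup G} (hN : Mx N) {t : G} (h : t ∈ clsupp (sigCover N) ⊤) :
    ∃ x : G, Ell1 x ∧ x⁻¹ * t ∈ sigR x := by
  obtain ⟨x, ⟨hx1, g, hg⟩, r, hr, rfl⟩ := (mem_clsupp_cover hN).1 h
  exact ⟨x, ⟨hx1, _, sigMax_of_mem_conj hN hg⟩, by rwa [inv_mul_cancel_left]⟩

theorem one_not_mem_cover {N : Subgroup G} (hN : Mx N) : (1 : G) ∉ clsupp (sigCover N) ⊤ := fun h => by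
  obtain ⟨x, ⟨hx1, L, hL⟩, hr⟩ := case1_of_mem_cover hN h
  rw [mul_one, inv_mem_iff] at hr
  exact hx1 ((sigMax_elt hL).eq_one (sigR_elt hx1 hL hr))

theorem zhat_not_cover {M K N : Subgroup G} (hM : Mx M) (hK : Hall (kappa M) K M) (hN : Mx N) {t : G}
    (ht : t ∈ zhat K 𝐊(M, K)) : t ∉ clsupp (sigCover N) ⊤ := fun h => by
  have hd := dp_Kstar hK
  have ht1 : t ≠ 1 := by rintro rfl; exact ht.2 (.inl (one_mem K))
  obtain ⟨a, ha, ha1, b, hb, hb1, rfl⟩ := (mem_zhat hd).1 ht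
  have hc := le_cent_iff.1 hd.cent a ha b hb
  have e : b⁻¹ * (a * b) = a := by rw [hc, inv_mul_cancel_left]
  rcases sigma_decomposition_dichotomy ht1 (eltD_of_commute hb1 ((Msigma_D M).elt hb.1)
    (by rw [mul_assoc, ← mul_assoc b a b, ← hc, mul_assoc])) with h' | h'
  · exact h'.2 ⟨b, M, hb1, ⟨hM, hb.1⟩, by rw [e]; exact ⟨hK.le ha, mem_cent1.2 hc⟩, by rwa [e],
      by rw [e]; exact hK.pi.elt ha⟩
  · exact h'.2 (case1_of_mem_cover hN h)

theorem Pmax_half {M K X H : Subgroup G} (hP : TypeP M) (hK : Hall (kappa M) K M) (hX : X ≤ K)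
    (hp : (Nat.card X).Prime) (hH : Mx H) (hN : 𝐍(X) ≤ H) :
    ¬ Cj M H ∧ K ⊔ 𝐊(M, K) ≤ H ∧ X ≤ sigmaCore H ∧ PiGrp (kappa H) 𝐊(M, K) := by
  haveI := Fact.mk hp
  have hnc : ¬ Cj M H := mmax_norm_notJ hP.1 hH (pgroup_of_card rfl) (hX.trans hK.le) hN
    (.inr (kappa_tau13 hP.1 (hK.pi.mem hp (card_dvd hX))))
  have hZ : K ⊔ 𝐊(M, K) ≤ H := norm_kappa_prime hP hK hX hp ▸ inf_le_right.trans hN
  have hXs := (Ptype_structure_b hP hK hX hp).2.2 H hH hN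
  refine ⟨hnc, hZ, hXs, PiGrp.iff_elt.2 fun y hy => ?_⟩
  by_cases hy1 : y = 1
  · exact hy1 ▸ PiElt.one
  obtain ⟨x, hx, hx1⟩ := exists_ne_one (ne_bot_of_prime hp)
  refine ((pi_of_cent_sigma hH (hXs hx) hx1 ⟨hZ (mem_sup_right hy), cent_le_cent1 (hX hx) hy.2⟩ hy1
    (((Ms_pi M).elt hy.1).mono (sigma_partition hP.1 hH hnc))).resolve_right fun h => hnc (Cj.of_eq ?_)).1
  exact h.2.2.uniq M hP.1 (cent_le_of_Kstar hP hK hy hy1)

theorem norm_le_of_Kstar {M K X : Subgroup G} (hP : TypeP M) (hK : Hall (kappa M) K M) (hX : X ≤ 𝐊(M, K))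
    (hp : (Nat.card X).Prime) : 𝐍(X) ≤ M :=
  (A10.uniqMax_ge ((Ptype_structure_c hP hK).2 X hX hp) (cent_le_norm X)
    (norm_proper (ne_bot_of_prime hp) hP.1 (hX.trans (inf_le_left.trans (Ms_le M))))).le

theorem Pmax_sym {M K X H : Subgroup G} (hP : TypeP M) (hK : Hall (kappa M) K M) (hX : X ≤ K)
    (hp : (Nat.card X).Prime) (hH : Mx H) (hN : 𝐍(X) ≤ H) :
    TypeP H ∧ ∃ L : Subgroup G, Hall (kappa H) L H ∧ L ⊔ 𝐊(H, L) = K ⊔ 𝐊(M, K) := by
  obtain ⟨-, hZ, hXs, hk⟩ := Pmax_half hP hK hX hp hH hN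
  obtain ⟨Y, hY, hq⟩ := exists_prime_le (Ptype_structure_c hP hK).1
  have hPH : TypeP H := ⟨hH, _, hk.mem hq (card_dvd hY)⟩
  obtain ⟨L, hL, hKL⟩ := Hall.exists_ge (mmax_sol hH) (le_sup_right.trans hZ) hk
  have hYL := hY.trans hKL
  have hKY : K ≤ 𝐂(Y) := cent_symm (hY.trans inf_le_right)
  have hXL : X ≤ 𝐊(H, L) := (Ptype_structure_a hPH hL).1.cent hYL (ne_bot_of_prime hq) ▸ le_inf hXs (hX.trans hKY)
  obtain ⟨-, hZ', -, hk'⟩ := Pmax_half hPH hL hYL hq hP.1 (norm_le_of_Kstar hP hK hY hq)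
  obtain ⟨K', hK', hle⟩ := Hall.exists_ge (mmax_sol hP.1) (le_sup_right.trans hZ') hk'
  refine ⟨hPH, L, hL, le_antisymm ?_ (sup_le ?_ (hKL.trans le_sup_left))⟩
  · rw [← norm_kappa_prime hP hK hX hp]
    exact le_inf hZ' (sup_le (norm_of_cent (cent_symm (hXL.trans inf_le_right)))
      (hle.trans (kappa_prime_norm hP hK' (hXL.trans hle) hp)))
  · rw [← norm_kappa_prime hPH hL hYL hq]
    exact le_inf (le_sup_left.trans hZ) (norm_of_cent hKY)

section Family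
variable {Z : Subgroup G}

theorem fam_eq {H H' L L' : Subgroup G} (hP : TypeP H) (hL : Hall (kappa H) L H) (hP' : TypeP H')
    (hL' : Hall (kappa H') L' H') (h : 𝐊(H, L) ≤ 𝐊(H', L')) : H = H' := by
  obtain ⟨X, hX, hp⟩ := exists_prime_le (Ptype_structure_c hP hL).1
  exact uniqMax_eq ((Ptype_structure_c hP' hL').2 X (hX.trans h) hp) ((Ptype_structure_c hP hL).2 X hX hp)

theorem fam_not_cj {H H' L L' : Subgroup G} (hP : TypeP H) (hL : Hall (kappa H) L H) (hP' : TypeP H')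
    (hL' : Hall (kappa H') L' H') (e : L ⊔ 𝐊(H, L) = L' ⊔ 𝐊(H', L')) (hne : H ≠ H') : ¬ Cj H H' := fun h =>
  hne (fam_eq hP hL hP' hL' ((Kstar_hall hL').2.ge_of_normal (dp_Kstar hL').nml_right.norm (e ▸ le_sup_right)
    (sigma_cj h ▸ (Kstar_hall hL).2.pi)))

theorem count_P1 {H L : Subgroup G} (hP : TypeP1 H) (hL : Hall (kappa H) L H) (hne : L ⊔ 𝐊(H, L) ≠ H) :
    (2 * (Nat.card ↥𝐊(H, L) - 1) + 1) * (L ⊔ 𝐊(H, L)).index ≤ 2 * (clsupp (sigCover H) ⊤).ncard := by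
  have hH := hP.1.1
  have hZ : L ⊔ 𝐊(H, L) ≤ H := sup_le hL.le (inf_le_left.trans (Ms_le H))
  have hL' : Hall (sigma H)ᶜ L H := hL.congr fun q hq hd => ⟨kappa_sigma', hP.2 q hq hd⟩
  have h1 := (sdprod_sigma hH hL').card
  rw [← card_mul_relIndex hZ, ← (dp_Kstar hL).card, mul_comm, mul_assoc] at h1
  have h2 := Nat.eq_of_mul_eq_mul_left Nat.card_pos h1
  have h3 : 2 ≤ (L ⊔ 𝐊(H, L)).relIndex H := by
    have h0 : (L ⊔ 𝐊(H, L)).relIndex H ≠ 0 := by rintro h; rw [h, mul_zero] at h2; exact Nat.card_pos.ne' h2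
    have h1 : (L ⊔ 𝐊(H, L)).relIndex H ≠ 1 := fun h => hne (le_antisymm hZ (relIndex_eq_one.1 h))
    omega
  rw [card_class_support_sigma hH, h2, ← relIndex_mul_index hZ]
  obtain ⟨s, hs⟩ : ∃ s, Nat.card ↥𝐊(H, L) = s + 1 := ⟨_, (Nat.succ_pred_eq_of_pos Nat.card_pos).symm⟩
  obtain ⟨r, hr⟩ := Nat.exists_eq_add_of_le h3
  rw [hs, hr, ← mul_assoc, ← mul_assoc]
  refine Nat.mul_le_mul_right _ ?_
  have : (s + 1) * (2 + r) - 1 = s * (2 + r) + 1 + r := by rw [add_mul]; omega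
  rw [this, Nat.add_sub_cancel]; nlinarith

theorem family_count (F : Finset (Subgroup G)) (L : Subgroup G → Subgroup G)
    (hF : ∀ H ∈ F, TypeP H ∧ Hall (kappa H) (L H) H ∧ L H ⊔ 𝐊(H, L H) = Z) (h2 : 1 < F.card)
    (hcov : ∀ X : Subgroup G, X ≤ Z → (Nat.card X).Prime → ∃ H ∈ F, X ≤ sigmaCore H) : ∃ H ∈ F, TypeP2 H := by
  classical
  haveI := Fintype.ofFinite G
  by_contra! hno
  have hP1 : ∀ H ∈ F, TypeP1 H := fun H h => by_contra fun h' => hno H h ⟨(hF H h).1, h'⟩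
  set T : Set G := {t | t ∈ Z ∧ ∀ H ∈ F, t ∉ 𝐊(H, L H)} with hT
  have hTz : ∀ t ∈ T, ∃ H ∈ F, t ∈ zhat (L H) 𝐊(H, L H) := by
    intro t ht
    obtain ⟨H₀, h₀⟩ := Finset.card_pos.1 (zero_lt_one.trans h2)
    have ht1 : t ≠ 1 := by rintro rfl; exact ht.2 H₀ h₀ (one_mem _)
    obtain ⟨X, hX, hp⟩ := exists_prime_le (zpowers_ne_bot.2 ht1)
    obtain ⟨H, hH, hXH⟩ := hcov X (hX.trans (zpowers_le.2 ht.1)) hp
    refine ⟨H, hH, (hF H hH).2.2.symm ▸ ht.1, ?_⟩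
    rintro (h | h)
    · exact ne_bot_of_prime hp (((Ms_pi H).of_le hXH).eq_bot
        ((kappa_hall_sigma' (hF H hH).2.1).of_le (hX.trans (zpowers_le.2 h))))
    · exact ht.2 H hH h
  have hTI : ∀ t ∈ T, ∀ g : G, g * t * g⁻¹ ∈ T ↔ g ∈ Z := by
    refine fun t ht g => ⟨fun h => ?_, fun h => ⟨conj_mem_of_norm (le_norm Z h) ht.1, fun H hH h' => ht.2 H hH ?_⟩⟩
    · obtain ⟨H, hH, hz⟩ := hTz t ht
      obtain ⟨h1, h2, h3⟩ := hF H hH
      exact h3 ▸ zhat_TI h1 h2 hz (h3.symm ▸ h.1)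
    · obtain ⟨-, h2, h3⟩ := hF H hH
      have := conj_mem_of_norm' ((dp_Kstar h2).nml_right.norm (h3.symm ▸ h)) h'
      simpa [mul_assoc] using this
  have hcT := card_clsupp_TI hTI
  have key : ∀ (S : Set G), S.ncard = (Finset.univ.filter (· ∈ S)).card := fun S => by
    rw [← Set.ncard_coe_finset]; simp
  have hz : Nat.card Z ≤ T.ncard + 1 + ∑ H ∈ F, (Nat.card ↥𝐊(H, L H) - 1) := by
    have hsub : Finset.univ.filter (· ∈ Z) ⊆ (Finset.univ.filter (· ∈ T) ∪ {1}) ∪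
        F.biUnion fun H => Finset.univ.filter fun x => x ≠ 1 ∧ x ∈ 𝐊(H, L H) := by
      intro t ht
      simp only [Finset.mem_filter, Finset.mem_univ, true_and, Finset.mem_union, Finset.mem_singleton,
        Finset.mem_biUnion] at ht ⊢
      by_contra! h
      exact h.1.1 ⟨ht, fun H hH => h.2 H hH h.1.2⟩
    rw [Nat.card_eq_fintype_card, Fintype.card_subtype, key]
    refine (Finset.card_le_card hsub).trans ((Finset.card_union_le _ _).trans (Nat.add_le_add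
      ((Finset.card_union_le _ _).trans_eq (by rw [Finset.card_singleton]; congr!)) (Finset.card_biUnion_le.trans (Finset.sum_le_sum fun H _ => ?_))))
    exact (card_filter_ne_one _ _ fun _ => Iff.rfl).le
  have hg : (clsupp T ⊤).ncard + ∑ H ∈ F, (clsupp (sigCover H) ⊤).ncard < Nat.card G := by
    simp only [key]
    rw [← Finset.card_biUnion, ← Finset.card_union_of_disjoint, Nat.card_eq_fintype_card, ← Finset.card_univ]
    · refine Finset.card_lt_card (Finset.ssubset_univ_iff.2 fun h => ?_)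
      have := h ▸ Finset.mem_univ (1 : G)
      simp only [Finset.mem_filter, Finset.mem_univ, true_and, Finset.mem_union, Finset.mem_biUnion] at this
      rcases this with ⟨g, -, t, ht, e⟩ | ⟨H, hH, h'⟩
      · obtain ⟨H, -, hz⟩ := hTz t ht
        exact conj_ne_one (fun e : t = 1 => hz.2 (.inl (by rw [e]; exact one_mem _))) g e.symm
      · exact one_not_mem_cover (hF H hH).1.1 h'
    · simp only [Finset.disjoint_left, Finset.mem_filter, Finset.mem_univ, true_and, Finset.mem_biUnion]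
      rintro _ ⟨g, -, t, ht, rfl⟩ ⟨N, hN, h'⟩
      obtain ⟨H, hH, hz⟩ := hTz t ht
      exact zhat_not_cover (hF H hH).1.1 (hF H hH).2.1 (hF N hN).1.1 hz (clsupp_conj h')
    · intro H hH H' hH' hne
      obtain ⟨h1, h2, h3⟩ := hF H hH
      obtain ⟨h1', h2', h3'⟩ := hF H' hH'
      have := Set.disjoint_left.1 (sigma_support_disjoint h1.1 h1'.1 (fam_not_cj h1 h2 h1' h2' (h3.trans h3'.symm) hne))
      simp only [Function.onFun, Finset.disjoint_left, Finset.mem_filter, Finset.mem_univ, true_and]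
      exact this
  have hs : ∑ H ∈ F, (2 * (Nat.card ↥𝐊(H, L H) - 1) + 1) * Z.index ≤ ∑ H ∈ F, 2 * (clsupp (sigCover H) ⊤).ncard := by
    refine Finset.sum_le_sum fun H hH => ?_
    obtain ⟨h1, h2', h3⟩ := hF H hH
    rw [← h3]
    refine count_P1 (hP1 H hH) h2' fun e => ?_
    obtain ⟨H', hH', hne⟩ := Finset.exists_mem_ne h2 H
    obtain ⟨h1', h2'', h3'⟩ := hF H' hH'
    exact hne (mmax_eq h1.1 h1'.1.1 (by
      rw [← e, h3, ← h3']; exact sup_le h2''.le (inf_le_left.trans (Ms_le H'))))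
  rw [← Finset.sum_mul, ← Finset.mul_sum, Finset.sum_add_distrib, ← Finset.mul_sum, ← Finset.card_eq_sum_ones] at hs
  rw [hcT, ← Z.index_mul_card] at hg
  nlinarith [Nat.mul_le_mul_left Z.index hz, Nat.mul_le_mul_left Z.index h2]

end Family

/-- The existence of the partner `M*` of a subgroup of type `P`. -/
theorem exists_star {M K : Subgroup G} (hP : TypeP M) (hK : Hall (kappa M) K M) :
    ∃ Ms : Subgroup G, TypeP Ms ∧ Hall (kappa Ms) 𝐊(M, K) Ms ∧ 𝐊(Ms, (𝐊(M, K) : Subgroup G)) = K ∧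
      (TypeP2 M ∨ TypeP2 Ms) := by
  classical
  haveI := Fintype.ofFinite (Subgroup G)
  set F : Finset (Subgroup G) := Finset.univ.filter fun H =>
    H = M ∨ (Mx H ∧ ∃ X : Subgroup G, X ≤ K ∧ (Nat.card X).Prime ∧ 𝐍(X) ≤ H) with hFd
  have hmem : ∀ {H : Subgroup G}, H ∈ F ↔
    H = M ∨ (Mx H ∧ ∃ X : Subgroup G, X ≤ K ∧ (Nat.card X).Prime ∧ 𝐍(X) ≤ H) := by simp [hFd]
  have hex : ∀ H : Subgroup G, ∃ L : Subgroup G, H ∈ F →
      TypeP H ∧ Hall (kappa H) L H ∧ L ⊔ 𝐊(H, L) = K ⊔ 𝐊(M, K) := by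
    intro H
    by_cases h : H ∈ F
    · rcases hmem.1 h with rfl | ⟨hH, X, hX, hp, hN⟩
      · exact ⟨K, fun _ => ⟨hP, hK, rfl⟩⟩
      · obtain ⟨h1, L, h2⟩ := Pmax_sym hP hK hX hp hH hN
        exact ⟨L, fun _ => ⟨h1, h2⟩⟩
    · exact ⟨⊥, fun h' => absurd h' h⟩
  choose L hF using hex
  have hMF : M ∈ F := hmem.2 (.inl rfl)
  have hup : ∀ X : Subgroup G, X ≤ K → (Nat.card X).Prime → ∃ H ∈ F, H ≠ M ∧ X ≤ sigmaCore H := by
    intro X hX hp
    obtain ⟨H, hH, hN⟩ := exists_mmax (norm_proper (ne_bot_of_prime hp) hP.1 (hX.trans hK.le))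
    obtain ⟨h1, -, h3, -⟩ := Pmax_half hP hK hX hp hH hN
    exact ⟨H, hmem.2 (.inr ⟨hH, X, hX, hp, hN⟩), Cj.ne_of_not h1, h3⟩
  obtain ⟨X₁, hX₁, hp₁⟩ := exists_prime_le ((nontriv_kappa hP.1 hK).2 hP)
  obtain ⟨M₁, hM₁, hne, -⟩ := hup X₁ hX₁ hp₁
  obtain ⟨H₀, h₀, hP2⟩ := family_count F L hF (Finset.one_lt_card.2 ⟨_, hM₁, _, hMF, hne⟩) fun X hX hp => by
    haveI := Fact.mk hp
    by_cases hs : Nat.card X ∈ sigma M
    · exact ⟨M, hMF, le_Ms hP.1 (hX.trans (sup_le hK.le (inf_le_left.trans (Ms_le M)))) (pigrp_of_card rfl hs)⟩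
    · obtain ⟨H, hH, -, h⟩ := hup X ((Kstar_hall hK).1.ge_of_normal (dp_Kstar hK).nml_left.norm hX
        (pigrp_of_card rfl hs)) hp
      exact ⟨H, hH, h⟩
  have hle : ∀ H ∈ F, ∀ H' ∈ F, H ≠ H' → 𝐊(H, L H) ≤ L H' := by
    intro H hH H' hH' hne
    obtain ⟨h1, h2, h3⟩ := hF H hH
    obtain ⟨h1', h2', h3'⟩ := hF H' hH'
    exact (Kstar_hall h2').1.ge_of_normal (dp_Kstar h2').nml_left.norm (h3'.symm ▸ h3 ▸ le_sup_right)
      ((Kstar_hall h2).2.pi.mono (sigma_partition h1.1 h1'.1 (fam_not_cj h1 h2 h1' h2' (h3.trans h3'.symm) hne)))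
  have huniq : ∀ H ∈ F, ∀ H' ∈ F, H ≠ H₀ → H' ≠ H₀ → H = H' := by
    have hpr := (Ptype_structure_g hP2 (hF H₀ h₀).2.1).2.1
    intro H hH H' hH' n1 n2
    refine fam_eq (hF H hH).1 (hF H hH).2.1 (hF H' hH').1 (hF H' hH').2.1 ?_
    rw [(eq_bot_or_eq_of_prime hpr (hle H' hH' H₀ h₀ n2)).resolve_left
      (Ptype_structure_c (hF H' hH').1 (hF H' hH').2.1).1]
    exact hle H hH H₀ h₀ n1
  have hone : ∀ H ∈ F, H ≠ M → H = M₁ := by
    intro H hH n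
    by_cases e : M = H₀
    · exact huniq H hH M₁ hM₁ (e ▸ n) (e ▸ hne)
    · rw [by_contra fun h => n (huniq H hH M hMF h e), by_contra fun h => hne (huniq M₁ hM₁ M hMF h e)]
  obtain ⟨h1, h2, h3⟩ := hF M₁ hM₁
  have hKs : PiGrp (sigma M₁) K := fun q hq hd => by
    obtain ⟨X, hX, hc⟩ := exists_card_eq_prime hq hd
    obtain ⟨H, hH, n, h⟩ := hup X hX (hc ▸ hq)
    exact hone H hH n ▸ (Ms_pi H).mem hq (hc ▸ card_dvd h)
  have hnc := sigma_partition hP.1 h1.1 fun h => fam_not_cj hP hK h1 h2 h3.symm hne.symm h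
  have hs := Hall.of_sd (dp_Kstar hK).sd hKs ((Kstar_hall hK).2.pi.mono hnc)
  rw [← h3] at hs
  have e1 := hs.2.eq_of_le' (Kstar_hall h2).1
    ((Kstar_hall h2).1.ge_of_normal (dp_Kstar h2).nml_left.norm hs.2.le hs.2.pi)
  have e2 := hs.1.eq_of_le' (Kstar_hall h2).2
    ((Kstar_hall h2).2.ge_of_normal (dp_Kstar h2).nml_right.norm hs.1.le hs.1.pi)
  refine ⟨M₁, h1, e1 ▸ h2, by rw [e1]; exact e2.symm, ?_⟩
  by_cases e : H₀ = M
  exacts [.inl (e ▸ hP2), .inr (hone H₀ h₀ e ▸ hP2)]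

end Cfsg.Lib.BG.Z.S14
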