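import Cfsg.Agent.Lib.BG.Hall
import Cfsg.Agent.Lib.ZB.T10_0Aux
import Cfsg.Agent.Lib.PGroup.RankOne

/-!
# Private API for section 14 (namespace `Cfsg.Lib.BG.S14`), conjugation, small ranks, maximal subgroups
-/

set_option autoImplicit false
set_option linter.unusedVariables false

namespace Cfsg.Lib.BG.Z.S14

open Subgroup
open scoped Cfsg.Lib.Transfer

variable {G : Type*} [Group G] {π ρ : Set ℕ} {p : ℕ}
variable {A B H K L M N U X P S : Subgroup G} {x y g : G}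

/-! ### Conjugation -/

theorem mem_conj : x ∈ g ⋆ H ↔ g⁻¹ * x * g ∈ H := Transfer.mem_conj
theorem conj_mem_conj : g * x * g⁻¹ ∈ g ⋆ H ↔ x ∈ H := Transfer.conj_mem_conj
theorem conj_conj (g h : G) (H : Subgroup G) : g ⋆ (h ⋆ H) = (g * h) ⋆ H := Transfer.conj_conj g h H
theorem inv_conj (g : G) (H : Subgroup G) : g⁻¹ ⋆ (g ⋆ H) = H := Transfer.inv_conj_conj g H
theorem conj_inv (g : G) (H : Subgroup G) : g ⋆ (g⁻¹ ⋆ H) = H := Transfer.conj_inv_conj g H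
theorem conj_one (H : Subgroup G) : (1 : G) ⋆ H = H := Transfer.conj_one H
theorem conj_mono (g : G) (h : H ≤ K) : g ⋆ H ≤ g ⋆ K := map_mono h
theorem conj_le_conj : g ⋆ H ≤ g ⋆ K ↔ H ≤ K := Transfer.conj_le_conj_iff
theorem conj_inj : g ⋆ H = g ⋆ K ↔ H = K := Transfer.conj_inj
theorem conj_le_iff : g ⋆ H ≤ K ↔ H ≤ g⁻¹ ⋆ K := Transfer.conj_le_iff_le_inv_conj
theorem le_conj_iff : H ≤ g ⋆ K ↔ g⁻¹ ⋆ H ≤ K := Transfer.le_conj_iff_inv_conj_le
theorem conj_eq_bot : g ⋆ H = ⊥ ↔ H = ⊥ := Transfer.conj_eq_bot_iff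
theorem conj_bot (g : G) : g ⋆ (⊥ : Subgroup G) = ⊥ := Subgroup.map_bot _
theorem conj_top (g : G) : g ⋆ (⊤ : Subgroup G) = ⊤ := Transfer.conj_top g
theorem card_conj (g : G) (H : Subgroup G) : Nat.card ↥(g ⋆ H) = Nat.card H := Transfer.card_conj g H
theorem conj_inf (g : G) (H K : Subgroup G) : g ⋆ (H ⊓ K) = (g ⋆ H) ⊓ (g ⋆ K) := Transfer.conj_inf g H K
theorem conj_sup (g : G) (H K : Subgroup G) : g ⋆ (H ⊔ K) = (g ⋆ H) ⊔ (g ⋆ K) := Transfer.conj_sup g H K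
theorem conj_comm (g : G) (H K : Subgroup G) : g ⋆ ⁅H, K⁆ = ⁅g ⋆ H, g ⋆ K⁆ := Transfer.conj_commutator g H K
theorem conj_norm (g : G) (H : Subgroup G) : g ⋆ 𝐍(H) = 𝐍(g ⋆ H) := Transfer.conj_normalizer g H
theorem conj_cent (g : G) (H : Subgroup G) : g ⋆ 𝐂(H) = 𝐂(g ⋆ H) := Transfer.conj_centralizer g H
theorem conj_zpowers (g x : G) : g ⋆ zpowers x = zpowers (g * x * g⁻¹) := Transfer.conj_zpowers g x
theorem conj_ne_one (h : x ≠ 1) (g : G) : g * x * g⁻¹ ≠ 1 := fun e => h (by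
  have := congrArg (fun z => g⁻¹ * z * g) e; simpa [mul_assoc] using this)
theorem conj_ne_one' (h : x ≠ 1) (g : G) : g⁻¹ * x * g ≠ 1 := by simpa using conj_ne_one h g⁻¹
theorem conj_eq_of_mem_cent1 (h : g ∈ 𝐂[x]) : g * x * g⁻¹ = x := by rw [mem_cent1.1 h, mul_inv_cancel_right]
theorem mem_cent1_of_conj_eq (h : g * x * g⁻¹ = x) : g ∈ 𝐂[x] := mem_cent1.2 (by rw [← mul_inv_eq_iff_eq_mul, h])
theorem orderOf_conj' (g x : G) : orderOf (g * x * g⁻¹) = orderOf x := by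
  rw [← Nat.card_zpowers, ← conj_zpowers, card_conj, Nat.card_zpowers]

variable [Finite G]

section Syl
variable [hp : Fact p.Prime]

theorem pgroup_of_card (h : Nat.card X = p) : IsPGroup p X := IsPGroup.of_card (n := 1) (by rw [h, pow_one])
theorem pigrp_of_card (h : Nat.card X = p) (hπ : p ∈ π) : PiGrp π X := PiGrp.of_pgroup (pgroup_of_card h) hπ
theorem ne_bot_of_card (h : Nat.card X = p) : X ≠ ⊥ := ne_bot_of_prime (h ▸ hp.out)

omit [Finite G] in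
theorem elem1_iff : Elem p 1 X H ↔ X ≤ H ∧ Nat.card X = p :=
  ⟨fun h => ⟨h.le, by rw [h.card, pow_one]⟩, fun h => ⟨h.1, PGroup.elemAb_of_card_eq h.2, by rw [h.2, pow_one]⟩⟩
omit [Finite G] in
theorem elem1_mk (h₁ : X ≤ H) (h₂ : Nat.card X = p) : Elem p 1 X H := elem1_iff.2 ⟨h₁, h₂⟩
omit [Finite G] in
theorem elem1_card (h : Elem p 1 X H) : Nat.card X = p := (elem1_iff.1 h).2
omit [Finite G] in
theorem elem1_prime (h : Elem p 1 X H) : (Nat.card X).Prime := elem1_card h ▸ hp.out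
omit [Finite G] hp in
theorem elem_mono {n : ℕ} (h : Elem p n X H) (hH : X ≤ K) : Elem p n X K := ⟨hH, h.elem, h.card⟩
omit [Finite G] hp in
theorem elem_p {n : ℕ} (h : Elem p n X H) : IsPGroup p X := PGroup.elemAb_isPGroup h.elem
omit [Finite G] hp in
theorem elem_conj {n : ℕ} (h : Elem p n X H) (g : G) : Elem p n (g ⋆ X) (g ⋆ H) :=
  ⟨conj_mono g h.le, PGroup.elemAb_map _ h.elem, by rw [card_conj, h.card]⟩
omit [Finite G] in
theorem elem2_not_cyclic (h : Elem p 2 X H) : ¬ IsCyclic X := PGroup.elemAb_not_isCyclic h.elem h.card.ge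
omit [Finite G] in
theorem elem_ne_bot {n : ℕ} (h : Elem p (n + 1) X H) : X ≠ ⊥ :=
  ne_bot_of_dvd hp.out (h.card ▸ dvd_pow_self p n.succ_ne_zero)
theorem exists_elem2 (h : ¬ PRankLE p 1 M) : ∃ A : Subgroup G, Elem p 2 A M := by
  obtain ⟨A, h1, h2, h3⟩ := PGroup.not_pRankLE_subgroup_iff.1 h; exact ⟨A, h1, h2, h3⟩
theorem not_rank1_of_elem2 (h : Elem p 2 A M) : ¬ PRankLE p 1 M :=
  PGroup.not_pRankLE_subgroup_iff.2 ⟨A, h.le, h.elem, h.card⟩
theorem cyclic_of_rank1 (hp2 : p ≠ 2) (h : PRankLE p 1 M) (hX : IsPGroup p X) (hXM : X ≤ M) : IsCyclic X :=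
  PGroup.isCyclic_of_pRankLE_one_of_odd hp2 hX (PGroup.pRankLE_of_le hXM h)
theorem rank1_of_cyclic_syl (h : Syl p P M) (hc : IsCyclic P) : PRankLE p 1 M := by
  by_contra hr
  obtain ⟨A, hA⟩ := exists_elem2 hr
  obtain ⟨g, -, hg⟩ := h.exists_conj_le (elem_p hA) hA.le
  exact elem2_not_cyclic hA ((cyclic_conj g).1 (cyclic_of_le hc hg))
theorem exists_elem2_of_not_cyclic (hp2 : p ≠ 2) (hX : IsPGroup p X) (hc : ¬ IsCyclic X) :
    ∃ A : Subgroup G, Elem p 2 A X :=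
  exists_elem2 fun h => hc (cyclic_of_rank1 hp2 h hX le_rfl)
end Syl

/-- In a cyclic group a subgroup is determined by its order. -/
theorem cyclic_le_of_dvd (hc : IsCyclic M) (hA : A ≤ M) (hB : B ≤ M) (hd : Nat.card A ∣ Nat.card B) : A ≤ B := by
  have key : ∀ C : Subgroup G, C ≤ M → ∀ z ∈ M, z ^ Nat.card C = 1 → z ∈ C := by
    intro C hC z hz h1
    classical
    haveI := Fintype.ofFinite M
    have h2 := IsCyclic.card_pow_eq_one_le (α := M) (n := Nat.card C) Nat.card_pos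
    let T : Finset M := Finset.univ.filter fun a => a ^ Nat.card C = 1
    let T' : Finset M := Finset.univ.filter fun a => (a : G) ∈ C
    have hsub : T' ⊆ T := by
      intro a ha
      simp only [T, T', Finset.mem_filter, Finset.mem_univ, true_and] at ha ⊢
      exact Subtype.ext (orderOf_dvd_iff_pow_eq_one.1 (orderOf_dvd_natCard C ha))
    have hc' : T'.card = Nat.card C := by
      rw [← Nat.card_congr (subgroupOfEquivOfLe hC).toEquiv, Nat.card_eq_fintype_card, Fintype.card_subtype]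
      rfl
    have : T' = T := Finset.eq_of_subset_of_card_le hsub (hc' ▸ h2)
    have hz' : (⟨z, hz⟩ : M) ∈ T := by
      simp only [T, Finset.mem_filter, Finset.mem_univ, true_and]; exact Subtype.ext (by simpa using h1)
    rw [← this] at hz'; simpa [T'] using hz'
  intro a ha
  refine key B hB a (hA ha) ?_
  obtain ⟨k, hk⟩ := hd
  rw [hk, pow_mul, orderOf_dvd_iff_pow_eq_one.1 (orderOf_dvd_natCard A ha), one_pow]
theorem cyclic_eq_of_card (hc : IsCyclic M) (hA : A ≤ M) (hB : B ≤ M) (hd : Nat.card A = Nat.card B) : A = B :=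
  le_antisymm (cyclic_le_of_dvd hc hA hB hd.dvd) (cyclic_le_of_dvd hc hB hA hd.symm.dvd)
theorem cyclic_norm (hc : IsCyclic M) (hA : A ≤ M) : 𝐍(M) ≤ 𝐍(A) := fun g hg =>
  norm_of_conj_eq (cyclic_eq_of_card hc (conj_le_of_norm hA hg) hA (card_conj g A))
/-- Subgroups of order `p` are conjugate when the Sylow `p`-subgroups are cyclic. -/
theorem conj_of_cyclic_syl [Fact p.Prime] (h : Syl p P M) (hc : IsCyclic P) (hA : A ≤ M) (hB : B ≤ M)
    (hpA : IsPGroup p A) (hpB : IsPGroup p B) (hd : Nat.card A ∣ Nat.card B) : ∃ g ∈ M, g ⋆ A ≤ B := by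
  obtain ⟨a, ha, h1⟩ := h.exists_conj_le hpA hA
  obtain ⟨b, hb, h2⟩ := h.exists_conj_le hpB hB
  refine ⟨b⁻¹ * a, mul_mem (inv_mem hb) ha, ?_⟩
  rw [← conj_conj, conj_le_iff, inv_inv]
  exact cyclic_le_of_dvd hc h1 h2 (by rwa [card_conj, card_conj])

/-! ### The minimal counterexample -/

omit [Finite G] in
theorem exists_mmax [Finite G] (h : Loc H) : ∃ M : Subgroup G, Mx M ∧ H ≤ M :=
  exists_Mx h
omit [Finite G] in
theorem mmax_eq (hM : Mx M) (hL : Loc L) (h : M ≤ L) : L = M := hM.eq_of_le hL h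
omit [Finite G] in
theorem coatom_conj_iff : Mx (g ⋆ M) ↔ Mx M :=
  ⟨fun h => by have := A10.coatom_conj h g⁻¹; rwa [inv_conj] at this, fun h => A10.coatom_conj h g⟩
theorem sigma_conj (g : G) (M : Subgroup G) : sigma (g ⋆ M) = sigma M := by
  ext q; exact ⟨fun h => by have := A10.sigma_conj h g⁻¹; rwa [inv_conj] at this, fun h => A10.sigma_conj h g⟩
theorem Ms_conj (g : G) (M : Subgroup G) : sigmaCore (g ⋆ M) = g ⋆ sigmaCore M := by
  show 𝐎(sigma (g ⋆ M), g ⋆ M) = g ⋆ 𝐎(sigma M, M)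
  rw [sigma_conj, conj_pcore]
omit [Finite G] in
theorem Ms_le (M : Subgroup G) : sigmaCore M ≤ M := pcore_le _ M
omit [Finite G] in
theorem Ms_nml (M : Subgroup G) : Nml (sigmaCore M) M := pcore_nml _ M
omit [Finite G] in
theorem Ms_norm (h : H ≤ M) : H ≤ 𝐍(sigmaCore M) := h.trans (Ms_nml M).norm
theorem Ms_pi (M : Subgroup G) : PiGrp (sigma M) (sigmaCore M) := pcore_pi _ M
omit [Finite G] in
theorem rank_conj {k : ℕ} : PRankLE p k ↥(g ⋆ M) ↔ PRankLE p k M :=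
  PGroup.pRankLE_map_iff_of_injective (MulAut.conj g).injective
theorem tau1_conj (g : G) (M : Subgroup G) : tau1 (g ⋆ M) = tau1 M := by
  ext q; simp only [tau1, Set.mem_ofPred_eq, sigma_conj, rank_conj, ← conj_comm, card_conj]
theorem tau2_conj (g : G) (M : Subgroup G) : tau2 (g ⋆ M) = tau2 M := by
  ext q; simp only [tau2, Set.mem_ofPred_eq, sigma_conj, rank_conj]
theorem tau3_conj (g : G) (M : Subgroup G) : tau3 (g ⋆ M) = tau3 M := by
  ext q; simp only [tau3, Set.mem_ofPred_eq, sigma_conj, rank_conj, ← conj_comm, card_conj]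
omit [Finite G] in
theorem alpha_conj (g : G) (M : Subgroup G) : alpha (g ⋆ M) = alpha M := by
  ext q; simp only [alpha, Set.mem_ofPred_eq, rank_conj]
omit [Finite G] in
theorem beta_conj (g : G) (M : Subgroup G) : beta (g ⋆ M) = beta M := by
  ext q; simp only [beta, Set.mem_ofPred_eq, alpha_conj]
omit [Finite G] in
theorem tau1_sigma' (h : p ∈ tau1 M) : p ∉ sigma M := h.2.1
omit [Finite G] in
theorem tau2_sigma' (h : p ∈ tau2 M) : p ∉ sigma M := h.2.1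
omit [Finite G] in
theorem tau3_sigma' (h : p ∈ tau3 M) : p ∉ sigma M := h.2.1
omit [Finite G] in
theorem tau13_sigma' (h : p ∈ tau1 M ∨ p ∈ tau3 M) : p ∉ sigma M := h.elim tau1_sigma' tau3_sigma'
omit [Finite G] in
theorem tau13_rank (h : p ∈ tau1 M ∨ p ∈ tau3 M) : PRankLE p 1 M := h.elim (·.2.2.2.2) (·.2.2.2)
omit [Finite G] in
theorem tau13_tau2' (h : p ∈ tau1 M ∨ p ∈ tau3 M) : p ∉ tau2 M := fun h' => h'.2.2.2 (tau13_rank h)
omit [Finite G] in
theorem tau1_tau3' (h : p ∈ tau1 M) : p ∉ tau3 M := fun h' => h.2.2.2.1 h'.2.2.1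
omit [Finite G] in
theorem kappa_sigma' (h : p ∈ kappa M) : p ∉ sigma M := h.2.2.1
omit [Finite G] in
theorem sigma_dvd (h : p ∈ sigma M) : p ∣ Nat.card M := h.2.1
omit [Finite G] in
theorem tau13_of_rank (hp : p.Prime) (hd : p ∣ Nat.card M) (hs : p ∉ sigma M) (hr : PRankLE p 1 M) :
    p ∈ tau1 M ∨ p ∈ tau3 M := by
  by_cases h : p ∣ Nat.card ↥⁅M, M⁆
  exacts [.inr ⟨hp, hs, h, hr⟩, .inl ⟨hp, hs, hd, h, hr⟩]
theorem tau2_dvd [Fact p.Prime] (h : p ∈ tau2 M) : p ∣ Nat.card M := by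
  obtain ⟨A, hA⟩ := exists_elem2 h.2.2.2
  exact (hA.card ▸ dvd_pow_self p two_ne_zero).trans (card_dvd hA.le)
omit [Finite G] in
theorem sigMax_conj [Finite G] (h : SigMax x M) (g : G) : SigMax (g * x * g⁻¹) (g ⋆ M) :=
  ⟨A10.coatom_conj h.1 g, by rw [Ms_conj]; exact conj_mem_conj.2 h.2⟩
omit [Finite G] in
theorem uniqMax_eq (h : UniqMax H M) (h' : UniqMax H L) : L = M := h.uniq L h'.max h'.le

variable [Sz G]

theorem mmax_sol (hM : Mx M) : Group.IsSolvable M := A10.mFT_sol hM.1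
theorem sub_sol (hM : Mx M) (h : H ≤ M) : Group.IsSolvable H := sol_of_le (mmax_sol hM) h
theorem cent1_proper (hx : x ≠ 1) (hD : PiElt (DD G) x := by dd) : Loc 𝐂[x] := loc_cent1 hx hD
theorem norm_proper (h1 : X ≠ ⊥) (hM : Mx M) (h : X ≤ M) (hD : PiGrp (DD G) X := by dd) : Loc 𝐍(X) :=
  loc_norm h1 hD
theorem mem_of_conj_eq (hM : Mx M) (h : g ⋆ M = M) : g ∈ M := A10.norm_mmax hM ▸ norm_of_conj_eq h
theorem conj_ne_of_not_mem (hM : Mx M) (h : g ∉ M) : g ⋆ M ≠ M := fun e => h (mem_of_conj_eq hM e)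
theorem nml_norm_eq (hM : Mx M) (h : Nml X M) (h1 : X ≠ ⊥) : 𝐍(X) = M := A10.mmax_norm_eq hM h1 h.le h.norm
theorem tau13_cyclic [Fact p.Prime] (h : p ∈ tau1 M ∨ p ∈ tau3 M) (hX : IsPGroup p X) (hXM : X ≤ M)
    (hL : Loc X := by dd) : IsCyclic X := by
  by_cases h1 : X = ⊥
  · subst h1; infer_instance
  · exact cyclic_of_rank1 (A10.mFT_ne_two (pgroup_dvd_card hX h1)) (tau13_rank h) hX hXM
/-- For `p ∈ τ₁ ∪ τ₃`, subgroups of order `p` of any `H ≤ M` are conjugate in `H`. -/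
theorem tau13_conj [Fact p.Prime] (h : p ∈ tau1 M ∨ p ∈ tau3 M) (hH : H ≤ M) (hA : A ≤ H) (hB : B ≤ H)
    (hcA : Nat.card A = p) (hcB : Nat.card B = p) (hL : Loc H := by dd) : ∃ g ∈ H, g ⋆ A = B := by
  obtain ⟨P, hP⟩ := Syl.exists (p := p) H
  obtain ⟨g, hg, h1⟩ := conj_of_cyclic_syl hP (tau13_cyclic h hP.pgroup (hP.le.trans hH)) hA hB
    (pgroup_of_card hcA) (pgroup_of_card hcB) (by rw [hcA, hcB])
  exact ⟨g, hg, eq_of_le_of_card_le h1 (by rw [card_conj, hcA, hcB])⟩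

end Cfsg.Lib.BG.Z.S14
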