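import Cfsg.Agent.Lib.BG.Fcore
import Cfsg.Agent.Lib.ZB.T10_2
import Cfsg.Agent.Lib.ZB.T12_1
import Cfsg.Agent.Lib.ZB.T12_5
import Cfsg.Agent.Lib.ZB.T12_10
import Cfsg.Agent.Lib.ZB.T12_12
import Cfsg.Agent.Lib.ZB.T14_0
import Cfsg.Agent.Lib.ZB.T14_2
import Cfsg.Agent.Lib.ZB.T14_3
import Cfsg.Agent.Lib.ZB.T14_7

set_option autoImplicit false
set_option linter.unusedVariables false
set_option linter.unusedSectionVars false
set_option linter.style.haveILetI false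

namespace Cfsg.Lib.BG.Z

open Subgroup
open scoped Cfsg.Lib.Transfer

variable {G : Type*} [Group G] [Finite G] [Sz G]

theorem Fcore_sub_Msigma {M : Subgroup G} (hM : Mx M) : fittingHallOf M ≤ sigmaCore M := by
  refine (Msigma_Hall hM).ge_of_nml (Fcore_nml M) fun q hq hd => ?_
  haveI : Fact q.Prime := ⟨hq⟩
  have hS := Fcore_pcore_Sylow hd
  exact sigma_of_nml_Sylow hM hS (hS.ne_bot' (hd.trans (card_dvd (Fcore_le M)))) (pcore_nml _ M).norm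

theorem Fcore_eq_Msigma {M : Subgroup G} (hM : Mx M) :
    fittingHallOf M = sigmaCore M ↔ Group.IsNilpotent (sigmaCore M) := by
  refine ⟨fun h => h ▸ Fcore_nil M, fun h => le_antisymm (Fcore_sub_Msigma hM) ?_⟩
  exact Fcore_max (Msigma_Hall hM) (Msigma_nml M).norm h

omit [Sz G] in
theorem KappaCompl.conj_of_mem {M U K : Subgroup G} (h : KappaCompl M U K) {g : G} (hg : g ∈ M) :
    KappaCompl M (g ⋆ U) (g ⋆ K) :=
  ⟨h.hallK.conj_of_mem hg, h.hallU.conj_of_mem hg, by rw [← S14.conj_norm]; exact S14.conj_mono g h.norm⟩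

omit [Sz G] in
theorem KappaCompl.conj {M U K : Subgroup G} (h : KappaCompl M U K) (g : G) :
    KappaCompl (g ⋆ M) (g ⋆ U) (g ⋆ K) :=
  ⟨by rw [kappa_conj]; exact h.hallK.conj g, by rw [kappa_conj, sigma_conj]; exact h.hallU.conj g,
    by rw [← S14.conj_norm]; exact S14.conj_mono g h.norm⟩

omit [Finite G] [Sz G] in
theorem KappaCompl.sigma' {M U K : Subgroup G} (h : KappaCompl M U K) : PiGrp (sigma M)ᶜ U :=
  h.hallU.pi.mono fun _ hq hs => hq (Or.inl hs)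

omit [Finite G] [Sz G] in
theorem KappaCompl.kappa' {M U K : Subgroup G} (h : KappaCompl M U K) : PiGrp (kappa M)ᶜ U :=
  h.hallU.pi.mono fun _ hq hs => hq (Or.inr hs)

/-- Elements of `U` centralizing a non-identity element of `M_σ` are `τ₂(M)`-elements whose centralizer lies only in `M`. -/
theorem KappaCompl.cent1 {M U K : Subgroup G} (hM : Mx M) (h : KappaCompl M U K) {x y : G}
    (hx : x ∈ sigmaCore M) (hx1 : x ≠ 1) (hy : y ∈ U) (hxy : y ∈ 𝐂[x]) (hy1 : y ≠ 1) :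
    PiElt (tau2 M) y ∧ UniqMax 𝐂[y] M := by
  rcases pi_of_cent_sigma hM hx hx1 ⟨h.hallU.le hy, hxy⟩ hy1 (h.sigma'.elt hy) with h1 | h1
  · exact absurd (h1.1.eq_one (h.kappa'.elt hy)) hy1
  · exact ⟨h1.1, h1.2.2⟩

/-- `M_σ U` is a normal Hall `κ(M)'`-subgroup of `M`. -/
theorem KappaCompl.sd {M U K : Subgroup G} (hM : Mx M) (h : KappaCompl M U K) :
    SD (sigmaCore M) U (sigmaCore M ⊔ U) ∧ SD (sigmaCore M ⊔ U) K M ∧ PiGrp (kappa M)ᶜ (sigmaCore M ⊔ U) := by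
  obtain ⟨-, hsd, -⟩ := kappa_compl_context hM h
  have hk : PiGrp (kappa M)ᶜ (sigmaCore M ⊔ U) :=
    ((Msigma_pi M).mono fun _ hq hk => kappa_sigma' hk hq).sup h.kappa' (norm_Msigma h.hallU.le)
  refine ⟨SD.of_norm (norm_Msigma h.hallU.le) ((Msigma_pi M).inf_eq_bot h.sigma'), ⟨?_, ?_, ?_⟩, hk⟩
  · exact norm_sup (norm_Msigma h.hallK.le) h.norm
  · rw [inf_comm]; exact h.hallK.pi.inf_eq_bot hk
  · rw [sup_assoc]; exact hsd.sup

theorem der2_sub_Msigma {M : Subgroup G} (hM : Mx M) : ⁅⁅M, M⁆, ⁅M, M⁆⁆ ≤ sigmaCore M := by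
  obtain ⟨E, hE⟩ := Hall.exists (sigma M)ᶜ (mmax_sol hM)
  have hsd := sdprod_sigma hM hE
  have h1 : SD (sigmaCore M) ⁅E, E⁆ (sigmaCore M ⊔ ⁅E, E⁆) :=
    SD.of_norm (norm_Msigma ((der_le E).trans hE.le)) (eq_bot_mono hsd.inf (inf_le_inf_left _ (der_le E)))
  have h2 := h1.der_le
  rw [abelian_iff_der.1 (der_mmax_compl_abelian hM hE), sup_bot_eq] at h2
  exact (der_mono hsd.der_le).trans h2

theorem kappa_Hall_cyclic {M K : Subgroup G} (hM : Mx M) (hK : Hall (kappa M) K M) : IsCyclic K := by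
  by_cases h : K = ⊥
  · rw [h]; infer_instance
  · obtain ⟨_, -, -, -, -, -, ⟨hc, -⟩, -⟩ := Ptype_embedding ((nontriv_kappa hM hK).1 h) hK
    exact cyclic_of_le hc le_sup_left

/-- B&G Lemma 15.1. -/
theorem kappa_structure {M U K : Subgroup G} (hM : Mx M) (h : KappaCompl M U K) :
    (SD (sigmaCore M) U (sigmaCore M ⊔ U) ∧ SD (sigmaCore M ⊔ U) K M ∧ IsCyclic K ∧
      ⁅⁅M, M⁆, ⁅M, M⁆⁆ ≤ sigmaCore M) ∧
    (K ≠ ⊥ → sigmaCore M ⊔ U = ⁅M, M⁆ ∧ IsMulCommutative U) ∧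
    (∀ X : Subgroup G, X ≤ U → X ≠ ⊥ → sigmaCore M ⊓ 𝐂(X) ≠ ⊥ →
      UniqMax 𝐂(X) M ∧ IsCyclic X ∧ PiGrp (tau2 M) X) ∧
    (∃ A₀ : Subgroup G, Nml A₀ U ∧ IsMulCommutative A₀ ∧ ∀ x ∈ sigmaCore M, x ≠ 1 → U ⊓ 𝐂[x] ≤ A₀) ∧
    ∃ U₀ : Subgroup G, U₀ ≤ U ∧ Monoid.exponent U₀ = Monoid.exponent U ∧ SemiReg (sigmaCore M) U₀ := by
  obtain ⟨hE, -, hUK, -, hab⟩ := kappa_compl_context hM h
  obtain ⟨hsd1, hsd2, hk⟩ := h.sd hM
  refine ⟨⟨hsd1, hsd2, kappa_Hall_cyclic hM h.hallK, der2_sub_Msigma hM⟩, fun hK => ⟨?_, hab hK⟩, ?_, ?_⟩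
  · obtain ⟨_, -, -, -, -, -, -, -, -, -, hd⟩ := Ptype_embedding ((nontriv_kappa hM h.hallK).1 hK) h.hallK
    have h1 : sigmaCore M ⊔ U ≤ ⁅M, M⁆ := by
      refine hk.le_of_relIndex hsd2.left_le hd.nml.norm ?_
      rw [hd.relIndex_left, compl_compl]
      exact h.hallK.pi
    refine eq_of_le_of_card_le h1 (le_of_eq ?_)
    exact Nat.eq_of_mul_eq_mul_right (Nat.card_pos (α := K)) (hd.card.trans hsd2.card.symm)
  · intro X hXU hX1 hC
    obtain ⟨x, ⟨hx, hxX⟩, hx1⟩ := exists_ne_one hC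
    have hy : ∀ y ∈ X, y ≠ 1 → PiElt (tau2 M) y ∧ UniqMax 𝐂[y] M := fun y hy hy1 =>
      h.cent1 hM hx hx1 (hXU hy) (le_cent1_iff.2 hxX hy) hy1
    have ht2 : PiGrp (tau2 M) X := PiGrp.iff_elt.2 fun y hyX => by
      by_cases hy1 : y = 1
      · rw [hy1]; exact PiElt.one
      · exact (hy y hyX hy1).1
    have hXE : X ≤ U ⊔ K := hXU.trans le_sup_left
    obtain ⟨E₂, hE₂, hXE₂⟩ := Hall.exists_ge (sub_mmax_sol hM hE.le) hXE ht2
    have hc : IsCyclic X := by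
      refine abelian_cyclic_of_rank_le_one (abelian_of_le (tau2_compl_abelian hM hE hE₂) hXE₂) ?_
      by_contra hr
      obtain ⟨p, hp, A, hA⟩ := exists_elem_of_le_rank (k := 2) (not_le.1 hr)
      haveI : Fact p.Prime := ⟨hp⟩
      have hp2 := hA.mem_pi two_ne_zero ht2
      obtain ⟨-, -, hCA, -⟩ := tau2_context hM hp2 (hA.mono (hXE.trans hE.le))
      exact hx1 (mem_bot.1 (hCA ▸ (⟨hx, cent_anti hA.le hxX⟩ : x ∈ sigmaCore M ⊓ 𝐂(A))))
    refine ⟨?_, hc, ht2⟩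
    obtain ⟨y, hyX, rfl⟩ := cyclic_iff.1 hc
    rw [cent_zpowers]
    exact (hy y hyX fun e => hX1 (by rw [e, zpowers_one_eq_bot])).2
  · refine FTtypeF_complement hM hE hUK.nml ?_ ?_
    · rw [hUK.relIndex_left]
      exact (h.hallK.pi.coprime h.kappa').symm
    · intro e he he1 ht
      by_contra hC
      obtain ⟨x, ⟨hx, hxe⟩, hx1⟩ := exists_ne_one hC
      have h2 := (h.cent1 hM hx hx1 he (mem_cent1_symm hxe) he1).1
      refine he1 (h2.eq_one (ht.mono ?_))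
      rintro q (hq | hq)
      · exact tau1_tau2' hq
      · exact tau3_tau2' hq

end Cfsg.Lib.BG.Z
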