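import Cfsg.Agent.Lib.ZB.T15_2
import Cfsg.Agent.Lib.ZB.T14_4

set_option autoImplicit false
set_option linter.unusedVariables false
set_option linter.unusedSectionVars false
set_option linter.style.haveILetI false

namespace Cfsg.Lib.BG.Z

open Subgroup
open scoped Cfsg.Lib.Transfer

variable {G : Type*} [Group G] [Finite G] [Sz G]

/-- B&G Corollary 15.3(a). -/
theorem cent_Hall_sigma_sdprod {π : Set ℕ} {M H : Subgroup G} (hM : Mx M) (hH : Hall π H (sigmaCore M))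
    (hH1 : H ≠ ⊥) :
    ∃ X : Subgroup G, SD (sigmaCore M ⊓ 𝐂(H)) X (M ⊓ 𝐂(H)) ∧ IsCyclic X ∧ PiGrp (tau2 M) X := by
  have hC : M ⊓ 𝐂(H) ≤ M := inf_le_left
  have h1 := (Msigma_Hall hM).inf_of_normal (Msigma_nml M).norm hC
  rw [← inf_assoc, inf_eq_left.2 (Msigma_le M)] at h1
  obtain ⟨X, hsd, hX⟩ := h1.exists_compl (norm_inf (norm_Msigma hC) (inf_le_right.trans (le_norm _)))
  refine ⟨X, hsd, ?_⟩
  by_cases hX1 : X = ⊥
  · rw [hX1]; exact ⟨inferInstance, PiGrp.bot⟩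
  have hXM : X ≤ M := hX.le.trans hC
  have hHX : H ≤ sigmaCore M ⊓ 𝐂(X) := le_inf hH.le (cent_symm (hX.le.trans inf_le_right))
  have hsk : PiGrp (sigma M ∪ kappa M)ᶜ X := by
    intro p hp hd
    rintro (hs | hk)
    · exact hX.pi.mem hp hd hs
    haveI : Fact p.Prime := ⟨hp⟩
    obtain ⟨P, hP⟩ := Elem.exists_one hd
    obtain ⟨K, hK, hPK⟩ := Hall.exists_ge (mmax_sol hM) (hP.le.trans hXM) (hP.pi hk)
    have hMP : TypeP M := ⟨hM, p, hk⟩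
    have hHK : H ≤ sigmaCore M ⊓ 𝐂(K) := by
      rw [← (Ptype_structure_a hMP hK).1.cent hPK (hP.ne_bot one_ne_zero)]
      exact hHX.trans (inf_le_inf_left _ (cent_anti hP.le))
    obtain ⟨q, hq, hqd⟩ := Nat.exists_prime_and_dvd (card_ne_one hH1)
    haveI : Fact q.Prime := ⟨hq⟩
    obtain ⟨S, hS⟩ := Syl.exists q H
    exact (Ptype_structure_e hMP hK (hqd.trans (card_dvd hHK)) (hS.of_Hall hH (hH.pi.mem hq hqd))).2
      (hS.le.trans hHK)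
  obtain ⟨K, hK⟩ := Hall.exists (kappa M) (mmax_sol hM)
  obtain ⟨U, hU⟩ := ex_kappa_compl hM hK
  obtain ⟨g, hg, hXU⟩ := hU.hallU.exists_le_conj (mmax_sol hM) hXM hsk
  exact ((kappa_structure hM (hU.conj_of_mem hg)).2.2.1 X hXU hX1 (ne_bot_mono hH1 hHX)).2

/-- Two elements of `M_σ` that are conjugate in `G` are conjugate in `M`. -/
theorem Msigma_tame {M : Subgroup G} {x g : G} (hM : Mx M) (hx : x ∈ sigmaCore M)
    (hg : g * x * g⁻¹ ∈ sigmaCore M) : ∃ m ∈ M, m * x * m⁻¹ = g * x * g⁻¹ := by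
  by_cases hx1 : x = 1
  · exact ⟨1, M.one_mem, by simp [hx1]⟩
  have h1 : SigMax x M := ⟨hM, hx⟩
  have h2 : SigMax x (g⁻¹ ⋆ M) := ⟨mmax_conj hM _, by rw [Msigma_conj, S14.mem_conj, inv_inv]; exact hg⟩
  obtain ⟨h3, h4, -⟩ := FT_signalizer_trans ⟨hx1, M, h1⟩
  obtain ⟨r, ⟨hr, e⟩, -⟩ := h3 M _ h1 h2
  refine ⟨g * r, mem_of_conj_mmax_eq hM (by rw [← S14.conj_conj, ← e, S14.conj_inv]), ?_⟩
  have := S14.conj_eq_of_mem_cent1 (h4.le hr)
  calc g * r * x * (g * r)⁻¹ = g * (r * x * r⁻¹) * g⁻¹ := by group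
    _ = g * x * g⁻¹ := by rw [this]

/-- B&G Corollary 15.3(b). -/
theorem sigma_Hall_tame {π : Set ℕ} {M H : Subgroup G} {x g : G} (hM : Mx M) (hH : Hall π H (sigmaCore M))
    (hx : x ∈ H) (hg : g * x * g⁻¹ ∈ H) : ∃ n ∈ M ⊓ 𝐍(H), n * x * n⁻¹ = g * x * g⁻¹ := by
  obtain ⟨m, hm, e⟩ := Msigma_tame hM (hH.le hx) (hH.le hg)
  rw [← e] at hg ⊢
  by_cases hn : M ≤ 𝐍(H)
  · exact ⟨m, ⟨hm, hn hm⟩, rfl⟩
  have hne : fittingHallOf M ≠ sigmaCore M := fun h => hn (by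
    rw [hH.eq_of_nil ((Fcore_eq_Msigma hM).1 h)]
    exact ((Msigma_nml M).pcore π).norm)
  obtain ⟨K, hK⟩ := Hall.exists (kappa M) (mmax_sol hM)
  obtain ⟨-, ⟨-, hq, -, hqb⟩, hS⟩ := Fcore_structure_abc hM hK hne
  set q := Nat.card ↥(sigmaCore M ⊓ 𝐂(K)) with hqdef
  haveI : Fact q.Prime := ⟨hq⟩
  have hsol := sub_mmax_sol hM (Msigma_le M)
  obtain ⟨D, hD⟩ := Hall.exists {q}ᶜ hsol
  have hDnil := (Fcore_structure hM hK hne hqdef hD).1
  have hQ := pcore_nml {q} M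
  have hQs : 𝐎({q}, M) ≤ sigmaCore M := (pcore_le_Fcore hS).trans (Fcore_sub_Msigma hM)
  have hS' : Syl q 𝐎({q}, M) (sigmaCore M) := hS.of_le hQs (Msigma_le M)
  have hsd := hS'.sd ((Msigma_le M).trans hQ.norm) hD
  have hHM : H ≤ M := hH.le.trans (Msigma_le M)
  have hnil : Group.IsNilpotent (quo (sigmaCore M) 𝐎({q}, M)) := by
    rw [← hsd.sup, quo_sup_self hsd.norm]; exact nil_quo hDnil _
  have hL : Nml (𝐎({q}, M) ⊔ H) M := by
    refine ⟨sup_le hQ.le hHM, norm_of_quo_norm hQ.norm (hHM.trans hQ.norm) ?_⟩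
    rw [(hH.quo ((Msigma_le M).trans hQ.norm)).eq_of_nil hnil]
    exact norm_pcore (quo_norm (Msigma_nml M).norm _) π
  have hq' : 𝐎({q}, M) ⊓ H = ⊥ := by
    refine (pcore_pi {q} M).inf_eq_bot (PiGrp.p'_iff.2 fun hd => hn ?_)
    have h1 : 𝐎({q}, M) ≤ H := hH.ge_of_nml (hQ.of_le hQs (Msigma_le M))
      ((pcore_pi {q} M).mono (Set.singleton_subset_iff.2 (hH.pi.mem hq hd)))
    rw [sup_eq_right.2 h1] at hL
    exact hL.norm
  have hF := (hH.of_le le_sup_right (sup_le hQs hH.le)).frattini (sub_mmax_sol hM hL.le) hL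
  rw [sup_assoc, sup_eq_right.2 (le_inf hHM (le_norm H))] at hF
  rw [← hF] at hm
  obtain ⟨n, hn', z, hz, rfl⟩ := (mem_sup_right_norm (inf_le_left.trans hQ.norm)).1 (by rwa [sup_comm] at hm)
  refine ⟨n, hn', ?_⟩
  have h1 : z * x * z⁻¹ ∈ H := by
    have := conj_mem_of_norm' hn'.2 hg
    convert this using 1
    group
  have h2 : z * x * z⁻¹ * x⁻¹ ∈ 𝐎({q}, M) ⊓ H := by
    refine mem_inf.2 ⟨?_, H.mul_mem h1 (H.inv_mem hx)⟩
    have := (𝐎({q}, M)).mul_mem hz (conj_mem_of_norm (hQ.norm (hHM hx)) ((𝐎({q}, M)).inv_mem hz))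
    convert this using 1
    group
  rw [hq', mem_bot, mul_inv_eq_one] at h2
  calc n * x * n⁻¹ = n * (z * x * z⁻¹) * n⁻¹ := by rw [h2]
    _ = n * z * x * (n * z)⁻¹ := by group

end Cfsg.Lib.BG.Z
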