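import Cfsg.Agent.Lib.ZB.T15_3
import Cfsg.Agent.Lib.BG.T01_Cyclic

set_option autoImplicit false
set_option linter.unusedVariables false
set_option linter.unusedSectionVars false
set_option linter.style.haveILetI false

namespace Cfsg.Lib.BG.Z

open Subgroup
open scoped Cfsg.Lib.Transfer

variable {G : Type*} [Group G] [Finite G] [Sz G]

theorem kappa_tau2' {p : ℕ} {M : Subgroup G} (hM : Mx M) (h : p ∈ kappa M) : p ∉ tau2 M :=
  S14.tau13_tau2' (kappa_tau13 hM h)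

theorem Fitting_sigma_dprod {M : Subgroup G} (hM : Mx M) :
    DP 𝐅(sigmaCore M) 𝐎((sigma M)ᶜ, 𝐅(M)) 𝐅(M) := by
  have hd := nil_pcore_dprod (Fitting_nil M) (sigma M)
  have e : 𝐎(sigma M, 𝐅(M)) = 𝐅(sigmaCore M) := by
    rw [(Fitting_nml M).pcore_eq, (Msigma_nml M).Fitting_eq, inf_comm]; rfl
  rwa [e] at hd

/-- B&G Corollary 15.5. -/
theorem Fitting_structure {M : Subgroup G} (hM : Mx M) :
    (IsCyclic 𝐎((sigma M)ᶜ, 𝐅(M)) ∧ PiGrp (tau2 M) 𝐎((sigma M)ᶜ, 𝐅(M))) ∧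
    (⁅⁅M, M⁆, ⁅M, M⁆⁆ ≤ 𝐅(M) ∧ fittingHallOf M ⊔ (M ⊓ 𝐂(fittingHallOf M)) = 𝐅(M) ∧
      DP 𝐅(sigmaCore M) 𝐎((sigma M)ᶜ, 𝐅(M)) 𝐅(M)) ∧
    (fittingHallOf M ≤ ⁅M, M⁆ ∧
      ∀ V : Subgroup G, V ≤ ⁅M, M⁆ → V ⊓ fittingHallOf M = ⊥ → Group.IsNilpotent V) ∧
    (TypeP M → 𝐅(M) ≤ ⁅M, M⁆) := by
  have hd := Fitting_sigma_dprod hM
  have hY := (Fitting_nml M).pcore (sigma M)ᶜ
  have hH' : fittingHallOf M ≤ ⁅M, M⁆ := (Fcore_sub_Msigma hM).trans (Msigma_der1 hM)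
  obtain ⟨K, hK⟩ := Hall.exists (kappa M) (mmax_sol hM)
  by_cases he : fittingHallOf M = sigmaCore M
  · have hnil := (Fcore_eq_Msigma hM).1 he
    rw [Fitting_eq_self hnil] at hd
    obtain ⟨X, hsd, hXc, hX2⟩ := cent_Hall_sigma_sdprod hM (Hall.self (Msigma_pi M)) (Msigma_ne_bot hM)
    have hXH := (Hall.of_sd hsd ((Msigma_pi M).of_le inf_le_left) (hX2.mono fun _ h => tau2_sigma' h)).2
    have hYX : 𝐎((sigma M)ᶜ, 𝐅(M)) ≤ X :=
      hXH.ge_of_nml (hY.of_le (le_inf hY.le (cent_symm hd.cent)) inf_le_left) (pcore_pi _ _)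
    have hY2 := hX2.of_le hYX
    have hC : M ⊓ 𝐂(sigmaCore M) ≤ 𝐅(M) := by
      refine Fitting_max ((DP.of_sd hsd ?_).nil (nil_of_le hnil inf_le_left) (abelian_nil (abelian_of_cyclic hXc)))
        (Nml.cent (Msigma_nml M).norm)
      exact cent_symm ((hsd.right_le.trans inf_le_right).trans (cent_anti inf_le_left))
    refine ⟨⟨cyclic_of_le hXc hYX, hY2⟩, ⟨(der2_sub_Msigma hM).trans hd.left_le,
      le_antisymm (sup_le (Fcore_sub_Fitting M) (he ▸ hC)) (Fitting_le_Fcore_sup_cent M), Fitting_sigma_dprod hM⟩,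
      ⟨hH', fun V hV hVH => abelian_nil (abelian_iff_der.2 (eq_bot_mono hVH (le_inf (der_le V) ?_)))⟩, fun hP => ?_⟩
    · rw [he]; exact (der_mono hV).trans (der2_sub_Msigma hM)
    · obtain ⟨_, -, -, -, -, -, -, -, -, -, hsd'⟩ := Ptype_embedding hP hK
      rw [← hd.sup]
      refine sup_le (Msigma_der1 hM) (hY2.le_of_relIndex hY.le hsd'.nml.norm ?_)
      rw [hsd'.relIndex_left]
      exact hK.pi.mono fun _ h => kappa_tau2' hM h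
  · obtain ⟨⟨-, -, hder⟩, ⟨-, hq, -, -⟩, hS⟩ := Fcore_structure_abc hM hK he
    set q := Nat.card ↥(sigmaCore M ⊓ 𝐂(K)) with hqdef
    haveI : Fact q.Prime := ⟨hq⟩
    have hsol := sub_mmax_sol hM (Msigma_le M)
    obtain ⟨D, hD⟩ := Hall.exists {q}ᶜ hsol
    obtain ⟨hDnil, -, -, h1, h2, -, -, h3⟩ := Fcore_structure hM hK he hqdef hD
    have hY1 : 𝐎((sigma M)ᶜ, 𝐅(M)) = ⊥ := ((Msigma_pi M).of_le (hd.right_le.trans h3.le)).eq_bot (pcore_pi _ _)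
    have hQH := pcore_le_Fcore hS
    refine ⟨by rw [hY1]; exact ⟨inferInstance, PiGrp.bot⟩, ⟨h1, le_antisymm (sup_le (Fcore_sub_Fitting M) ?_)
      (Fitting_le_Fcore_sup_cent M), hd⟩, ⟨hH', fun V hV hVH => ?_⟩, fun _ => hder ▸ h3.le⟩
    · rw [← h2]
      exact le_sup_of_le_right (inf_le_inf_left _ (cent_anti hQH))
    · have hVM := hV.trans (der_le M)
      have h4 := hS.inf_of_normal (pcore_nml _ M).norm hVM
      rw [eq_bot_mono hVH (le_inf inf_le_right (inf_le_left.trans hQH))] at h4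
      obtain ⟨g, -, hg⟩ := hD.exists_conj_le hsol (hder ▸ hV) (h4.eq_bot_iff.1 rfl)
      exact (nil_conj g).1 (nil_of_le hDnil hg)

/-- B&G Corollary 15.6. -/
theorem Ptype_cyclics {M K : Subgroup G} (hM : TypeP M) (hK : Hall (kappa M) K M) :
    sigmaCore M ⊓ 𝐂(K) ≠ ⊥ ∧ IsCyclic ↥(sigmaCore M ⊓ 𝐂(K)) ∧ sigmaCore M ⊓ 𝐂(K) ≤ ⁅⁅M, M⁆, ⁅M, M⁆⁆ ∧
    sigmaCore M ⊓ 𝐂(K) ≤ fittingHallOf M ∧ ¬ IsCyclic (fittingHallOf M) := by
  have h1 := (Ptype_structure_c hM hK).1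
  obtain ⟨_, -, -, -, -, -, ⟨hc, -⟩, -, -, -, hsd⟩ := Ptype_embedding hM hK
  obtain ⟨U, hU⟩ := ex_kappa_compl hM.1 hK
  obtain ⟨hder, hab⟩ := (kappa_structure hM.1 hU).2.1 ((nontriv_kappa hM.1 hK).2 hM)
  obtain ⟨hsdU, -, hk⟩ := hU.sd hM.1
  rw [hder] at hk hsdU
  have h2 : sigmaCore M ⊓ 𝐂(K) ≤ ⁅⁅M, M⁆, ⁅M, M⁆⁆ := (inf_le_inf_right _ (Msigma_der1 hM.1)).trans
    (coprime_der1_sdprod hsd (hK.pi.coprime hk).symm (sub_mmax_sol hM.1 (der_le M)) le_rfl).2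
  refine ⟨h1, cyclic_of_le hc le_sup_right, h2, ?_, fun hcyc => ?_⟩
  · by_cases he : fittingHallOf M = sigmaCore M
    · rw [he]; exact inf_le_left
    · exact (Fcore_structure_Kstar hM.1 hK he).1.trans (Fcore_structure_Kstar hM.1 hK he).2
  · by_cases he : fittingHallOf M = sigmaCore M
    · rw [he] at hcyc
      have h3 := der1_cent_cyclic hcyc (Msigma_nml M).norm
      have h4 := (DP.of_sd hsdU (cent_symm (hsdU.right_le.trans h3))).abelian (abelian_of_cyclic hcyc) hab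
      exact h1 (eq_bot_mono (abelian_iff_der.1 h4) h2)
    · obtain ⟨-, ⟨-, hq, -, hb⟩, hS⟩ := Fcore_structure_abc hM.1 hK he
      haveI : Fact (Nat.card ↥(sigmaCore M ⊓ 𝐂(K))).Prime := ⟨hq⟩
      have h3 := mem_alpha_iff.1 (beta_sub_alpha M hb)
      have h4 := rk_le_one_of_cyclic (p := Nat.card ↥(sigmaCore M ⊓ 𝐂(K))) (cyclic_of_le hcyc (pcore_le_Fcore hS))
      rw [Syl.rk_eq hS] at h4
      omega

end Cfsg.Lib.BG.Z
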