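import Cfsg.Agent.Lib.ZB.T15_7Aux

set_option autoImplicit false
set_option linter.unusedVariables false
set_option linter.unusedSectionVars false
set_option linter.style.haveILetI false

namespace Cfsg.Lib.BG.Z

open Subgroup
open scoped Cfsg.Lib.Transfer

variable {G : Type*} [Group G] [Finite G] [Sz G]

/-- For `M` of type `F`, the complement `U` of a `κ`-decomposition is a complement to `M_σ`. -/
theorem TypeF.kappaCompl {M U : Subgroup G} (hM : TypeF M) (hU : Hall (sigma M)ᶜ U M) : KappaCompl M U ⊥ :=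
  ⟨Hall.bot (by rw [hM.2]; exact fun _ _ _ h => h), by rw [hM.2, Set.union_empty]; exact hU, bot_le⟩

/-- B&G Theorem 15.7 (with the first equality of (c) weakened to an inclusion, as in the Coq proof). -/
theorem nonTI_Fitting_structure {M : Subgroup G} {g : G} (hM : Mx M) (hg : g ∉ M)
    (hX : 𝐅(M) ⊓ g ⋆ 𝐅(M) ≠ ⊥) :
    ((TypeF M ∨ TypeP1 M) ∧ fittingHallOf M = sigmaCore M) ∧
    (𝐅(M) ⊓ g ⋆ 𝐅(M) ≤ fittingHallOf M ∧ IsCyclic ↥(𝐅(M) ⊓ g ⋆ 𝐅(M))) ∧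
    (⁅M, M⁆ ≤ 𝐅(M) ∧ DP (sigmaCore M) 𝐎((sigma M)ᶜ, 𝐅(M)) 𝐅(M)) ∧
    (∀ E E₁ E₂ E₃ : Subgroup G, SigmaCompl M E E₁ E₂ E₃ → E₃ = ⊥ ∧ SD E₂ E₁ E) ∧
    ((TypeF M ∧ IsMulCommutative (fittingHallOf M) ∧ rank (fittingHallOf M) = 2) ∨
      ∃ p : ℕ, p.Prime ∧ Nat.card ↥(𝐅(M) ⊓ g ⋆ 𝐅(M)) = p ∧ p ∈ sigma M ∧ p ∉ beta M ∧
        ¬ IsMulCommutative 𝐎({p}, fittingHallOf M) ∧ IsCyclic 𝐎({p}ᶜ, fittingHallOf M) ∧
        ((∀ q : ℕ, q.Prime → q ∣ Nat.card (fittingHallOf M) → ∀ m ∈ M, m ^ (q - 1) ∈ fittingHallOf M) ∨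
          (Nat.card 𝐎({p}, fittingHallOf M) = p ^ 3 ∧ TypeP1 M ∧ (fittingHallOf M).relIndex M ∣ p + 1))) := by
  set X := 𝐅(M) ⊓ g ⋆ 𝐅(M) with hXdef
  have hXs : X ≤ sigmaCore M := nonTI_Fitting_sigma hM hg
  have hXg : X ≤ g ⋆ M := inf_le_right.trans (S14.conj_mono g (Fitting_le M))
  obtain ⟨E₀, hE₀⟩ := Hall.exists (sigma M)ᶜ (mmax_sol hM)
  obtain ⟨hc, hb, -⟩ := (sigma_compl_embedding hM hE₀).2.2 g hg
  replace hc : IsCyclic X := cyclic_of_le hc (le_inf hXs hXg)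
  replace hb : PiGrp (beta M)ᶜ X := hb.of_le (le_inf hXs hXg)
  have hnC : ∀ (q : ℕ) [Fact q.Prime] (Y : Subgroup G), Elem q 1 Y X → ¬ 𝐂(Y) ≤ M := fun q _ Y hY h =>
    hg (sigma_group_trans_e hM (hY.mem_pi one_ne_zero ((Msigma_pi M).of_le hXs)) hY.pgroup
      ((hY.le.trans hXs).trans (Msigma_le M)) h (hY.le.trans hXg))
  obtain ⟨p, hp, hd⟩ := Nat.exists_prime_and_dvd (card_ne_one hX)
  haveI : Fact p.Prime := ⟨hp⟩
  obtain ⟨X₁, hX₁⟩ := Elem.exists_one hd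
  have hps : p ∈ sigma M := ((Msigma_pi M).of_le hXs).mem hp hd
  have hpb : p ∉ beta M := hb.mem hp hd
  obtain ⟨hrk, hder, hnil, hab⟩ := nonTI_aux1 hM (hX₁.mono inf_le_left) (hnC p X₁ hX₁)
  have he := (Fcore_eq_Msigma hM).2 hnil
  have hdp := Fitting_sigma_dprod hM
  rw [Fitting_eq_self hnil] at hdp
  obtain ⟨K, hK⟩ := Hall.exists (kappa M) (mmax_sol hM)
  have htype : TypeF M ∨ TypeP1 M := by
    rcases mmax_type_cases hM with h | h | h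
    exacts [Or.inl h, Or.inr h, absurd ((Ptype_structure_g h hK).1 ▸ hps) hpb]
  rw [he]
  refine ⟨⟨htype, rfl⟩, ⟨hXs, hc⟩, ⟨hder, hdp⟩, fun E E₁ E₂ E₃ hE => ?_, ?_⟩
  · obtain ⟨⟨h1, -⟩, -, -, ⟨-, -, -, h2⟩, -⟩ := sigma_compl_context hM hE
    have h3 : E₃ = ⊥ := by
      have h4 : E₃ ≤ 𝐎((sigma M)ᶜ, 𝐅(M)) := nil_le_pcore (Fitting_nil M) ((h1.trans (der_mono hE.hallE.le)).trans hder)
        (hE.hallE.pi.of_le hE.hall₃.le)
      exact hE.hall₃.pi.eq_bot' ((Fitting_structure hM).1.2.of_le h4) fun _ h => tau3_tau2' h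
    rw [h3, bot_sup_eq] at h2
    exact ⟨h3, h2⟩
  have hX₁s := hX₁.mono hXs
  by_cases hH : IsMulCommutative (sigmaCore M)
  · refine Or.inl ⟨htype.resolve_right fun h => ?_, hH, le_antisymm ?_ ?_⟩
    · obtain ⟨h1, -, h2, -⟩ := Ptype_cyclics h.1 hK
      rw [← (P1type_structure h hK).2.1, abelian_iff_der.1 hH] at h2
      exact h1 (le_bot_iff.1 h2)
    · exact (rank_mono (le_inf (Msigma_le M) (abelian_cent' hH le_rfl hX₁s.le))).trans hrk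
    · refine abelian_one_lt_rank hH fun h => hnC p X₁ hX₁ ?_
      exact mmax_cent_le hM ((Msigma_nml M).of_le_cyclic h hX₁s.le) (hX₁.ne_bot one_ne_zero)
  right
  have hd' := nil_pcore_dprod hnil {p}
  have hab' := nonTI_aux2 hM hX₁s hnil hab
  have hna : ¬ IsMulCommutative 𝐎({p}, sigmaCore M) := fun h => hH (hd'.abelian h hab')
  obtain ⟨hcyc, hnar, hZ, hY⟩ := nonTI_aux3 hM hX₁s (hnC p X₁ hX₁) hnil hab hna
  have hXp : X ≤ 𝐎({p}, sigmaCore M) := by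
    refine nil_le_pcore hnil hXs fun q hq hqd => ?_
    by_contra hqp
    haveI : Fact q.Prime := ⟨hq⟩
    obtain ⟨Y, hY⟩ := Elem.exists_one hqd
    have h1 := nonTI_aux2 hM (hY.mono hXs) hnil (nonTI_aux1 hM (hY.mono inf_le_left) (hnC q Y hY)).2.2.2
    exact hna (abelian_of_le h1 (pcore_mono (fun r hr hr' => hqp ((Set.mem_singleton_iff.1 hr').symm.trans hr)) _))
  refine ⟨p, hp, by rw [hY X hX₁.le hXp hc]; exact hX₁.card_one, hps, hpb, hna, hcyc, ?_⟩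
  -- for each prime `q` dividing `|M_σ|` there is a normal subgroup of order `q`
  have hZq : ∀ q : ℕ, q.Prime → q ∣ Nat.card (sigmaCore M) → q ≠ p →
      ∃ Z : Subgroup G, Nml Z M ∧ Z ≤ 𝐎({p}ᶜ, sigmaCore M) ∧ Nat.card Z = q := fun q hq hqd hqp => by
    haveI : Fact q.Prime := ⟨hq⟩
    have h1 := cyclic_elem_Ohm1 hcyc ((nil_pcore_Hall hnil {p}ᶜ).dvd_card hq hqd hqp)
    exact ⟨_, ((Msigma_nml M).pcore _).Ohm1 q, h1.le, h1.card_one⟩
  have hZn : Nml (omegaOne p 𝐙(𝐎({p}, sigmaCore M))) M := ((Msigma_nml M).pcore _).center.Ohm1 p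
  rcases htype with hF | hP
  · left
    obtain ⟨-, -, -, -, U₀, hU₀, hexp, hreg⟩ := kappa_structure hM (hF.kappaCompl hE₀)
    intro q hq hqd m hm
    refine (sdprod_sigma hM hE₀).pow_mem (fun u hu => ?_) hm
    have h1 : Nat.card U₀ ∣ q - 1 := by
      by_cases hqp : q = p
      · rw [hqp, ← hZ]
        exact regular_norm_dvd_pred ((hU₀.trans hE₀.le).trans hZn.norm)
          (hreg.mono (((Ohm1_le p _).trans inf_le_left).trans (pcore_le _ _)) le_rfl)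
      · obtain ⟨Z, h1, h2, rfl⟩ := hZq q hq hqd hqp
        exact regular_norm_dvd_pred ((hU₀.trans hE₀.le).trans h1.norm) (hreg.mono (h2.trans (pcore_le _ _)) le_rfl)
    have h2 : Monoid.exponent E₀ ∣ q - 1 := hexp ▸ Group.exponent_dvd_nat_card.trans h1
    exact congrArg Subtype.val (Monoid.exponent_dvd_iff_forall_pow_eq_one.1 h2 ⟨u, hu⟩)
  obtain ⟨hsd, hder', -, -⟩ := P1type_structure hP hK
  by_cases hnd : Nat.card K ∣ p - 1
  · left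
    intro q hq hqd m hm
    refine hsd.pow_mem (fun u hu => ?_) hm
    have h1 : Nat.card K ∣ q - 1 := by
      by_cases hqp : q = p
      · rwa [hqp]
      · obtain ⟨Z, h1, h2, rfl⟩ := hZq q hq hqd hqp
        refine regular_norm_dvd_pred (hK.le.trans h1.norm) fun x hx hx1 => eq_bot_mono hd'.inf (le_inf ?_ ?_)
        · have h3 := hd'.sd.der_le
          rw [abelian_iff_der.1 hab', sup_bot_eq] at h3
          have h4 := (Ptype_cyclics hP.1 hK).2.2.1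
          rw [← hder', ← (Ptype_structure_a hP.1 hK).1 x hx hx1] at h4
          exact ((inf_le_inf_right _ (h2.trans (pcore_le _ _))).trans h4).trans h3
        · exact inf_le_left.trans h2
    exact orderOf_dvd_iff_pow_eq_one.1 ((K.orderOf_dvd_natCard hu).trans h1)
  · obtain ⟨h1, h2⟩ := nonTI_aux4 hP hK hps hnil hna hnar hZ hnd
    exact Or.inr ⟨h1, hP, hsd.relIndex_left ▸ h2⟩

omit [Finite G] [Sz G] in
/-- The non-identity elements of a normal subgroup `H ≠ 1` of `M` form a TI-set with normalizer `M` iff `H ∩ H^g = 1` for `g ∉ M`. -/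
theorem normedTI_sharp_iff {H M : Subgroup G} (hH : M ≤ 𝐍(H)) (h1 : H ≠ ⊥) :
    NormedTI ((H : Set G) \ {1}) M ↔ ∀ g : G, g ∉ M → H ⊓ g ⋆ H = ⊥ := by
  constructor
  · intro h g hg
    by_contra hne
    obtain ⟨x, ⟨hx, hxg⟩, hx1⟩ := exists_ne_one hne
    refine hg ((h.2 (g⁻¹ * x * g) ⟨S14.mem_conj.1 hxg, S14.conj_ne_one' hx1 g⟩ g).1 ?_)
    rw [show g * (g⁻¹ * x * g) * g⁻¹ = x by group]
    exact ⟨hx, hx1⟩
  · intro h
    obtain ⟨x, hx, hx1⟩ := exists_ne_one h1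
    refine ⟨⟨x, hx, hx1⟩, fun a ha g => ⟨fun hg => ?_, fun hg => ⟨conj_mem_of_norm (hH hg) ha.1, S14.conj_ne_one ha.2 g⟩⟩⟩
    by_contra hgM
    exact hg.2 (mem_bot.1 (h g hgM ▸ mem_inf.2 ⟨hg.1, S14.conj_mem_conj.2 ha.1⟩))

/-- A supplement to B&G Theorem 15.7. -/
theorem nonTI_Fitting_facts {M : Subgroup G} (hM : Mx M) (h : ¬ NormedTI ((𝐅(M) : Set G) \ {1}) M) :
    (TypeF M ∨ TypeP1 M) ∧ fittingHallOf M = sigmaCore M ∧ ⁅M, M⁆ ≤ 𝐅(M) := by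
  rw [normedTI_sharp_iff (Fitting_nml M).norm (mmax_Fitting_ne_bot hM)] at h
  simp only [not_forall] at h
  obtain ⟨g, hg, h⟩ := h
  obtain ⟨⟨h1, h2⟩, -, ⟨h3, -⟩, -⟩ := nonTI_Fitting_structure hM hg h
  exact ⟨h1, h2, h3⟩

end Cfsg.Lib.BG.Z
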