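import Cfsg.Agent.Lib.BG.T15_7Aux
import Cfsg.Agent.Lib.ZB.T15_5
import Cfsg.Agent.Lib.BG.T05_5
import Cfsg.Agent.Lib.ZB.T09_2
import Cfsg.Agent.Lib.ZB.T09_6
import Cfsg.Agent.Lib.ZB.T10_1
import Cfsg.Agent.Lib.ZB.T10_7
import Cfsg.Agent.Lib.ZB.T10_13
import Cfsg.Agent.Lib.ZB.T12_13
import Cfsg.Agent.Lib.ZB.T12_17
import Cfsg.Agent.Lib.PGroup.Frattini
import Cfsg.Agent.S3767

/-!
# Lemmas for B&G Theorem 15.7
-/

set_option autoImplicit false
set_option linter.unusedVariables false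
set_option linter.unusedSectionVars false
set_option linter.style.haveILetI false

namespace Cfsg.Lib.BG.Z

open Subgroup
open scoped Cfsg.Lib.Transfer

variable {G : Type*} [Group G] [Finite G]

theorem nil_abelian_of_pcore {H : Subgroup G} (h : Group.IsNilpotent H)
    (hab : ∀ q : ℕ, q.Prime → IsMulCommutative 𝐎({q}, H)) : IsMulCommutative H := by
  refine abelian_iff.2 (nil_le_of_pcore_le h fun q hq _ => cent_symm (nil_le_of_pcore_le h fun r _ _ => ?_))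
  by_cases e : r = q
  · rw [e]; exact abelian_cent (hab q hq)
  · exact pcore_cent (fun s hs hs' => e ((Set.mem_singleton_iff.1 hs).symm.trans hs')) H

theorem extraspecial_of_p3group {p : ℕ} [Fact p.Prime] {S : Subgroup G} (hab : ¬ IsMulCommutative S)
    (hc : Nat.card S = p ^ 3) (he : ∀ x ∈ S, x ^ p = 1) : IsExtraspecial p S := by
  have hp : IsPGroup p S := IsPGroup.of_card hc
  have h1 : _root_.commutator S = center S := by
    apply map_injective S.subtype_injective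
    rw [map_subtype_commutator, Core.map_subtype_center, A10.der_eq_center_p3group hab hc]
  refine ⟨⟨hp, ?_, h1⟩, ?_⟩
  · rw [← h1]
    refine le_antisymm (PGroup.frattini_le_of_commutator_le_of_pow_mem (p := p) le_rfl fun x => ?_)
      (PGroup.commutator_le_frattini hp)
    rw [show x ^ p = 1 from Subtype.ext (he x x.2)]
    exact one_mem _
  · rw [← A10.card_center_p3group hab hc, ← Core.map_subtype_center, Core.card_map_subtype]

variable [Sz G]

/-- A subgroup of prime order outside `σ(M)` of `F(M)` is normal in `M`. -/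
theorem sigma'_Fitting_nml {M X : Subgroup G} (hM : Mx M) (hX : X ≤ 𝐅(M)) (hs : PiGrp (sigma M)ᶜ X) :
    Nml X M :=
  ((Fitting_nml M).pcore (sigma M)ᶜ).of_le_cyclic (Fitting_structure hM).1.1 (nil_le_pcore (Fitting_nil M) hX hs)

theorem nonTI_Fitting_sigma {M : Subgroup G} {g : G} (hM : Mx M) (hg : g ∉ M) :
    𝐅(M) ⊓ g ⋆ 𝐅(M) ≤ sigmaCore M := by
  refine (Msigma_Hall hM).ge_of_normal (Msigma_nml M).norm (inf_le_left.trans (Fitting_le M)) fun p hp hd => ?_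
  by_contra hs
  haveI : Fact p.Prime := ⟨hp⟩
  obtain ⟨X, hX⟩ := Elem.exists_one hd
  have h1 := sigma'_Fitting_nml hM (hX.le.trans inf_le_left) (hX.pi hs)
  have h2 := sigma'_Fitting_nml (mmax_conj hM g) (hX.le.trans (inf_le_right.trans (conj_Fitting g M).le))
    (hX.pi (by rwa [sigma_conj]))
  exact hg (mem_of_conj_mmax_eq hM (mmax_eq_of_norm hM (mmax_conj hM g) (hX.ne_bot one_ne_zero)
    (sub_mmax_proper hM h1.le) h1.norm h2.norm))

section
variable {p : ℕ} [hp : Fact p.Prime] {M X : Subgroup G}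

/-- Consequences of the existence of a subgroup `X` of order `p` of `M_σ ∩ F(M)` with `C(X) ⊄ M`. -/
theorem nonTI_aux1 (hM : Mx M) (hX : Elem p 1 X 𝐅(M)) (hC : ¬ 𝐂(X) ≤ M) :
    rank (M ⊓ 𝐂(X)) ≤ 2 ∧ ⁅M, M⁆ ≤ 𝐅(M) ∧ Group.IsNilpotent (sigmaCore M) ∧
      IsMulCommutative ↥(sigmaCore M ⊓ 𝐂(X)) := by
  have hX1 := hX.ne_bot one_ne_zero
  have h1 : rank (M ⊓ 𝐂(X)) ≤ 2 := by
    by_contra h
    exact hC ((rank3_Uniqueness (sub_mmax_proper hM inf_le_left) (not_le.1 h)).ge hM inf_le_left inf_le_right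
      (mFT_cent_proper hX1))
  have h2 : ⁅M, M⁆ ≤ 𝐅(M) := rank2_cent_Fitting_der1 (mmax_sol hM) (mFT_odd M) hX.le hX.elem
    ((rank_mono (inf_le_inf_right _ (Fitting_le M))).trans h1)
  have h3 := nil_of_le (Fitting_nil M) ((Msigma_der1 hM).trans h2)
  refine ⟨h1, h2, h3, nil_abelian_of_pcore (nil_of_le h3 inf_le_left) fun q hq => ?_⟩
  haveI : Fact q.Prime := ⟨hq⟩
  by_contra h
  have hD : q ∈ DD G := (hM.sub (((pcore_le _ _).trans inf_le_left).trans (Msigma_le M))).D_of_not_cyclic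
    (pcore_pgroup q _) fun hc => h (abelian_of_cyclic hc)
  exact hC ((nonabelian_Uniqueness (pcore_pgroup q _) h).ge hM
    (((pcore_le _ _).trans inf_le_left).trans (Msigma_le M)) ((pcore_le _ _).trans inf_le_right) (mFT_cent_proper hX1))

theorem nonTI_aux2 (hM : Mx M) (hX : Elem p 1 X (sigmaCore M)) (hnil : Group.IsNilpotent (sigmaCore M))
    (hab : IsMulCommutative ↥(sigmaCore M ⊓ 𝐂(X))) : IsMulCommutative 𝐎({p}ᶜ, sigmaCore M) :=
  abelian_of_le hab (le_inf (pcore_le _ _) ((cent_symm (nil_pcore_dprod hnil {p}).cent).trans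
    (cent_anti (nil_le_pcore hnil hX.le (hX.pi rfl)))))

/-- The non-abelian case of B&G 15.7(e): the structure of `C_P(X)`, `P = O_p(M_σ)`. -/
theorem nonTI_aux3 (hM : Mx M) (hX : Elem p 1 X (sigmaCore M)) (hC : ¬ 𝐂(X) ≤ M)
    (hnil : Group.IsNilpotent (sigmaCore M)) (hab : IsMulCommutative ↥(sigmaCore M ⊓ 𝐂(X)))
    (hna : ¬ IsMulCommutative 𝐎({p}, sigmaCore M)) :
    IsCyclic 𝐎({p}ᶜ, sigmaCore M) ∧ Narrow p 𝐎({p}, sigmaCore M) ∧
      Nat.card (omegaOne p 𝐙(𝐎({p}, sigmaCore M))) = p ∧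
      ∀ Y : Subgroup G, X ≤ Y → Y ≤ 𝐎({p}, sigmaCore M) → IsCyclic Y → Y = X := by
  set P := 𝐎({p}, sigmaCore M) with hPdef
  have hP : IsPGroup p P := pcore_pgroup p _
  have hPM : P ≤ M := (pcore_le _ _).trans (Msigma_le M)
  have hX1 := hX.ne_bot one_ne_zero
  have hXP : X ≤ P := nil_le_pcore hnil hX.le (hX.pi rfl)
  have hd := nil_pcore_dprod hnil {p}
  have hXZ : ¬ X ≤ 𝐂(P) := fun h => hna (abelian_of_le hab (le_inf (pcore_le _ _) (cent_symm h)))
  obtain ⟨Z, hZ⟩ := Elem.exists_one_of_pgroup (pgroup_of_le hP (inf_le_left : 𝐙(P) ≤ P))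
    (center_ne_bot_of_nil (pgroup_nil hP) (ne_bot_mono hX1 hXP))
  have hZC : Z ≤ 𝐂(P) := hZ.le.trans inf_le_right
  have hB : Elem p 2 (Z ⊔ X) P := (hZ.mono inf_le_left).sup_one (hX.of_le hXP) (hZC.trans (cent_anti hXP))
    fun h => hXZ (h.trans hZC)
  have hBC : Z ⊔ X ≤ 𝐂(X) := hB.cent.trans (cent_anti le_sup_right)
  have hBm : MaxElem p (Z ⊔ X) ⊤ := by
    by_contra h
    exact hC ((nonmaxElem2_Uniqueness hB.top h).ge hM (hB.le.trans hPM) hBC (mFT_cent_proper hX1))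
  obtain ⟨h1, ⟨Y₀, hY₀, -, h2⟩, -⟩ := basic_p2maxElem_structure hB.top hBm hP hB.le hna
  have h3 := h2 X (hX.of_le le_sup_right) fun e => hXZ (e ▸ (Ohm1_le p _).trans inf_le_right)
  refine ⟨?_, fun _ => ⟨_, hB, hBm.of_le hB.le le_top⟩, h1.card_one, fun Y hXY hYP hY => ?_⟩
  · by_contra h
    have h4 := nil_one_lt_rank (nil_of_le hnil (pcore_le _ _)) (mFT_odd _) h
    exact hC ((cent_uniq_Uniqueness (nonabelian_Uniqueness hP hna) (cent_symm hd.cent) h4).ge hM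
      ((pcore_le _ _).trans (Msigma_le M)) ((cent_symm hd.cent).trans (cent_anti hXP)) (mFT_cent_proper hX1))
  · have h4 := h3.restrict hXY (le_inf hYP (le_cent_sup (cent_symm (hZC.trans (cent_anti hYP)))
      (abelian_cent' (abelian_of_cyclic hY) le_rfl hXY)))
    by_cases h5 : Y₀ ⊓ Y = ⊥
    · rw [← h4.sup, h5, sup_bot_eq]
    · obtain ⟨W, hW⟩ := Elem.exists_one_of_pgroup (pgroup_of_le hP (inf_le_right.trans hYP)) h5
      have h6 : W = X := cyclic_eq_of_card hY (hW.le.trans inf_le_right) hXY (hW.card_one.trans hX.card_one.symm)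
      exact absurd (eq_bot_mono h4.inf (le_inf le_rfl (h6 ▸ hW.le))) hX1

/-- The type `P₁` case of B&G 15.7(e). -/
theorem nonTI_aux4 {K : Subgroup G} (hM : TypeP1 M) (hK : Hall (kappa M) K M) (hps : p ∈ sigma M)
    (hnil : Group.IsNilpotent (sigmaCore M)) (hna : ¬ IsMulCommutative 𝐎({p}, sigmaCore M))
    (hnar : Narrow p 𝐎({p}, sigmaCore M)) (hZ : Nat.card (omegaOne p 𝐙(𝐎({p}, sigmaCore M))) = p)
    (hnd : ¬ Nat.card K ∣ p - 1) : Nat.card 𝐎({p}, sigmaCore M) = p ^ 3 ∧ Nat.card K ∣ p + 1 := by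
  obtain ⟨hsd, -, hq, -⟩ := P1type_structure hM hK
  have hpr := (Ptype_structure_a hM.1 hK).1
  have hKc := kappa_Hall_cyclic hM.1.1 hK
  set P := 𝐎({p}, sigmaCore M) with hPdef
  have hP : IsPGroup p P := pcore_pgroup p _
  have hPn : Nml P M := (Msigma_nml M).pcore _
  have hPs : P ≤ sigmaCore M := pcore_le _ _
  have hp2 : p ≠ 2 := mFT_ne_two (sigma_dvd hps)
  have hcop : (Nat.card K).Coprime p := (hK.pi.p'_of_not_mem fun h => kappa_sigma' h hps).coprime_p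
  have hZn : Nml (omegaOne p 𝐙(P)) M := hPn.center.Ohm1 p
  have hZs : omegaOne p 𝐙(P) ≤ sigmaCore M := ((Ohm1_le p _).trans inf_le_left).trans hPs
  have hZp : (Nat.card (omegaOne p 𝐙(P))).Prime := hZ.symm ▸ hp.out
  have hZK : omegaOne p 𝐙(P) = sigmaCore M ⊓ 𝐂(K) := by
    have h1 : ¬ SemiReg (omegaOne p 𝐙(P)) K := fun h => hnd (hZ ▸ regular_norm_dvd_pred (hK.le.trans hZn.norm) h)
    simp only [SemiReg, not_forall] at h1
    obtain ⟨x, hx, hx1, h1⟩ := h1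
    have h2 : omegaOne p 𝐙(P) ≤ sigmaCore M ⊓ 𝐂(K) := by
      rw [← hpr x hx hx1]
      exact le_inf hZs (le_of_prime_of_inf_ne_bot hZp h1)
    exact (eq_bot_or_eq_of_prime hq h2).resolve_left (ne_bot_of_prime hZp)
  have hfix : ∀ x ∈ K, x ≠ 1 → P ⊓ 𝐂[x] = omegaOne p 𝐙(P) := fun x hx hx1 => by
    refine le_antisymm (by rw [hZK, ← hpr x hx hx1]; exact inf_le_inf_right _ hPs)
      (le_inf ((Ohm1_le p _).trans inf_le_left) ?_)
    rw [hZK]; exact inf_le_right.trans (cent_le_cent1 hx)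
  have h2 : rk p P ≤ 2 := by
    by_contra h
    obtain ⟨a, ha, rfl⟩ := cyclic_iff.1 hKc
    rw [Nat.card_zpowers] at hnd hcop
    have h3 := Aut_narrow_b hp2 hP hnar (not_le.1 h) (hPn.norm (hK.le ha))
      (by rw [← Nat.card_zpowers]; exact mFT_odd _) hcop
    have h4 := hfix _ (pow_mem ha (p - 1)) fun e => hnd (orderOf_dvd_of_pow_eq_one e)
    rw [inf_eq_left.2 (le_cent1_iff.2 h3)] at h4
    exact hna (h4.symm ▸ abelian_of_cyclic (cyclic_of_prime hZp))
  have hPS : Syl p P ⊤ := Syl.of_Hall (nil_pcore_Hall hnil {p}) (Msigma_Hall_G hM.1.1) hps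
  obtain ⟨S, C, hS1, hS2, hS3, hC, hSC, hsup, hΩ⟩ := mFT_rank2_Sylow_cprod hPS h2 hna
  have hZP : 𝐙(P) = omegaOne p 𝐙(P) := by
    refine le_antisymm ?_ (Ohm1_le p _)
    have h3 := coprime_abelian_cent_Ohm1 (hK.le.trans hPn.center.norm) hcop (pgroup_of_le hP inf_le_left)
      (abelian_center P) (by rw [hZK]; exact cent_symm inf_le_right)
    rw [hZK]
    exact le_inf (inf_le_left.trans hPs) (cent_symm h3)
  have hCZ : C ≤ 𝐙(P) := le_inf (hsup ▸ le_sup_right)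
    (hsup ▸ le_cent_sup (cent_symm hSC) (abelian_cent (abelian_of_cyclic hC)))
  have hCS : C ≤ S := by
    refine (elab_le_Ohm1 (p := p) (elab_of_le (elab_Ohm1_center p P) (hZP ▸ hCZ)) le_rfl).trans ?_
    rw [hΩ]; exact inf_le_left
  rw [sup_eq_left.2 hCS] at hsup
  subst hsup
  refine ⟨hS2, (Cfsg.Agent.S3767.result _ K (extraspecial_of_p3group hS1 hS2 hS3) 1 hS2 hKc hcop (hK.le.trans hPn.norm)
    fun x hx hx1 => ?_).elim (by simp) (by simpa using fun h => absurd h hnd)⟩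
  rw [Core.map_subtype_center, hfix x hx hx1, ← hZP]

end

end Cfsg.Lib.BG.Z
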