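import Cfsg.Agent.Lib.BG.T16_2
import Cfsg.Agent.Lib.ZB.T16_1
import Cfsg.Agent.Lib.ZB.T14_13

/-!
# B&G Section 16: the sets `A(M)`, `A₀(M)` (Theorems B, C and II)
-/

set_option autoImplicit false
set_option linter.unusedVariables false
set_option linter.unusedSectionVars false
set_option linter.style.haveILetI false

namespace Cfsg.Lib.BG.Z

open Subgroup
open scoped Cfsg.Lib.Transfer

variable {G : Type*} [Group G] [Finite G] [Sz G] {M K U : Subgroup G} {a g x : G}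

/-- `A(M)`, without reference to a choice of `U` (and without the identity). -/
def hatA (M : Subgroup G) : Set G := {a | a ∈ sigmaHat M ∧ a ≠ 1 ∧ PiElt (kappa M)ᶜ a}

omit [Finite G] [Sz G] in
theorem sigmaHat_conj (h : a ∈ sigmaHat M) (hg : g ∈ M) : g * a * g⁻¹ ∈ sigmaHat M := by
  obtain ⟨ha, y, hy, hy1, e⟩ := h
  refine ⟨M.mul_mem (M.mul_mem hg ha) (M.inv_mem hg), _, conj_mem_of_norm ((Msigma_nml M).norm hg) hy,
    S14.conj_ne_one hy1 g, ?_⟩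
  calc g * a * g⁻¹ * (g * y * g⁻¹) = g * (a * y) * g⁻¹ := by group
    _ = g * y * g⁻¹ * (g * a * g⁻¹) := by rw [e]; group

omit [Finite G] [Sz G] in
theorem hatA_conj (h : a ∈ hatA M) (hg : g ∈ M) : g * a * g⁻¹ ∈ hatA M :=
  ⟨sigmaHat_conj h.1 hg, S14.conj_ne_one h.2.1 g, h.2.2.conj g⟩

omit [Sz G] in
theorem mem_hatA_of_mem_Msigma (hx : x ∈ sigmaCore M) (h1 : x ≠ 1) : x ∈ hatA M :=
  ⟨⟨Msigma_le M hx, x, hx, h1, rfl⟩, h1, ((Msigma_pi M).elt hx).mono fun _ hs hk => S14.kappa_sigma' hk hs⟩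

theorem KappaCompl.mem_sup_iff (hM : Mx M) (h : KappaCompl M U K) :
    a ∈ sigmaCore M ⊔ U ↔ a ∈ M ∧ PiElt (kappa M)ᶜ a := by
  obtain ⟨hsd, hH⟩ := S14.kappaCompl_sd hM h
  exact ⟨fun ha => ⟨hH.le ha, hH.pi.elt ha⟩, fun ha => hH.mem_of_normal hsd.nml.norm ha.1 ha.2⟩

theorem KappaCompl.mem_sigmaA_iff (hM : Mx M) (h : KappaCompl M U K) :
    a ∈ sigmaA M U ↔ a ∈ sigmaHat M ∧ PiElt (kappa M)ᶜ a := by
  rw [sigmaA, Set.mem_inter_iff, SetLike.mem_coe, sup_comm, h.mem_sup_iff hM]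
  exact ⟨fun h => ⟨h.1, h.2.2⟩, fun h => ⟨h.1, h.1.1, h.2⟩⟩

theorem TypeP.mem_der_iff (hM : TypeP M) : a ∈ ⁅M, M⁆ ↔ a ∈ M ∧ PiElt (kappa M)ᶜ a := by
  obtain ⟨K, hK⟩ := Hall.exists (kappa M) (mmax_sol hM.1)
  have hH := (hM.der_sd hK).2
  exact ⟨fun ha => ⟨hH.le ha, hH.pi.elt ha⟩, fun ha => hH.mem_of_normal (Nml.der_self M).norm ha.1 ha.2⟩

omit [Finite G] [Sz G] in
theorem TypeF.piElt (hM : TypeF M) (a : G) : PiElt (kappa M)ᶜ a := fun _ _ _ h => by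
  rw [hM.2] at h; exact h

theorem hatA_sigma'_part (hM : Mx M) (h : a ∈ hatA M) (hx : x ∈ zpowers a) (h1 : x ≠ 1)
    (hs : PiElt (sigma M)ᶜ x) : PiElt (tau2 M) x ∧ UniqMax 𝐂[x] M := by
  obtain ⟨⟨ha, y, hy, hy1, e⟩, -, hk⟩ := h
  have hle : zpowers a ≤ M ⊓ 𝐂[y] := zpowers_le.2 ⟨ha, mem_cent1.2 e⟩
  rcases pi_of_cent_sigma hM hy hy1 (hle hx) h1 hs with h | h
  · exact absurd (h.1.eq_one (hk.of_mem_zpowers hx)) h1
  · exact ⟨h.1, h.2.2⟩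

/-- B&G Theorem B(5). -/
theorem hatA_TI (hM : Mx M) (h : a ∈ hatA M) (hs : a ∉ sigmaCore M) (hg : g * a * g⁻¹ ∈ hatA M) :
    g ∈ M := by
  obtain ⟨y, hy, z, hz, hyp, hzp, e, -⟩ := exists_pi_decomp (sigma M) a
  have hz1 : z ≠ 1 := by
    rintro rfl
    exact hs (S14.mem_Ms hM h.1.1 (by rw [e, mul_one]; exact hyp))
  have hz' : g * z * g⁻¹ ∈ zpowers (g * a * g⁻¹) := by
    rw [← S14.conj_zpowers]; exact S14.conj_mem_conj.2 hz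
  refine (hatA_sigma'_part hM h hz hz1 hzp).2.mem_of_conj_le ?_
  rw [conj_cent1]
  exact (hatA_sigma'_part hM hg hz' (S14.conj_ne_one hz1 g) (hzp.conj g)).2.le

theorem hatA_diff_conj_iff (hM : Mx M) (h : a ∈ hatA M \ (sigmaCore M : Set G)) (g : G) :
    g * a * g⁻¹ ∈ hatA M \ (sigmaCore M : Set G) ↔ g ∈ M := by
  refine ⟨fun hg => hatA_TI hM h.1 h.2 hg.1, fun hg => ⟨hatA_conj h.1 hg, fun h' => h.2 ?_⟩⟩
  simpa [mul_assoc] using conj_mem_of_norm' ((Msigma_nml M).norm hg) h'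

theorem hatA_cent_le (hM : Mx M) (h : a ∈ hatA M) (hs : a ∉ sigmaCore M) : 𝐂[a] ≤ M := fun _ hg =>
  hatA_TI hM h hs ((S14.conj_eq_of_mem_cent1 hg).symm ▸ h)

theorem Fitting_mem_hatA (hM : Mx M) (ha : a ∈ 𝐅(M)) (h1 : a ≠ 1) : a ∈ hatA M := by
  obtain ⟨y, hy, hy1⟩ := exists_ne_one (nil_meet_center (Fitting_nil M) (Fcore_sub_Fitting M)
    (norm_Fcore (Fitting_le M)) (Fcore_ne_bot hM))
  refine ⟨⟨Fitting_le M ha, y, Fcore_sub_Msigma hM hy.1, hy1, mem_cent.1 hy.2 a ha⟩, h1, ?_⟩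
  rcases typeF_or_typeP hM with h | h
  · exact h.piElt a
  · exact (h.mem_der_iff.1 ((Fitting_structure hM).2.2.2 h ha)).2

/-! ### The set `Ẑ` -/

omit [Finite G] [Sz G] in
theorem mem_zhat {A B : Subgroup G} : x ∈ zhat A B ↔ x ∈ A ⊔ B ∧ x ∉ A ∧ x ∉ B := by
  simp [zhat, not_or]

omit [Finite G] [Sz G] in
theorem clsupp_conj {A : Set G} (h : a ∈ clsupp A M) (hg : g ∈ M) : g * a * g⁻¹ ∈ clsupp A M := by
  obtain ⟨m, hm, z, hz, rfl⟩ := h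
  exact ⟨g * m, M.mul_mem hg hm, z, hz, by group⟩

/-- B&G Theorem C(9), the TI part. -/
theorem TypeP.clsupp_zhat_conj_iff (hM : TypeP M) (hK : Hall (kappa M) K M)
    (h : a ∈ clsupp (zhat K (sigmaCore M ⊓ 𝐂(K))) M) (g : G) :
    g * a * g⁻¹ ∈ clsupp (zhat K (sigmaCore M ⊓ 𝐂(K))) M ↔ g ∈ M := by
  refine ⟨fun hg => ?_, clsupp_conj h⟩
  obtain ⟨L, hL⟩ := S14.exists_dual hM hK
  obtain ⟨m, hm, z, hz, rfl⟩ := h
  obtain ⟨n, hn, w, hw, e⟩ := hg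
  have := hL.sup_le_left ((hL.zhat_norm z hz (n⁻¹ * g * m)).1 (by
    convert hw using 1
    calc n⁻¹ * g * m * z * (n⁻¹ * g * m)⁻¹ = n⁻¹ * (g * (m * z * m⁻¹) * g⁻¹) * n := by group
      _ = w := by rw [e]; group))
  simpa [mul_assoc] using M.mul_mem (M.mul_mem hn this) (M.inv_mem hm)

theorem TypeP.clsupp_zhat_cent_le (hM : TypeP M) (hK : Hall (kappa M) K M)
    (h : a ∈ clsupp (zhat K (sigmaCore M ⊓ 𝐂(K))) M) : 𝐂[a] ≤ M := fun g hg =>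
  (hM.clsupp_zhat_conj_iff hK h g).1 ((S14.conj_eq_of_mem_cent1 hg).symm ▸ h)

omit [Sz G] in
theorem zhat_facts (hK : Hall (kappa M) K M) (hx : x ∈ zhat K (sigmaCore M ⊓ 𝐂(K)))
    (hab : IsMulCommutative ↥(K ⊔ (sigmaCore M ⊓ 𝐂(K)))) :
    x ∈ sigmaHat M ∧ ¬ PiElt (kappa M)ᶜ x ∧ ¬ PiElt (kappa M) x := by
  obtain ⟨hx, h1, h2⟩ := mem_zhat.1 hx
  obtain ⟨k, hk, y, hy, rfl⟩ := (mem_sup_right_norm (norm_of_cent (cent_symm inf_le_right))).1 hx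
  have hc : k * y = y * k := mem_cent.1 hy.2 k hk
  have hy' : PiElt (kappa M)ᶜ y := ((Msigma_pi M).elt hy.1).mono fun _ hs hk => S14.kappa_sigma' hk hs
  obtain ⟨m1, m2⟩ := pi_decomp_mem (hK.pi.elt hk) hy' hc
  refine ⟨⟨M.mul_mem (hK.le hk) (Msigma_le M hy.1), y, hy.1, fun e => h1 (by rw [e, mul_one]; exact hk),
    by rw [mul_assoc, ← mul_assoc y, ← hc, mul_assoc]⟩, fun h => h2 ?_, fun h => h1 ?_⟩
  · rw [(hK.pi.elt hk).eq_one (h.of_mem_zpowers m1), one_mul]; exact hy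
  · rw [(h.of_mem_zpowers m2).eq_one hy', mul_one]; exact hk

theorem TypeP.clsupp_zhat_facts (hM : TypeP M) (hK : Hall (kappa M) K M)
    (h : a ∈ clsupp (zhat K (sigmaCore M ⊓ 𝐂(K))) M) :
    a ∈ sigmaHat M ∧ ¬ PiElt (kappa M)ᶜ a ∧ ¬ PiElt (kappa M) a := by
  obtain ⟨L, hL⟩ := S14.exists_dual hM hK
  obtain ⟨m, hm, z, hz, rfl⟩ := h
  obtain ⟨h1, h2, h3⟩ := zhat_facts hK hz (abelian_of_cyclic hL.cyclic)
  exact ⟨sigmaHat_conj h1 hm, fun h => h2 h.of_conj, fun h => h3 h.of_conj⟩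

/-- An element of `M` that is not a `κ(M)'`-element is conjugate in `M` to an element of `K K*`. -/
theorem exists_conj_mem_of_not_kappa' (hM : Mx M) (hK : Hall (kappa M) K M) (ha : a ∈ M)
    (hk : ¬ PiElt (kappa M)ᶜ a) : ∃ m ∈ M, m * a * m⁻¹ ∈ K ⊔ (sigmaCore M ⊓ 𝐂(K)) := by
  obtain ⟨y, hy, z, -, hyp, hzp, e, -⟩ := exists_pi_decomp (kappa M) a
  have hy1 : y ≠ 1 := by
    rintro rfl
    exact hk (by rw [e, one_mul]; exact hzp)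
  obtain ⟨m, hm, hle⟩ := hK.exists_conj_le (mmax_sol hM)
    (zpowers_le.2 (zpowers_le.2 ha hy)) hyp.zpowers
  have hy' : m * y * m⁻¹ ∈ K := hle (S14.conj_mem_conj.2 (mem_zpowers y))
  have hP : TypeP M := (nontriv_kappa hM hK).1 (ne_bot_of_mem hy' (S14.conj_ne_one hy1 m))
  refine ⟨m, hm, ?_⟩
  rw [← hP.cent1 hK hy' (S14.conj_ne_one hy1 m), ← conj_cent1]
  refine ⟨M.mul_mem (M.mul_mem hm ha) (M.inv_mem hm), S14.conj_mem_conj.2 ?_⟩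
  obtain ⟨n, rfl⟩ := mem_zpowers_iff.1 hy
  exact cent1_le_cent1_zpow a n (self_mem_cent1 a)

theorem mem_clsupp_zhat_of (hM : Mx M) (hK : Hall (kappa M) K M) (ha : a ∈ M)
    (hk : ¬ PiElt (kappa M)ᶜ a) (hk' : ∀ m ∈ M, m * a * m⁻¹ ∉ K) :
    a ∈ clsupp (zhat K (sigmaCore M ⊓ 𝐂(K))) M := by
  obtain ⟨m, hm, h⟩ := exists_conj_mem_of_not_kappa' hM hK ha hk
  refine ⟨m⁻¹, M.inv_mem hm, _, mem_zhat.2 ⟨h, hk' m hm, fun h' => hk (PiElt.of_conj (g := m) ?_)⟩, by group⟩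
  exact ((Msigma_pi M).elt h'.1).mono fun _ hs hk => S14.kappa_sigma' hk hs

/-- B&G Theorem C(9). -/
theorem TypeP.clsupp_zhat_eq (hM : TypeP M) (h : KappaCompl M U K) :
    clsupp (zhat K (sigmaCore M ⊓ 𝐂(K))) M = sigmaA0 M K \ sigmaA M U := by
  ext a
  rw [Set.mem_sdiff, h.mem_sigmaA_iff hM.1]
  constructor
  · intro ha
    obtain ⟨h1, h2, h3⟩ := hM.clsupp_zhat_facts h.hallK ha
    refine ⟨⟨h1, ?_⟩, fun h' => h2 h'.2⟩
    rintro ⟨k, hk, -, m, -, rfl⟩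
    exact h3 ((h.hallK.pi.elt hk).conj m)
  · rintro ⟨⟨h1, h2⟩, h3⟩
    have hk : ¬ PiElt (kappa M)ᶜ a := fun h' => h3 ⟨h1, h'⟩
    refine mem_clsupp_zhat_of hM.1 h.hallK h1.1 hk fun m hm hm' => h2 ⟨_, hm', ?_, m⁻¹, M.inv_mem hm, by group⟩
    exact S14.conj_ne_one (fun e : a = 1 => hk (e ▸ PiElt.one)) m

/-- Two elements of `A(M)` that are conjugate in `G` are conjugate in `M`. -/
theorem hatA_tame (hM : Mx M) (h : a ∈ hatA M) (hg : g * a * g⁻¹ ∈ hatA M) :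
    ∃ m ∈ M, m * a * m⁻¹ = g * a * g⁻¹ := by
  by_cases hs : a ∈ sigmaCore M
  · exact Msigma_tame hM hs (S14.mem_Ms hM hg.1.1 (((Msigma_pi M).elt hs).conj g))
  · exact ⟨g, hatA_TI hM h hs hg, rfl⟩

/-- Two elements of `A₀(M)` that are conjugate in `G` are conjugate in `M`. -/
theorem TypeP.hatA0_tame (hM : TypeP M) (hK : Hall (kappa M) K M)
    (h : a ∈ hatA M ∪ clsupp (zhat K (sigmaCore M ⊓ 𝐂(K))) M)
    (hg : g * a * g⁻¹ ∈ hatA M ∪ clsupp (zhat K (sigmaCore M ⊓ 𝐂(K))) M) :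
    ∃ m ∈ M, m * a * m⁻¹ = g * a * g⁻¹ := by
  rcases h with h | h <;> rcases hg with hg | hg
  · exact hatA_tame hM.1 h hg
  · exact absurd (h.2.2.conj g) (hM.clsupp_zhat_facts hK hg).2.1
  · exact absurd hg.2.2.of_conj (hM.clsupp_zhat_facts hK h).2.1
  · exact ⟨g, (hM.clsupp_zhat_conj_iff hK h g).1 hg, rfl⟩

/-! ### B&G Theorem II -/

theorem signalizer_facts (hM : Mx M) (hx : x ∈ sigmaCore M) (h1 : x ≠ 1) (hc : ¬ 𝐂[x] ≤ M) :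
    ∃ L : Subgroup G, UniqMax 𝐂[x] L ∧ fittingHallOf L = sigmaCore L ∧ ¬ Cj M L ∧
      supportR M x = sigmaCore L ⊓ 𝐂[x] ∧
      SD (sigmaCore L) (M ⊓ L) L ∧ SD (sigmaCore L ⊓ 𝐂[x]) (M ⊓ 𝐂[x]) 𝐂[x] ∧
      (∀ y ∈ sigmaHat M, y ≠ 1 → (Nat.card (sigmaCore L)).Coprime (Nat.card ↥(M ⊓ 𝐂[y]))) ∧
      (x ∈ hatA L ∧ x ∉ sigmaCore L) ∧ (TypeF L ∨ TypeP2 L) ∧
      (¬ TypeF L → TypeF M ∧ ∃ E : Subgroup G, IsCyclic E ∧ Frob (sigmaCore M) E M) := by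
  have hS : SigMax x M := ⟨hM, hx⟩
  have hm := (sigMany_iff h1 hS).2 hc
  obtain ⟨hu, hR, h2, hF, hL, -⟩ := S14.sigBase_spec h1 hm
  obtain ⟨hsd, hsd', -⟩ := FT_signalizer_context_mmax h1 hm hS
  have hnc := (hL M hS).1
  rw [inf_assoc, inf_eq_right.2 hu.le] at hsd
  refine ⟨sigBase x, hu, Fcore_eq_of_notP1 hF, hnc, supportR_eq_sigR h1 hS, hsd', hsd, fun y hy hy1 => ?_,
    ⟨?_, fun h => h1 (((Msigma_pi _).elt h).eq_one (h2.mono fun _ => S14.tau2_sigma'))⟩, hF, fun h => ?_⟩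
  · by_cases hp : PiGrp (sigma (sigBase x))ᶜ M
    · exact (Msigma_pi _).coprime (hp.of_le inf_le_left)
    obtain ⟨-, -, hfr⟩ := non_disjoint_signalizer_Frobenius h1 hm hS hp
    obtain ⟨E, hE⟩ := Hall.exists (sigma M)ᶜ (mmax_sol hM)
    obtain ⟨hyM, z, hz, hz1, e⟩ := hy
    have hys := (hfr E hE).cent_ker hz hz1 ⟨hyM, mem_cent1.2 e⟩
    exact (Msigma_pi _).coprime' ((Msigma_pi M).of_le ((hfr E hE).cent_ker hys hy1))
      fun q h h' => hnc (S14.cj_of_sigma hM hu.max h' h)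
  · obtain ⟨r, hr, hr1⟩ := exists_ne_one hR
    exact ⟨⟨hu.le (self_mem_cent1 x), r, hr.1, hr1, S14.sigR_comm hr⟩, h1,
      h2.mono fun _ h hk => kappa_tau2' hu.max hk h⟩
  · obtain ⟨a, -, E, -, b, c⟩ := nonFtype_signalizer_base h1 hS hc h
    exact ⟨a, E, b, c⟩

/-- B&G Theorem B(1,4), for any Hall `(σ ∪ κ)'`-subgroup. -/
theorem exists_kappaCompl_of_hall (hM : Mx M) (hU : Hall (sigma M ∪ kappa M)ᶜ U M) :
    ∃ K : Subgroup G, KappaCompl M U K := by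
  obtain ⟨K, hK⟩ := Hall.exists (kappa M) (mmax_sol hM)
  obtain ⟨V, hV⟩ := ex_kappa_compl hM hK
  obtain ⟨g, hg, rfl⟩ := hV.hallU.exists_conj_eq hU (mmax_sol hM)
  exact ⟨_, hV.conj_of_mem hg⟩

theorem sigma'_pgroup_facts {p : ℕ} [Fact p.Prime] {P : Subgroup G} (hM : Mx M) (hP : IsPGroup p P)
    (hle : P ≤ M) (hs : PiGrp (sigma M)ᶜ P) : IsMulCommutative P ∧ rk p P ≤ 2 := by
  refine ⟨sigma'_nil_abelian hM hle hs (pgroup_nil hP), ?_⟩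
  by_cases h1 : P = ⊥
  · rw [rk_eq_zero_iff.2 (by rw [h1, card_bot, Nat.dvd_one]; exact (Fact.out : p.Prime).ne_one)]
    exact Nat.zero_le _
  · exact (rk_mono hle p).trans (sigma'_rk_le_two hM (hs.mem_of_pgroup hP h1))

theorem KappaCompl.uniqMax_cent_set (hM : Mx M) (h : KappaCompl M U K) {X : Set G}
    (hX : X ⊆ (U : Set G) \ {1}) (hne : X.Nonempty) (hc : sigmaCore M ⊓ centralizer X ≠ ⊥) :
    UniqMax (centralizer X) M := by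
  obtain ⟨x, hx⟩ := hne
  rw [← centralizer_closure] at hc ⊢
  exact ((kappa_structure hM h).2.2.1 (closure X) ((closure_le _).2 fun y hy => (hX hy).1)
    (ne_bot_of_mem (subset_closure hx) (hX hx).2) hc).1

end Cfsg.Lib.BG.Z
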